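import Mathlib

set_option autoImplicit false

namespace Cfsg.Agent.Lib.Helper17

open Subgroup

/-- A homomorphism out of a simple group is injective or trivial. -/
theorem ker_eq_bot_or_top {G H : Type*} [Group G] [Group H] [IsSimpleGroup G] (f : G →* H) :
    f.ker = ⊥ ∨ f.ker = ⊤ :=
  (inferInstance : f.ker.Normal).eq_bot_or_eq_top

/-- The coset action of a simple group on the cosets of a proper subgroup is faithful. -/
theorem toPermHom_injective {G : Type*} [Group G] [IsSimpleGroup G] (H : Subgroup G) (hH : H ≠ ⊤) :
    Function.Injective (MulAction.toPermHom G (G ⧸ H)) := by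
  rw [← MonoidHom.ker_eq_bot_iff]
  rcases ker_eq_bot_or_top (MulAction.toPermHom G (G ⧸ H)) with h | h
  · exact h
  · exfalso
    apply hH
    rw [← Subgroup.normalCore_eq_ker] at h
    exact top_le_iff.mp (h ▸ H.normalCore_le)

/-- An injective permutation representation of a non-commutative simple group lands in the
alternating group. -/
theorem sign_eq_one_of_simple {G α : Type*} [Group G] [IsSimpleGroup G]
    (hG : ¬ IsMulCommutative G) [Fintype α] [DecidableEq α]
    (f : G →* Equiv.Perm α) (g : G) : Equiv.Perm.sign (f g) = 1 := by
  rcases ker_eq_bot_or_top (Equiv.Perm.sign.comp f) with h | h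
  · exfalso
    apply hG
    rw [MonoidHom.ker_eq_bot_iff] at h
    refine ⟨⟨fun a b => h ?_⟩⟩
    simp only [map_mul]
    exact mul_comm _ _
  · have : g ∈ (Equiv.Perm.sign.comp f).ker := h ▸ Subgroup.mem_top g
    simpa [MonoidHom.mem_ker] using this

/-- Embedding of a non-commutative simple group into an alternating group from a faithful action
on a finite set. -/
theorem exists_embedding_alternating {G α : Type*} [Group G] [IsSimpleGroup G]
    (hG : ¬ IsMulCommutative G) [Fintype α] [DecidableEq α]
    (f : G →* Equiv.Perm α) (hf : Function.Injective f) :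
    ∃ φ : G →* ↥(alternatingGroup α), Function.Injective φ := by
  refine ⟨f.codRestrict (alternatingGroup α) (fun g => ?_), ?_⟩
  · rw [Equiv.Perm.mem_alternatingGroup]
    exact sign_eq_one_of_simple hG f g
  · intro a b hab
    apply hf
    have := congrArg Subtype.val hab
    simpa using this

end Cfsg.Agent.Lib.Helper17
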