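import Mathlib
import Cfsg.Agent.Lib.Helper17.Basic

set_option autoImplicit false

namespace Cfsg.Agent.Lib.Helper17

open Subgroup

variable {G : Type*} [Group G] [Finite G]

/-- The order of a Sylow subgroup when `|G| = p^k * m` with `p ∤ m`. -/
theorem card_sylow_of_card_eq {p k m : ℕ} [hp : Fact p.Prime] (P : Sylow p G)
    (h : Nat.card G = p ^ k * m) (hm : ¬ p ∣ m) : Nat.card ↥(P : Subgroup G) = p ^ k := by
  have hm0 : m ≠ 0 := by rintro rfl; exact hm (dvd_zero p)
  rw [P.card_eq_multiplicity, h, Nat.factorization_mul (pow_ne_zero _ hp.out.ne_zero) hm0,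
    hp.out.factorization_pow]
  simp [Nat.factorization_eq_zero_of_not_dvd hm]

/-- The index of a Sylow subgroup when `|G| = p^k * m` with `p ∤ m`. -/
theorem index_sylow_of_card_eq {p k m : ℕ} [hp : Fact p.Prime] (P : Sylow p G)
    (h : Nat.card G = p ^ k * m) (hm : ¬ p ∣ m) : (P : Subgroup G).index = m := by
  have h1 := card_sylow_of_card_eq P h hm
  have h2 := (P : Subgroup G).card_mul_index
  rw [h1, h] at h2
  exact Nat.eq_of_mul_eq_mul_left (pow_pos hp.out.pos k) h2

/-- The number of Sylow subgroups divides the `p'`-part. -/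
theorem card_sylow_dvd_of_card_eq {p k m : ℕ} [hp : Fact p.Prime]
    (h : Nat.card G = p ^ k * m) (hm : ¬ p ∣ m) : Nat.card (Sylow p G) ∣ m := by
  obtain ⟨P⟩ : Nonempty (Sylow p G) := inferInstance
  rw [← index_sylow_of_card_eq P h hm]
  exact P.card_dvd_index

/-- `|N(P)| * n_p = |G|`. -/
theorem card_normalizer_mul_card_sylow {p : ℕ} [Fact p.Prime] (P : Sylow p G) :
    Nat.card ↥(normalizer ((P : Subgroup G) : Set G)) * Nat.card (Sylow p G) = Nat.card G := by
  rw [P.card_eq_index_normalizer]
  exact Subgroup.card_mul_index _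

/-- In a simple group, a Sylow subgroup which is neither trivial nor everything is not normal,
so there are at least two of them. -/
theorem one_lt_card_sylow_of_simple [IsSimpleGroup G] {p : ℕ} [Fact p.Prime] (P : Sylow p G)
    (h1 : (P : Subgroup G) ≠ ⊥) (h2 : (P : Subgroup G) ≠ ⊤) : 1 < Nat.card (Sylow p G) := by
  by_contra hcon
  have hle : Nat.card (Sylow p G) ≤ 1 := by omega
  haveI : Subsingleton (Sylow p G) := (Finite.card_le_one_iff_subsingleton).mp hle
  have hn : (P : Subgroup G).Normal := P.normal_of_subsingleton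
  rcases hn.eq_bot_or_eq_top with h | h
  · exact h1 h
  · exact h2 h

/-- Burnside's transfer theorem for simple groups: a nontrivial proper Sylow subgroup is not
central in its normalizer. -/
theorem not_normalizer_le_centralizer_of_simple [IsSimpleGroup G] {p : ℕ} [Fact p.Prime]
    (P : Sylow p G) (h1 : (P : Subgroup G) ≠ ⊥) (h2 : (P : Subgroup G) ≠ ⊤) :
    ¬ normalizer ((P : Subgroup G) : Set G) ≤ centralizer ((P : Subgroup G) : Set G) := by
  intro hP
  have hc := MonoidHom.ker_transferSylow_isComplement' P hP
  rcases ker_eq_bot_or_top (MonoidHom.transferSylow P hP) with h | h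
  · rw [h] at hc
    exact h2 (isComplement'_bot_left.mp hc)
  · rw [h] at hc
    exact h1 (isComplement'_top_left.mp hc)

/-- A simple group with a subgroup of index `k` has order dividing `k!`. -/
theorem card_dvd_factorial_of_simple [IsSimpleGroup G] (H : Subgroup G) (hH : H ≠ ⊤) :
    Nat.card G ∣ (H.index).factorial := by
  classical
  have hinj := toPermHom_injective H hH
  have h1 := card_dvd_of_injective _ hinj
  haveI : Fintype (G ⧸ H) := Fintype.ofFinite _
  rwa [Nat.card_perm] at h1

/-- A non-commutative simple group with a subgroup of index `k` has `2 * |G| ∣ k!`. -/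
theorem two_mul_card_dvd_factorial_of_simple [IsSimpleGroup G] (hG : ¬ IsMulCommutative G)
    (H : Subgroup G) (hH : H ≠ ⊤) : 2 * Nat.card G ∣ (H.index).factorial := by
  classical
  haveI : Fintype (G ⧸ H) := Fintype.ofFinite _
  have hinj := toPermHom_injective H hH
  obtain ⟨φ, hφ⟩ := exists_embedding_alternating hG _ hinj
  have h1 := card_dvd_of_injective _ hφ
  have hnt : Nontrivial (G ⧸ H) := by
    rw [← Finite.one_lt_card_iff_nontrivial]
    have h0 : H.index ≠ 0 := Subgroup.index_ne_zero_of_finite
    have h1' : H.index ≠ 1 := fun h => hH (Subgroup.index_eq_one.mp h)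
    show 1 < H.index
    omega
  have h2 := two_mul_nat_card_alternatingGroup (α := G ⧸ H)
  have h3 : Nat.card (Equiv.Perm (G ⧸ H)) = (H.index).factorial := Nat.card_perm
  rw [← h3, ← h2]
  exact Nat.mul_dvd_mul_left 2 h1

/-- Simple group: order divides `(n_p)!` when the Sylow `p`-subgroup is not normal. -/
theorem card_dvd_factorial_card_sylow [IsSimpleGroup G] {p : ℕ} [Fact p.Prime]
    (h : 1 < Nat.card (Sylow p G)) : Nat.card G ∣ (Nat.card (Sylow p G)).factorial := by
  obtain ⟨P⟩ : Nonempty (Sylow p G) := inferInstance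
  rw [P.card_eq_index_normalizer] at h ⊢
  apply card_dvd_factorial_of_simple
  intro htop
  rw [htop, Subgroup.index_top] at h
  exact lt_irrefl _ h

/-- Non-commutative simple group: `2 * |G| ∣ (n_p)!`. -/
theorem two_mul_card_dvd_factorial_card_sylow [IsSimpleGroup G] (hG : ¬ IsMulCommutative G)
    {p : ℕ} [Fact p.Prime] (h : 1 < Nat.card (Sylow p G)) :
    2 * Nat.card G ∣ (Nat.card (Sylow p G)).factorial := by
  obtain ⟨P⟩ : Nonempty (Sylow p G) := inferInstance
  rw [P.card_eq_index_normalizer] at h ⊢
  apply two_mul_card_dvd_factorial_of_simple hG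
  intro htop
  rw [htop, Subgroup.index_top] at h
  exact lt_irrefl _ h

/-- A finite simple group whose order is not prime is not commutative. -/
theorem not_comm_of_simple_of_not_prime [IsSimpleGroup G] (h : ¬ (Nat.card G).Prime) :
    ¬ IsMulCommutative G := by
  intro hc
  apply h
  letI : CommGroup G := { ‹Group G› with mul_comm := hc.is_comm.comm }
  exact IsSimpleGroup.prime_card

end Cfsg.Agent.Lib.Helper17
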