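import Cfsg.Agent.Lib.Helper6.Uni.Defs

/-! # UNI-R4 (S2314 hive of helper6): cells of the restricted pair are the cells of `P` (helper17) -/

set_option autoImplicit false

namespace Cfsg.Agent.Lib.Helper6.Uni

open Cfsg Cfsg.Agent.Lib.Helper6 Cfsg.Agent.Lib.Helper6.St

universe u

variable {G : Type u} [Group G]

/-- the image in `G` of a cell of a pair on `P_J` whose `B` is `B ∩ P_J` is the cell of `P` -/
theorem r4_image (P : Cfsg.BNPair G) (J : Set G) (Q : Cfsg.BNPair ↥(P.parabolic J))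
    (hB : Q.B = rB P J) (n : ↥(P.parabolic J)) :
    (Subtype.val : ↥(P.parabolic J) → G) '' (C Q n) = C P (n : G) := by
  have hle : P.B ≤ P.parabolic J := le_sup_left
  unfold rB at hB
  ext g
  constructor
  · rintro ⟨h, hh, rfl⟩
    rw [mem_C] at hh ⊢
    obtain ⟨x, hx, y, hy, rfl⟩ := hh
    rw [hB, Subgroup.mem_subgroupOf] at hx hy
    exact ⟨(x : G), hx, (y : G), hy, by simp⟩
  · intro hg
    rw [mem_C] at hg
    obtain ⟨x, hx, y, hy, rfl⟩ := hg
    refine ⟨⟨x, hle hx⟩ * n * ⟨y, hle hy⟩, ?_, by simp⟩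
    rw [mem_C]
    refine ⟨⟨x, hle hx⟩, ?_, ⟨y, hle hy⟩, ?_, rfl⟩
    · rw [hB, Subgroup.mem_subgroupOf]; exact hx
    · rw [hB, Subgroup.mem_subgroupOf]; exact hy

/-- UNI-R4. Cells of the restricted pair are the cells of `P`. -/
theorem card_C_restrict (P : Cfsg.BNPair G) (J : Set G) (Q : Cfsg.BNPair ↥(P.parabolic J)) (hB : Q.B = rB P J)
    (n : ↥(P.parabolic J)) : Nat.card (C Q n) = Nat.card (C P (n : G)) := by
  rw [← r4_image P J Q hB n]
  exact (Nat.card_image_of_injective Subtype.val_injective _).symm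

end Cfsg.Agent.Lib.Helper6.Uni
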