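import Mathlib

/-! # S2314 hive (helper6), leaf UNI-R5: re-indexing the powerset of a finset inside a subtype. -/

set_option autoImplicit false

namespace Cfsg.Agent.Lib.Helper6.Uni

/-- UNI-R5. Re-indexing the powerset of a finset all of whose elements satisfy `q`. -/
theorem sum_powerset_subtype {α M : Type*} [AddCommMonoid M] (q : α → Prop) [DecidablePred q] (J : Finset α)
    (hJ : ∀ x ∈ J, q x) (f : Finset α → M) :
    ∑ K' ∈ (J.subtype q).powerset, f (K'.map (Function.Embedding.subtype q)) = ∑ K ∈ J.powerset, f K := by
  classical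
  refine Finset.sum_bij' (fun K' _ => K'.map (Function.Embedding.subtype q)) (fun K _ => K.subtype q)
    ?_ ?_ ?_ ?_ ?_
  · intro K' hK'
    rw [Finset.mem_powerset] at hK' ⊢
    intro x hx
    rcases Finset.mem_map.1 hx with ⟨y, hy, rfl⟩
    have := hK' hy
    rw [Finset.mem_subtype] at this
    exact this
  · intro K hK
    rw [Finset.mem_powerset] at hK ⊢
    intro y hy
    rw [Finset.mem_subtype] at hy ⊢
    exact hK hy
  · intro K' _
    ext y
    simp only [Finset.mem_subtype, Finset.mem_map, Function.Embedding.coe_subtype]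
    constructor
    · rintro ⟨z, hz, hzy⟩
      have : z = y := Subtype.ext hzy
      rwa [← this]
    · intro hy
      exact ⟨y, hy, rfl⟩
  · intro K hK
    rw [Finset.mem_powerset] at hK
    ext x
    simp only [Finset.mem_subtype, Finset.mem_map, Function.Embedding.coe_subtype]
    constructor
    · rintro ⟨y, hy, rfl⟩
      exact hy
    · intro hx
      exact ⟨⟨x, hJ x (hK hx)⟩, hx, rfl⟩
  · intro K' _
    rfl

end Cfsg.Agent.Lib.Helper6.Uni
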