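import Mathlib

set_option autoImplicit false

namespace Cfsg.Agent.Lib.Helper17

open Subgroup

variable {G : Type*} [Group G] [Finite G]

/-- Normalizers grow in `p`-groups: if `D < P` with `P` a `p`-subgroup then
`D < P ⊓ N(D)`. -/
theorem lt_inf_normalizer_of_lt {p : ℕ} [Fact p.Prime] (P D : Subgroup G) (hP : IsPGroup p P)
    (hlt : D < P) : D < P ⊓ normalizer (D : Set G) := by
  have hle : D ≤ P := hlt.le
  haveI : Group.IsNilpotent ↥P := hP.isNilpotent
  have hnc : NormalizerCondition ↥P := Group.normalizerCondition_of_isNilpotent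
  have hlt' : D.subgroupOf P < ⊤ := by
    rw [lt_top_iff_ne_top]
    intro h
    rw [subgroupOf_eq_top] at h
    exact absurd (le_antisymm hle h) hlt.ne
  have h1 := hnc _ hlt'
  rw [← subgroupOf_normalizer_eq hle] at h1
  obtain ⟨_, g, hg1, hg2⟩ := SetLike.lt_iff_le_and_exists.mp h1
  rw [mem_subgroupOf] at hg1 hg2
  refine lt_of_le_of_ne (le_inf hle le_normalizer) ?_
  intro h
  apply hg2
  rw [h]
  exact ⟨g.2, hg1⟩

/-- Cardinality version. -/
theorem card_lt_card_inf_normalizer {p : ℕ} [Fact p.Prime] (P D : Subgroup G) (hP : IsPGroup p P)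
    (hlt : D < P) : Nat.card ↥D < Nat.card ↥(P ⊓ normalizer (D : Set G) : Subgroup G) := by
  have h := lt_inf_normalizer_of_lt P D hP hlt
  have h1 : Nat.card ↥D ≤ Nat.card ↥(P ⊓ normalizer (D : Set G) : Subgroup G) :=
    Nat.le_of_dvd Nat.card_pos (Subgroup.card_dvd_of_le h.le)
  refine lt_of_le_of_ne h1 ?_
  intro heq
  exact h.ne (Subgroup.eq_of_le_of_card_ge h.le (le_of_eq heq.symm))

/-- The image in `G` of a subgroup of a subgroup has the same cardinality. -/
theorem card_map_subtype (N : Subgroup G) (S : Subgroup ↥N) :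
    Nat.card ↥(S.map N.subtype) = Nat.card ↥S :=
  (Nat.card_congr (Subgroup.equivMapOfInjective _ _ N.subtype_injective).toEquiv).symm

/-- `|K.subgroupOf N| = |K|` when `K ≤ N`. -/
theorem card_subgroupOf_of_le {N K : Subgroup G} (h : K ≤ N) :
    Nat.card ↥(K.subgroupOf N) = Nat.card ↥K :=
  Nat.card_congr (Subgroup.subgroupOfEquivOfLe h).toEquiv

/-- A `p`-subgroup `K ≤ N` of `G` lies in (the image of) a Sylow `p`-subgroup of `N`. -/
theorem exists_sylow_map_ge {p : ℕ} [Fact p.Prime] (N K : Subgroup G) (hK : IsPGroup p K)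
    (hKN : K ≤ N) : ∃ S : Sylow p ↥N, K ≤ (S : Subgroup ↥N).map N.subtype := by
  have hK' : IsPGroup p (K.subgroupOf N) := hK.comap_subtype
  obtain ⟨S, hS⟩ := hK'.exists_le_sylow
  refine ⟨S, ?_⟩
  intro x hx
  exact ⟨⟨x, hKN hx⟩, hS (by simpa [mem_subgroupOf] using hx), rfl⟩

/-- All Sylow `p`-subgroups have the same cardinality. -/
theorem card_sylow_eq_card_sylow {p : ℕ} [Fact p.Prime] (S T : Sylow p G) :
    Nat.card ↥(S : Subgroup G) = Nat.card ↥(T : Subgroup G) := by
  rw [S.card_eq_multiplicity, T.card_eq_multiplicity]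

/-- If the image of a Sylow subgroup `S` of `N` lies in a `p`-subgroup `T` of `G`, then it equals `T ⊓ N`. -/
theorem sylow_map_eq_inf {p : ℕ} [Fact p.Prime] (N : Subgroup G) (S : Sylow p ↥N) (T : Subgroup G)
    (hT : IsPGroup p T) (h : (S : Subgroup ↥N).map N.subtype ≤ T) :
    (S : Subgroup ↥N).map N.subtype = T ⊓ N := by
  have h1 : IsPGroup p ((T ⊓ N).subgroupOf N) := (hT.to_le inf_le_left).comap_subtype
  have h2 : (S : Subgroup ↥N) ≤ (T ⊓ N).subgroupOf N := by
    intro x hx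
    rw [mem_subgroupOf]
    exact ⟨h ⟨x, hx, rfl⟩, x.2⟩
  have h3 := S.is_maximal' h1 h2
  rw [← h3, subgroupOf_map_subtype, inf_assoc, inf_idem]

end Cfsg.Agent.Lib.Helper17
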