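import Mathlib

set_option autoImplicit false

namespace Cfsg.Agent.Lib.Helper17

/-- If all fibers of `f : α → β` have cardinality `k` then `|α| = |β| * k`. -/
theorem card_eq_mul_of_fibers {α β : Type*} [Finite α] [Finite β] (f : α → β) (k : ℕ)
    (h : ∀ b, Nat.card {a // f a = b} = k) : Nat.card α = Nat.card β * k := by
  classical
  letI : Fintype β := Fintype.ofFinite β
  rw [← Nat.card_congr (Equiv.sigmaFiberEquiv f), Nat.card_sigma]
  rw [Finset.sum_congr rfl (fun b _ => h b), Finset.sum_const, Finset.card_univ, smul_eq_mul,
    Nat.card_eq_fintype_card]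

/-- The size of a conjugacy class is the index of the centralizer. -/
theorem index_centralizer_eq_card_isConj {G : Type*} [Group G] (g : G) :
    (Subgroup.centralizer ({g} : Set G)).index = Nat.card {h : G // IsConj g h} := by
  have h1 := Subgroup.index_comap_of_surjective (MulAction.stabilizer (ConjAct G) g)
    (f := (ConjAct.toConjAct (G := G)).toMonoidHom) (ConjAct.toConjAct (G := G)).surjective
  refine (congrArg Subgroup.index (Subgroup.centralizer_eq_comap_stabilizer g)).trans
    (h1.trans ?_)
  rw [MulAction.index_stabilizer, ← Nat.card_coe_set_eq]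
  apply Nat.card_congr
  refine Equiv.subtypeEquivRight ?_
  intro h
  rw [ConjAct.mem_orbit_conjAct, isConj_comm]

end Cfsg.Agent.Lib.Helper17
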