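import Mathlib
import Cfsg.Agent.Lib.Helper17.Basic
import Cfsg.Agent.Lib.Helper17.Counting

set_option autoImplicit false

namespace Cfsg.Agent.Lib.Helper17

open MulAction Subgroup

section General

variable {G X : Type*} [Group G] [MulAction G X]

/-- If `a` commutes with `t`, then `a` preserves the fixed points of `t`. -/
theorem smul_mem_fixedBy_of_commute {a t : G} (h : a * t = t * a) {x : X}
    (hx : x ∈ fixedBy X t) : a • x ∈ fixedBy X t := by
  rw [mem_fixedBy] at hx ⊢
  rw [← mul_smul, ← h, mul_smul, hx]

/-- **Tool F**: if a `p`-group `A` commutes with `t`, the number of fixed points of `t` is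
congruent mod `p` to the number of common fixed points of `t` and `A`. -/
theorem card_fixedBy_modEq_card_inter [Finite X] {p : ℕ} [Fact p.Prime] (A : Subgroup G)
    (hA : IsPGroup p A) (t : G) (hAt : ∀ a ∈ A, a * t = t * a) :
    Nat.card (fixedBy X t) ≡ Nat.card (fixedBy X t ∩ fixedPoints A X : Set X) [MOD p] := by
  classical
  let S : SubMulAction A X :=
    { carrier := fixedBy X t
      smul_mem' := fun a x hx => by
        show (a : G) • x ∈ fixedBy X t
        exact smul_mem_fixedBy_of_commute (hAt a a.2) hx }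
  have h1 := hA.card_modEq_card_fixedPoints (↥S)
  have h2 : Nat.card ↥S = Nat.card (fixedBy X t) := rfl
  have h3 : Nat.card (fixedPoints A ↥S) = Nat.card (fixedBy X t ∩ fixedPoints A X : Set X) := by
    apply Nat.card_congr
    refine ⟨fun y => ⟨y.1.1, y.1.2, fun a => ?_⟩, fun y => ⟨⟨y.1, y.2.1⟩, fun a => ?_⟩,
      fun y => rfl, fun y => rfl⟩
    · have := y.2 a
      exact congrArg Subtype.val this
    · apply Subtype.ext
      exact y.2.2 a
  rw [h2, h3] at h1
  exact h1

/-- Subgroup version of Tool F: if the `p`-group `A` commutes elementwise with the subgroup `T`,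
then `|Fix(T)| ≡ |Fix(T) ∩ Fix(A)|` mod `p`. -/
theorem card_fixedPoints_modEq_card_inter [Finite X] {p : ℕ} [Fact p.Prime] (A T : Subgroup G)
    (hA : IsPGroup p A) (hAT : ∀ a ∈ A, ∀ s ∈ T, a * s = s * a) :
    Nat.card (fixedPoints T X) ≡ Nat.card (fixedPoints T X ∩ fixedPoints A X : Set X) [MOD p] := by
  classical
  let S : SubMulAction A X :=
    { carrier := fixedPoints T X
      smul_mem' := fun a x hx => by
        intro s
        show (s : G) • ((a : G) • x) = (a : G) • x
        have h1 : (s : G) • x = x := hx s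
        rw [← mul_smul, ← hAT a a.2 s s.2, mul_smul, h1] }
  have h1 := hA.card_modEq_card_fixedPoints (↥S)
  have h2 : Nat.card ↥S = Nat.card (fixedPoints T X) := rfl
  have h3 : Nat.card (fixedPoints A ↥S) = Nat.card (fixedPoints T X ∩ fixedPoints A X : Set X) := by
    apply Nat.card_congr
    refine ⟨fun y => ⟨y.1.1, y.1.2, fun a => ?_⟩, fun y => ⟨⟨y.1, y.2.1⟩, fun a => ?_⟩,
      fun y => rfl, fun y => rfl⟩
    · have := y.2 a
      exact congrArg Subtype.val this
    · apply Subtype.ext
      exact y.2.2 a
  rw [h2, h3] at h1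
  exact h1

/-- Generic-instance form of the `p`-group fixed point congruence for a subgroup acting through
the ambient action. -/
theorem card_modEq_card_fixedPoints_subgroup [Finite X] {p : ℕ} [Fact p.Prime] (A : Subgroup G)
    (hA : IsPGroup p A) : Nat.card X ≡ Nat.card (fixedPoints A X) [MOD p] :=
  hA.card_modEq_card_fixedPoints X

/-- The fixed points of the cyclic subgroup generated by `t` are the fixed points of `t`. -/
theorem fixedPoints_zpowers_eq (t : G) : fixedPoints (zpowers t) X = fixedBy X t := by
  ext x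
  constructor
  · intro hx
    exact hx ⟨t, mem_zpowers t⟩
  · intro hx s
    have h1 : t ∈ stabilizer G x := hx
    have h2 : zpowers t ≤ stabilizer G x := (zpowers_le).mpr h1
    exact h2 s.2

end General

section SylowFix

variable {G : Type*} [Group G] {p : ℕ} [Fact p.Prime]

/-- A Sylow subgroup fixes only itself in the conjugation action on Sylow subgroups. -/
theorem fixedPoints_sylow (P : Sylow p G) :
    fixedPoints (P : Subgroup G) (Sylow p G) = {P} := by
  ext Q
  rw [P.2.sylow_mem_fixedPoints_iff, Set.mem_singleton_iff]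
  constructor
  · intro h
    exact Sylow.ext (P.3 Q.2 h)
  · rintro rfl
    exact le_rfl

/-- An element fixes a Sylow subgroup under conjugation iff it normalizes it. -/
theorem mem_fixedBy_sylow_iff (t : G) (R : Sylow p G) :
    R ∈ fixedBy (Sylow p G) t ↔ t ∈ normalizer ((R : Subgroup G) : Set G) := by
  rw [mem_fixedBy, Sylow.smul_eq_iff_mem_normalizer]
  exact Iff.rfl

/-- If `t` commutes with the Sylow `p`-subgroup `P`, the number of Sylow `p`-subgroups
normalized by `t` is `1` mod `p`. -/
theorem card_fixedBy_sylow_modEq_one [Finite (Sylow p G)] (P : Sylow p G) (t : G)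
    (ht : ∀ a ∈ (P : Subgroup G), a * t = t * a) :
    Nat.card (fixedBy (Sylow p G) t) ≡ 1 [MOD p] := by
  have h := card_fixedBy_modEq_card_inter (X := Sylow p G) (P : Subgroup G) P.2 t ht
  have h2 : (fixedBy (Sylow p G) t ∩ fixedPoints (P : Subgroup G) (Sylow p G) : Set (Sylow p G))
      = {P} := by
    rw [fixedPoints_sylow]
    apply Set.inter_eq_right.mpr
    rintro Q rfl
    rw [mem_fixedBy_sylow_iff]
    rw [mem_normalizer_iff]
    intro n
    constructor
    · intro hn
      have := ht n hn
      have h3 : t * n * t⁻¹ = n := by rw [← this, mul_inv_cancel_right]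
      rw [h3]; exact hn
    · intro hn
      have := ht _ hn
      have h3 : n = t⁻¹ * (t * n * t⁻¹) * t := by group
      rw [h3, mul_assoc, this, ← mul_assoc, inv_mul_cancel, one_mul]
      exact hn
  rw [h2] at h
  simpa using h

end SylowFix

section Parity

/-- **Tool S**: in a non-commutative simple group acting on a finite set, an element with
`t * t = 1` has a number of fixed points congruent to the degree mod `4`. -/
theorem card_fixedBy_modEq_four {G X : Type*} [Group G] [IsSimpleGroup G]
    (hnc : ¬ IsMulCommutative G) [MulAction G X] [Finite X] (t : G) (ht : t * t = 1) :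
    Nat.card (fixedBy X t) ≡ Nat.card X [MOD 4] := by
  classical
  letI : Fintype X := Fintype.ofFinite X
  set σ : Equiv.Perm X := MulAction.toPermHom G X t with hσ
  have hσ2 : σ ^ 2 = 1 := by
    rw [hσ, ← map_pow, pow_two, ht, map_one]
  have hsign : Equiv.Perm.sign σ = 1 := sign_eq_one_of_simple hnc (MulAction.toPermHom G X) t
  have h1 := Equiv.Perm.sign_of_pow_two_eq_one hσ2
  rw [hsign] at h1
  have heven : Even ((Fintype.card X - Fintype.card (Function.fixedPoints σ)) / 2) := by
    rw [← neg_one_pow_eq_one_iff_even (R := ℤˣ) (by decide)]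
    exact h1.symm
  have hfix : Fintype.card (Function.fixedPoints σ) = Fintype.card X - σ.support.card := by
    rw [Equiv.Perm.card_fixedPoints, Equiv.Perm.sum_cycleType]
  have hle : σ.support.card ≤ Fintype.card X := Finset.card_le_univ _
  have h2 : 2 ∣ σ.support.card := Equiv.Perm.two_dvd_card_support hσ2
  have hset : (fixedBy X t : Set X) = Function.fixedPoints σ := by
    ext x
    simp [hσ, Function.mem_fixedPoints, Function.IsFixedPt]
  have hcard : Nat.card (fixedBy X t) = Fintype.card (Function.fixedPoints σ) := by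
    rw [hset, Nat.card_eq_fintype_card]
  rw [hcard, Nat.card_eq_fintype_card]
  obtain ⟨c, hc⟩ := heven
  obtain ⟨d, hd⟩ := h2
  rw [hfix] at hc ⊢
  have : Fintype.card X - (Fintype.card X - σ.support.card) = σ.support.card := by omega
  rw [this, hd] at hc
  have hd2 : d = c + c := by omega
  rw [Nat.ModEq]
  omega

end Parity

section Faithful

/-- A simple group acting nontrivially acts faithfully. -/
theorem eq_one_of_forall_smul_eq {G X : Type*} [Group G] [IsSimpleGroup G] [MulAction G X]
    (hX : ∃ g : G, ∃ x : X, g • x ≠ x) (t : G) (ht : ∀ x : X, t • x = x) : t = 1 := by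
  rcases ker_eq_bot_or_top (MulAction.toPermHom G X) with h | h
  · have : t ∈ (MulAction.toPermHom G X).ker := by
      rw [MonoidHom.mem_ker]
      ext x
      simpa using ht x
    rw [h] at this
    exact Subgroup.mem_bot.mp this
  · exfalso
    obtain ⟨g, x, hgx⟩ := hX
    apply hgx
    have : g ∈ (MulAction.toPermHom G X).ker := h ▸ Subgroup.mem_top g
    rw [MonoidHom.mem_ker] at this
    have := congrArg (fun σ : Equiv.Perm X => σ x) this
    simpa using this

end Faithful

section DoubleCount

variable {G X : Type*} [Group G] [MulAction G X]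

/-- Conjugate elements have the same number of fixed points. -/
theorem card_fixedBy_conj (g t : G) :
    Nat.card (fixedBy X (g * t * g⁻¹)) = Nat.card (fixedBy X t) := by
  apply Nat.card_congr
  refine ⟨fun x => ⟨g⁻¹ • x.1, ?_⟩, fun x => ⟨g • x.1, ?_⟩, fun x => ?_, fun x => ?_⟩
  · have := x.2
    rw [mem_fixedBy] at this ⊢
    rw [← mul_smul]
    conv_rhs => rw [← this]
    rw [← mul_smul]
    congr 1
    group
  · have := x.2
    rw [mem_fixedBy] at this ⊢
    rw [← mul_smul, mul_assoc, inv_mul_cancel, mul_one, mul_smul, this]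
  · apply Subtype.ext
    simp
  · apply Subtype.ext
    simp

theorem card_fixedBy_of_isConj {s t : G} (h : IsConj t s) :
    Nat.card (fixedBy X s) = Nat.card (fixedBy X t) := by
  obtain ⟨g, hg⟩ := isConj_iff.mp h
  rw [← hg, card_fixedBy_conj]

/-- The number of conjugates of `t` fixing `g • x₀` equals the number fixing `x₀`. -/
theorem card_isConj_fixing_smul (g t : G) (x₀ : X) :
    Nat.card {s : G // IsConj t s ∧ s • (g • x₀) = g • x₀} =
      Nat.card {s : G // IsConj t s ∧ s • x₀ = x₀} := by
  apply Nat.card_congr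
  refine ⟨fun s => ⟨g⁻¹ * s.1 * g, ?_, ?_⟩, fun s => ⟨g * s.1 * g⁻¹, ?_, ?_⟩, fun s => ?_,
    fun s => ?_⟩
  · exact s.2.1.trans (isConj_iff.mpr ⟨g⁻¹, by simp⟩)
  · have := s.2.2
    rw [mul_smul, mul_smul, this, inv_smul_smul]
  · exact s.2.1.trans (isConj_iff.mpr ⟨g, rfl⟩)
  · have := s.2.2
    rw [mul_smul, mul_smul, inv_smul_smul, this]
  · apply Subtype.ext
    simp only
    group
  · apply Subtype.ext
    simp only
    group

/-- **Tool DC**: double counting pairs (conjugate of `t`, fixed point). -/
theorem card_isConj_mul_card_fixedBy [Finite G] [Finite X] [IsPretransitive G X] (t : G)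
    (x₀ : X) :
    Nat.card {s : G // IsConj t s} * Nat.card (fixedBy X t) =
      Nat.card X * Nat.card {s : G // IsConj t s ∧ s • x₀ = x₀} := by
  set T := {q : G × X // IsConj t q.1 ∧ q.1 • q.2 = q.2} with hT
  have h1 : Nat.card T = Nat.card {s : G // IsConj t s} * Nat.card (fixedBy X t) := by
    apply card_eq_mul_of_fibers (fun q : T => (⟨q.1.1, q.2.1⟩ : {s : G // IsConj t s}))
    intro b
    rw [← card_fixedBy_of_isConj (X := X) b.2]
    apply Nat.card_congr
    refine ⟨fun a => ⟨a.1.1.2, ?_⟩, fun x => ⟨⟨(b.1, x.1), b.2, x.2⟩, rfl⟩, fun a => ?_,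
      fun x => rfl⟩
    · have h2 := a.2
      have h3 := a.1.2.2
      have h4 : a.1.1.1 = b.1 := congrArg Subtype.val h2
      rw [mem_fixedBy, ← h4]
      exact h3
    · apply Subtype.ext
      apply Subtype.ext
      have h2 := a.2
      have h4 : a.1.1.1 = b.1 := congrArg Subtype.val h2
      exact Prod.ext h4.symm rfl
  have h2 : Nat.card T = Nat.card X * Nat.card {s : G // IsConj t s ∧ s • x₀ = x₀} := by
    apply card_eq_mul_of_fibers (fun q : T => q.1.2)
    intro x
    obtain ⟨g, rfl⟩ := MulAction.exists_smul_eq G x₀ x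
    rw [← card_isConj_fixing_smul g t x₀]
    apply Nat.card_congr
    refine ⟨fun a => ⟨a.1.1.1, a.1.2.1, ?_⟩, fun s => ⟨⟨(s.1, g • x₀), s.2.1, s.2.2⟩, rfl⟩,
      fun a => ?_, fun s => rfl⟩
    · have h2 : a.1.1.2 = g • x₀ := a.2
      have h3 := a.1.2.2
      rw [h2] at h3
      exact h3
    · apply Subtype.ext
      apply Subtype.ext
      have h2 : a.1.1.2 = g • x₀ := a.2
      exact Prod.ext rfl h2.symm
  rw [← h1, h2]

end DoubleCount

end Cfsg.Agent.Lib.Helper17
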