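import Mathlib

set_option autoImplicit false

namespace Cfsg.Agent.Lib.Helper17

open MulAction

/-- Orbit counting: the cardinality is the sum of orbit cardinalities. -/
theorem card_eq_sum_card_orbits (H X : Type*) [Group H] [MulAction H X] [Finite X]
    [Fintype (orbitRel.Quotient H X)] :
    Nat.card X = ∑ ω : orbitRel.Quotient H X, Nat.card ω.orbit := by
  rw [Nat.card_congr (selfEquivSigmaOrbits' H X), Nat.card_sigma]

/-- If a group fixes `x₀` and all other orbits have cardinality divisible by `m`, then the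
cardinality is `1` modulo `m`. -/
theorem card_modEq_one_of_orbits {H X : Type*} [Group H] [MulAction H X] [Finite X] (m : ℕ)
    (x₀ : X) (hfix : ∀ h : H, h • x₀ = x₀)
    (hdvd : ∀ x : X, x ≠ x₀ → m ∣ Nat.card (orbit H x)) :
    Nat.card X ≡ 1 [MOD m] := by
  classical
  letI : Fintype (orbitRel.Quotient H X) := Fintype.ofFinite _
  rw [card_eq_sum_card_orbits H X]
  set ω₀ : orbitRel.Quotient H X := Quotient.mk'' x₀ with hω₀
  rw [← Finset.add_sum_erase Finset.univ _ (Finset.mem_univ ω₀)]
  have h1 : Nat.card ω₀.orbit = 1 := by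
    have : ω₀.orbit = {x₀} := by
      rw [hω₀, orbitRel.Quotient.orbit_mk]
      ext y
      simp only [mem_orbit_iff, Set.mem_singleton_iff]
      constructor
      · rintro ⟨h, rfl⟩; exact hfix h
      · rintro rfl; exact ⟨1, one_smul _ _⟩
    rw [this]; simp
  have h2 : m ∣ ∑ ω ∈ Finset.univ.erase ω₀, Nat.card ω.orbit := by
    apply Finset.dvd_sum
    intro ω hω
    rw [Finset.mem_erase] at hω
    have hne : ω.out ≠ x₀ := by
      intro h
      apply hω.1
      rw [hω₀, ← h]
      exact (Quotient.out_eq' ω).symm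
    have := hdvd ω.out hne
    rwa [← orbitRel.Quotient.orbit_eq_orbit_out ω Quotient.out_eq'] at this
  rw [h1]
  obtain ⟨c, hc⟩ := h2
  rw [hc]
  simp [Nat.ModEq]

end Cfsg.Agent.Lib.Helper17
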