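import Mathlib
import Cfsg.Agent.Lib.Helper17.Orbits
import Cfsg.Agent.Lib.Helper17.FixedPoints

set_option autoImplicit false

namespace Cfsg.Agent.Lib.Helper17

open Subgroup MulAction

/-- Membership in a conjugate Sylow subgroup. -/
theorem mem_smul_sylow_iff {G : Type*} [Group G] {p : ℕ} (g y : G) (P : Sylow p G) :
    y ∈ ((g • P : Sylow p G) : Subgroup G) ↔ g⁻¹ * y * g ∈ (P : Subgroup G) := by
  rw [Sylow.coe_subgroup_smul, Subgroup.mem_pointwise_smul_iff_inv_smul_mem]
  simp [MulAut.smul_def]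

/-- Conjugate Sylow subgroups have centralizers of the same cardinality. -/
theorem card_centralizer_smul_sylow {G : Type*} [Group G] {p : ℕ} (g : G) (P : Sylow p G) :
    Nat.card ↥(centralizer (((g • P : Sylow p G) : Subgroup G) : Set G)) =
      Nat.card ↥(centralizer ((P : Subgroup G) : Set G)) := by
  apply Nat.card_congr
  refine ⟨fun c => ⟨g⁻¹ * c.1 * g, ?_⟩, fun c => ⟨g * c.1 * g⁻¹, ?_⟩, fun c => ?_, fun c => ?_⟩
  · rw [mem_centralizer_iff]
    intro a ha
    have h1 : g * a * g⁻¹ ∈ ((g • P : Sylow p G) : Subgroup G) := by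
      rw [mem_smul_sylow_iff]
      have : g⁻¹ * (g * a * g⁻¹) * g = a := by group
      rw [this]; exact ha
    have h2 := mem_centralizer_iff.mp c.2 _ h1
    calc a * (g⁻¹ * c.1 * g) = g⁻¹ * ((g * a * g⁻¹) * c.1) * g := by group
      _ = g⁻¹ * (c.1 * (g * a * g⁻¹)) * g := by rw [h2]
      _ = g⁻¹ * c.1 * g * a := by group
  · rw [mem_centralizer_iff]
    intro y hy
    have hy' : g⁻¹ * y * g ∈ (P : Subgroup G) := (mem_smul_sylow_iff g y P).mp hy
    have h2 := mem_centralizer_iff.mp c.2 _ hy'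
    calc y * (g * c.1 * g⁻¹) = g * ((g⁻¹ * y * g) * c.1) * g⁻¹ := by group
      _ = g * (c.1 * (g⁻¹ * y * g)) * g⁻¹ := by rw [h2]
      _ = g * c.1 * g⁻¹ * y := by group
  · apply Subtype.ext
    simp only
    group
  · apply Subtype.ext
    simp only
    group

/-- All Sylow `p`-subgroups have centralizers of the same cardinality. -/
theorem card_centralizer_sylow_eq {G : Type*} [Group G] [Finite G] {p : ℕ} [Fact p.Prime]
    (P R : Sylow p G) :
    Nat.card ↥(centralizer ((R : Subgroup G) : Set G)) =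
      Nat.card ↥(centralizer ((P : Subgroup G) : Set G)) := by
  obtain ⟨g, rfl⟩ := MulAction.exists_smul_eq G P R
  exact card_centralizer_smul_sylow g P

/-- If a finite subgroup `Q` fixes `x₀` and acts freely elsewhere, then `|X| ≡ 1` mod `|Q|`. -/
theorem card_modEq_one_of_free {G X : Type*} [Group G] [MulAction G X] [Finite X]
    (Q : Subgroup G) [Finite ↥Q] (x₀ : X) (hfix : ∀ q ∈ Q, q • x₀ = x₀)
    (hfree : ∀ q ∈ Q, q ≠ 1 → ∀ x : X, q • x = x → x = x₀) :
    Nat.card X ≡ 1 [MOD Nat.card ↥Q] := by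
  apply card_modEq_one_of_orbits (H := ↥Q) (Nat.card ↥Q) x₀ (fun h => hfix h h.2)
  intro x hx
  have h1 := MulAction.index_stabilizer ↥Q x
  have h2 : stabilizer ↥Q x = ⊥ := by
    rw [eq_bot_iff]
    intro q hq
    rw [mem_bot]
    by_contra hq1
    apply hx
    apply hfree q q.2 _ x hq
    intro h
    exact hq1 (Subtype.ext h)
  rw [h2, Subgroup.index_bot] at h1
  rw [Nat.card_coe_set_eq, ← h1]


theorem eq_of_sq_eq_one_of_cyclic {A : Type*} [Group A] [Finite A] [IsCyclic A] (σ τ : A)
    (h1 : σ * σ = 1) (h2 : τ * τ = 1) (hσ : σ ≠ 1) (hτ : τ ≠ 1) : σ = τ := by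
  classical
  letI : Fintype A := Fintype.ofFinite A
  by_contra hne
  have hle := IsCyclic.card_pow_eq_one_le (α := A) (n := 2) (by norm_num)
  have hsub : ({1, σ, τ} : Finset A) ⊆ Finset.univ.filter (fun a : A => a ^ 2 = 1) := by
    intro a ha
    simp only [Finset.mem_insert, Finset.mem_singleton] at ha
    simp only [Finset.mem_filter, Finset.mem_univ, true_and]
    rcases ha with rfl | rfl | rfl
    · simp
    · rw [pow_two]; exact h1
    · rw [pow_two]; exact h2
  have hcard : ({1, σ, τ} : Finset A).card = 3 := by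
    rw [Finset.card_insert_of_notMem, Finset.card_insert_of_notMem, Finset.card_singleton]
    · simpa using hne
    · simp only [Finset.mem_insert, Finset.mem_singleton, not_or]
      exact ⟨fun h => hσ h.symm, fun h => hτ h.symm⟩
  have := Finset.card_le_card hsub
  omega

theorem isCyclic_mulAut_of_card_prime {P : Type*} [Group P] [Finite P] {p : ℕ} (hp : p.Prime)
    (hP : Nat.card P = p) : IsCyclic (MulAut P) := by
  haveI : Fact (Nat.card P).Prime := ⟨hP ▸ hp⟩
  haveI : Fact p.Prime := ⟨hp⟩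
  haveI : IsCyclic P := isCyclic_of_prime_card hP
  exact isCyclic_of_surjective (IsCyclic.mulAutMulEquiv P).symm.toMonoidHom
    (IsCyclic.mulAutMulEquiv P).symm.surjective

theorem inv_mul_mem_centralizer_of_sq {G : Type*} [Group G] [Finite G] {p : ℕ} (hp : p.Prime)
    (P : Subgroup G) (hP : Nat.card ↥P = p) (s s' : G)
    (hs : s ∈ normalizer (P : Set G)) (hs' : s' ∈ normalizer (P : Set G))
    (h1 : s * s = 1) (h2 : s' * s' = 1) (hsC : s ∉ centralizer (P : Set G))
    (hs'C : s' ∉ centralizer (P : Set G)) : s⁻¹ * s' ∈ centralizer (P : Set G) := by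
  haveI := isCyclic_mulAut_of_card_prime hp hP
  set φ := P.normalizerMonoidHom with hφ
  have hker : ∀ n : ↥(normalizer (P : Set G)), φ n = 1 ↔ (n : G) ∈ centralizer (P : Set G) := by
    intro n
    rw [← MonoidHom.mem_ker, hφ, normalizerMonoidHom_ker, mem_subgroupOf]
  have e1 : φ ⟨s, hs⟩ * φ ⟨s, hs⟩ = 1 := by
    rw [← map_mul]
    have : (⟨s, hs⟩ : ↥(normalizer (P : Set G))) * ⟨s, hs⟩ = 1 := Subtype.ext h1
    rw [this, map_one]
  have e2 : φ ⟨s', hs'⟩ * φ ⟨s', hs'⟩ = 1 := by
    rw [← map_mul]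
    have : (⟨s', hs'⟩ : ↥(normalizer (P : Set G))) * ⟨s', hs'⟩ = 1 := Subtype.ext h2
    rw [this, map_one]
  have n1 : φ ⟨s, hs⟩ ≠ 1 := fun h => hsC ((hker _).mp h)
  have n2 : φ ⟨s', hs'⟩ ≠ 1 := fun h => hs'C ((hker _).mp h)
  have heq := eq_of_sq_eq_one_of_cyclic _ _ e1 e2 n1 n2
  have : φ (⟨s, hs⟩⁻¹ * ⟨s', hs'⟩) = 1 := by
    rw [map_mul, map_inv, heq, inv_mul_cancel]
  exact (hker _).mp this


theorem involution_unique_of_card {G : Type*} [Group G] [Finite G] (C : Subgroup G)
    (hcent : ∀ t ∈ C, t * t = 1 → C ≤ centralizer ({t} : Set G))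
    (hC : ¬ 4 ∣ Nat.card ↥C) (t t' : G) (ht : t ∈ C) (ht' : t' ∈ C)
    (h1 : t * t = 1) (h2 : t' * t' = 1) (hne : t ≠ 1) (hne' : t' ≠ 1) : t = t' := by
  haveI : Fact (Nat.Prime 2) := ⟨Nat.prime_two⟩
  let L : Subgroup G :=
    { carrier := {c | c ∈ C ∧ c * c = 1}
      mul_mem' := by
        rintro a b ⟨ha, ha2⟩ ⟨hb, hb2⟩
        refine ⟨C.mul_mem ha hb, ?_⟩
        have hcomm : a * b = b * a := by
          have := hcent a ha ha2 hb
          rw [mem_centralizer_iff] at this
          exact this a rfl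
        calc a * b * (a * b) = a * (b * a) * b := by group
          _ = a * (a * b) * b := by rw [hcomm]
          _ = (a * a) * (b * b) := by group
          _ = 1 := by rw [ha2, hb2, one_mul]
      one_mem' := ⟨C.one_mem, by simp⟩
      inv_mem' := by
        rintro a ⟨ha, ha2⟩
        refine ⟨C.inv_mem ha, ?_⟩
        rw [← mul_inv_rev, ha2, inv_one] }
  have hLC : L ≤ C := fun c hc => hc.1
  have hL2 : IsPGroup 2 L := by
    intro g
    refine ⟨1, ?_⟩
    apply Subtype.ext
    rw [pow_one, pow_two]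
    exact g.2.2
  obtain ⟨j, hj⟩ := hL2.exists_card_eq
  have hdvd : Nat.card ↥L ∣ Nat.card ↥C := Subgroup.card_dvd_of_le hLC
  have hj1 : j ≤ 1 := by
    by_contra hcon
    push Not at hcon
    apply hC
    refine dvd_trans ?_ hdvd
    rw [hj]
    exact pow_dvd_pow 2 hcon
  have htL : t ∈ L := ⟨ht, h1⟩
  have ht'L : t' ∈ L := ⟨ht', h2⟩
  have hcard2 : Nat.card ↥L = 2 := by
    interval_cases j
    · exfalso
      rw [pow_zero] at hj
      haveI : Subsingleton ↥L := (Nat.card_eq_one_iff_unique.mp hj).1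
      apply hne
      have : (⟨t, htL⟩ : ↥L) = 1 := Subsingleton.elim _ _
      exact congrArg Subtype.val this
    · simpa using hj
  obtain ⟨y, -, hy⟩ := (Nat.card_eq_two_iff' (1 : ↥L)).mp hcard2
  have e1 : (⟨t, htL⟩ : ↥L) = y := hy _ (fun h => hne (congrArg Subtype.val h))
  have e2 : (⟨t', ht'L⟩ : ↥L) = y := hy _ (fun h => hne' (congrArg Subtype.val h))
  exact congrArg Subtype.val (e1.trans e2.symm)

/-- In a simple group acting transitively on more than one point, a nonidentity element moves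
some point. -/
theorem card_fixedBy_lt_of_simple {G X : Type*} [Group G] [IsSimpleGroup G] [MulAction G X]
    [Finite X] [IsPretransitive G X] (hX : 1 < Nat.card X) (t : G) (ht : t ≠ 1) :
    Nat.card (fixedBy X t) < Nat.card X := by
  have hX' : ∃ g : G, ∃ x : X, g • x ≠ x := by
    by_contra hcon
    push Not at hcon
    have : Subsingleton X := by
      constructor
      intro a b
      obtain ⟨g, hg⟩ := MulAction.exists_smul_eq G a b
      rw [← hg, hcon]
    have := Finite.card_le_one_iff_subsingleton.mpr this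
    omega
  by_contra hcon
  apply ht
  apply eq_one_of_forall_smul_eq hX'
  by_contra hne
  push Not at hne
  obtain ⟨x, hx⟩ := hne
  exact hcon (Finite.card_subtype_lt (p := fun x => x ∈ fixedBy X t) (x := x) hx)

/-- Conjugation by an element of the normalizer preserves the centralizer. -/
theorem conj_mem_centralizer_of_mem_normalizer {G : Type*} [Group G] (P : Subgroup G) (n c : G)
    (hn : n ∈ normalizer (P : Set G)) (hc : c ∈ centralizer (P : Set G)) :
    n * c * n⁻¹ ∈ centralizer (P : Set G) := by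
  rw [mem_centralizer_iff]
  intro a ha
  have h1 : n⁻¹ * a * n ∈ P := by
    have := (mem_normalizer_iff.mp (Subgroup.inv_mem _ hn) a).mp ha
    simpa using this
  have h2 := mem_centralizer_iff.mp hc _ h1
  calc a * (n * c * n⁻¹) = n * ((n⁻¹ * a * n) * c) * n⁻¹ := by group
    _ = n * (c * (n⁻¹ * a * n)) * n⁻¹ := by rw [h2]
    _ = n * c * n⁻¹ * a := by group

/-- A conjugate of an element with `t * t = 1` has the same property. -/
theorem mul_self_eq_one_of_isConj {G : Type*} [Group G] {t s : G} (h : IsConj t s)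
    (ht : t * t = 1) : s * s = 1 := by
  obtain ⟨g, rfl⟩ := isConj_iff.mp h
  calc g * t * g⁻¹ * (g * t * g⁻¹) = g * (t * t) * g⁻¹ := by group
    _ = 1 := by rw [ht]; group

/-- A conjugate of a nonidentity element is not the identity. -/
theorem ne_one_of_isConj {G : Type*} [Group G] {t s : G} (h : IsConj t s) (ht : t ≠ 1) :
    s ≠ 1 := by
  obtain ⟨g, rfl⟩ := isConj_iff.mp h
  intro h1
  apply ht
  have : t = g⁻¹ * (g * t * g⁻¹) * g := by group
  rw [this, h1]
  group

end Cfsg.Agent.Lib.Helper17
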