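import Mathlib
import Cfsg.Agent.Lib.Helper17.FixedPoints
import Cfsg.Agent.Lib.Helper17.SylowConj

set_option autoImplicit false

namespace Cfsg.Agent.Lib.Helper17

open MulAction Subgroup

/-- Invariant-subset version of the `p`-group fixed point congruence. -/
theorem card_invariant_modEq {A X : Type*} [Group A] [MulAction A X] {p : ℕ} [Fact p.Prime]
    (hA : IsPGroup p A) (S : Set X) [Finite S] (hS : ∀ a : A, ∀ x ∈ S, a • x ∈ S) :
    Nat.card S ≡ Nat.card (S ∩ fixedPoints A X : Set X) [MOD p] := by
  classical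
  let M : SubMulAction A X :=
    { carrier := S
      smul_mem' := fun a x hx => hS a x hx }
  haveI : Finite ↥M := ‹Finite S›
  have h1 := hA.card_modEq_card_fixedPoints (↥M)
  have h2 : Nat.card ↥M = Nat.card S := rfl
  have h3 : Nat.card (fixedPoints A ↥M) = Nat.card (S ∩ fixedPoints A X : Set X) := by
    apply Nat.card_congr
    refine ⟨fun y => ⟨y.1.1, y.1.2, fun a => ?_⟩, fun y => ⟨⟨y.1, y.2.1⟩, fun a => ?_⟩,
      fun y => rfl, fun y => rfl⟩
    · have := y.2 a
      exact congrArg Subtype.val this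
    · apply Subtype.ext
      exact y.2.2 a
  rw [h2, h3] at h1
  exact h1

/-- If `y` normalizes the finite subgroup `T` and has `p`-power order, then
`|T| ≡ |C_T(y)|` mod `p`. -/
theorem card_modEq_card_inf_centralizer {G : Type*} [Group G] {p : ℕ} [Fact p.Prime]
    (T : Subgroup G) [Finite ↥T] (y : G) (hy : y ∈ normalizer (T : Set G))
    (hyp : IsPGroup p (zpowers y)) :
    Nat.card ↥T ≡ Nat.card ↥(T ⊓ centralizer ({y} : Set G) : Subgroup G) [MOD p] := by
  set A : Subgroup (ConjAct G) := zpowers (ConjAct.toConjAct y) with hAdef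
  have hA : IsPGroup p A := by
    have : A = (zpowers y).map (ConjAct.toConjAct (G := G)).toMonoidHom := by
      rw [hAdef, MonoidHom.map_zpowers]
      rfl
    rw [this]
    exact hyp.map _
  have hS : ∀ a : ↥A, ∀ x ∈ (T : Set G), a • x ∈ (T : Set G) := by
    intro a x hx
    obtain ⟨n, hn⟩ := mem_zpowers_iff.mp a.2
    have h1 : (a : ConjAct G) = ConjAct.toConjAct (y ^ n) := by
      rw [← hn, map_zpow]
    show (a : ConjAct G) • x ∈ T
    rw [h1, ConjAct.toConjAct_smul]
    have hyn : y ^ n ∈ normalizer (T : Set G) := Subgroup.zpow_mem _ hy n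
    exact (mem_normalizer_iff.mp hyn x).mp hx
  haveI : Finite ((T : Set G)) := ‹Finite ↥T›
  have h := card_invariant_modEq hA (T : Set G) hS
  have h2 : Nat.card ((T : Set G) ∩ fixedPoints ↥A G : Set G) =
      Nat.card ↥(T ⊓ centralizer ({y} : Set G) : Subgroup G) := by
    apply Nat.card_congr
    refine Equiv.subtypeEquivRight ?_
    intro x
    constructor
    · rintro ⟨hxT, hxf⟩
      refine ⟨hxT, ?_⟩
      have := hxf ⟨ConjAct.toConjAct y, mem_zpowers _⟩
      have h3 : y * x * y⁻¹ = x := by
        simpa [ConjAct.toConjAct_smul] using this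
      show x ∈ centralizer ({y} : Set G)
      rw [mem_centralizer_iff]
      intro s hs
      rw [Set.mem_singleton_iff] at hs
      rw [hs]
      calc y * x = y * x * y⁻¹ * y := by group
        _ = x * y := by rw [h3]
    · rintro ⟨hxT, hxc⟩
      refine ⟨hxT, ?_⟩
      intro a
      obtain ⟨n, hn⟩ := mem_zpowers_iff.mp a.2
      have h1 : (a : ConjAct G) = ConjAct.toConjAct (y ^ n) := by
        rw [← hn, map_zpow]
      show (a : ConjAct G) • x = x
      rw [h1, ConjAct.toConjAct_smul]
      have hxc' : x ∈ centralizer ({y} : Set G) := hxc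
      have hcomm : Commute y x := (mem_centralizer_iff.mp hxc' y rfl)
      have : Commute (y ^ n) x := hcomm.zpow_left n
      rw [this.eq, mul_inv_cancel_right]
  rw [h2] at h
  exact h

/-- **Commuting pair counts**: for a nonabelian simple group acting transitively on `X`, a
nontrivial `p`-subgroup `A` commuting with an involution `t`, the fixed point numbers
`f = |Fix t|`, `fA = |Fix A|`, `i = |Fix t ∩ Fix A|` satisfy the listed congruences. -/
theorem commuting_pair_counts {G X : Type*} [Group G] [IsSimpleGroup G]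
    (hnc : ¬ IsMulCommutative G) [MulAction G X] [Finite X] [IsPretransitive G X]
    (hX : 1 < Nat.card X) {p : ℕ} [Fact p.Prime] (A : Subgroup G) (hA : IsPGroup p A)
    (hA1 : A ≠ ⊥) (t : G) (ht : t * t = 1) (ht1 : t ≠ 1) (hcomm : ∀ a ∈ A, a * t = t * a) :
    Nat.card (fixedBy X t) % 4 = Nat.card X % 4 ∧
    Nat.card (fixedBy X t) < Nat.card X ∧
    Nat.card (fixedBy X t) % p = Nat.card (fixedBy X t ∩ fixedPoints A X : Set X) % p ∧
    Nat.card (fixedPoints A X) % p = Nat.card X % p ∧
    Nat.card (fixedPoints A X) % 2 = Nat.card (fixedBy X t ∩ fixedPoints A X : Set X) % 2 ∧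
    Nat.card (fixedPoints A X) < Nat.card X ∧
    Nat.card (fixedBy X t ∩ fixedPoints A X : Set X) ≤ Nat.card (fixedBy X t) ∧
    Nat.card (fixedBy X t ∩ fixedPoints A X : Set X) ≤ Nat.card (fixedPoints A X) := by
  haveI : Fact (Nat.Prime 2) := ⟨Nat.prime_two⟩
  have hX' : ∃ g : G, ∃ x : X, g • x ≠ x := by
    by_contra hcon
    push Not at hcon
    have : Subsingleton X := by
      constructor
      intro a b
      obtain ⟨g, hg⟩ := MulAction.exists_smul_eq G a b
      rw [← hg, hcon]
    have := Finite.card_le_one_iff_subsingleton.mpr this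
    omega
  have h2grp : IsPGroup 2 (zpowers t) := by
    apply IsPGroup.of_card (n := 1)
    rw [Nat.card_zpowers, pow_one]
    exact orderOf_eq_prime (by rw [pow_two]; exact ht) ht1
  have hF1 := card_fixedPoints_modEq_card_inter (X := X) (zpowers t) A h2grp (by
    intro a ha s hs
    obtain ⟨n, rfl⟩ := mem_zpowers_iff.mp ha
    have h1 : Commute s t := hcomm s hs
    exact ((h1.zpow_right n).eq).symm)
  rw [fixedPoints_zpowers_eq] at hF1
  have hinter : (fixedPoints A X ∩ fixedBy X t : Set X) =
      (fixedBy X t ∩ fixedPoints A X : Set X) := Set.inter_comm _ _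
  rw [hinter] at hF1
  refine ⟨card_fixedBy_modEq_four hnc t ht, card_fixedBy_lt_of_simple hX t ht1,
    card_fixedBy_modEq_card_inter A hA t hcomm,
    (card_modEq_card_fixedPoints_subgroup (X := X) A hA).symm, hF1, ?_,
    Nat.card_mono (Set.toFinite _) Set.inter_subset_left,
    Nat.card_mono (Set.toFinite _) Set.inter_subset_right⟩
  by_contra hcon
  apply hA1
  rw [eq_bot_iff]
  intro a ha
  rw [mem_bot]
  apply eq_one_of_forall_smul_eq hX'
  by_contra hne
  push Not at hne
  obtain ⟨x, hx⟩ := hne
  apply hcon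
  have hx' : ¬ (x ∈ fixedPoints A X) := fun h => hx (h ⟨a, ha⟩)
  exact Finite.card_subtype_lt (p := fun x => x ∈ fixedPoints A X) (x := x) hx'

/-- A common fixed point makes the intersection count positive. -/
theorem one_le_card_inter {G X : Type*} [Group G] [MulAction G X] [Finite X] (A : Subgroup G)
    (t : G) (x₀ : X) (h1 : t • x₀ = x₀) (h2 : ∀ a ∈ A, a • x₀ = x₀) :
    1 ≤ Nat.card (fixedBy X t ∩ fixedPoints A X : Set X) := by
  have : Nonempty (fixedBy X t ∩ fixedPoints A X : Set X) :=
    ⟨⟨x₀, h1, fun a => h2 a a.2⟩⟩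
  exact Nat.card_pos

end Cfsg.Agent.Lib.Helper17
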