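import Mathlib
import Cfsg.Prelude.Def_Transfer
import Cfsg.Agent.Lib.Helper15.CycSylDefs

set_option autoImplicit false

/-! # S4016 hive, leaves [SZ] and [Q1] -/

namespace Cfsg.Agent.Lib.Helper15.CycSyl

open Subgroup

variable {G : Type*} [Group G] [Finite G] {p : ℕ} [Fact p.Prime]

/-- [SZ] Schur–Zassenhaus in `N(P)`: a complement of `P`. -/
theorem exists_compl_normalizer (P : Sylow p G) :
    ∃ L : Subgroup G, L ≤ normalizer ((P : Subgroup G) : Set G) ∧ L ⊓ (P : Subgroup G) = ⊥ ∧
      (P : Subgroup G) ⊔ L = normalizer ((P : Subgroup G) : Set G) ∧ (Nat.card L).Coprime p ∧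
      Nat.card (normalizer ((P : Subgroup G) : Set G)) = Nat.card (P : Subgroup G) * Nat.card L := by
  have hpp : p.Prime := Fact.out
  have hPN : (P : Subgroup G) ≤ normalizer ((P : Subgroup G) : Set G) := le_normalizer
  have hnorm : ((P : Subgroup G).subgroupOf (normalizer ((P : Subgroup G) : Set G))).Normal :=
    Subgroup.normal_in_normalizer
  have hcardP' : Nat.card ((P : Subgroup G).subgroupOf (normalizer ((P : Subgroup G) : Set G))) =
      Nat.card (P : Subgroup G) :=
    Nat.card_congr (Subgroup.subgroupOfEquivOfLe hPN).toEquiv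
  have hidx : ((P : Subgroup G).subgroupOf (normalizer ((P : Subgroup G) : Set G))).index ∣
      (P : Subgroup G).index := by
    have h1 := Subgroup.relIndex_mul_index hPN
    exact Dvd.intro _ h1
  have hndvd : ¬ p ∣ ((P : Subgroup G).subgroupOf (normalizer ((P : Subgroup G) : Set G))).index :=
    fun h => P.not_dvd_index (h.trans hidx)
  obtain ⟨k, hk⟩ := IsPGroup.iff_card.mp P.2
  have hcop : Nat.Coprime
      (Nat.card ((P : Subgroup G).subgroupOf (normalizer ((P : Subgroup G) : Set G))))
      ((P : Subgroup G).subgroupOf (normalizer ((P : Subgroup G) : Set G))).index := by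
    rw [hcardP', hk]
    exact Nat.Coprime.pow_left k ((Nat.Prime.coprime_iff_not_dvd hpp).mpr hndvd)
  obtain ⟨H, hH⟩ := Subgroup.exists_right_complement'_of_coprime hcop
  have hcardL : Nat.card (H.map (normalizer ((P : Subgroup G) : Set G)).subtype) = Nat.card H :=
    Nat.card_congr (Subgroup.equivMapOfInjective H _ (Subgroup.subtype_injective _)).symm.toEquiv
  have hHidx : ((P : Subgroup G).subgroupOf (normalizer ((P : Subgroup G) : Set G))).index =
      Nat.card H := hH.symm.index_eq_card
  refine ⟨H.map (normalizer ((P : Subgroup G) : Set G)).subtype, ?_, ?_, ?_, ?_, ?_⟩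
  · exact Subgroup.map_subtype_le H
  · rw [eq_bot_iff]
    rintro x ⟨⟨h, hh, rfl⟩, hxP⟩
    have h1 : h ∈ (P : Subgroup G).subgroupOf (normalizer ((P : Subgroup G) : Set G)) :=
      Subgroup.mem_subgroupOf.mpr hxP
    have h2 : h ∈ ((P : Subgroup G).subgroupOf (normalizer ((P : Subgroup G) : Set G))) ⊓ H :=
      ⟨h1, hh⟩
    rw [hH.disjoint.eq_bot, Subgroup.mem_bot] at h2
    rw [Subgroup.mem_bot, h2]
    rfl
  · have h1 := congrArg (Subgroup.map (normalizer ((P : Subgroup G) : Set G)).subtype)
      hH.sup_eq_top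
    rw [Subgroup.map_sup, Subgroup.subgroupOf_map_subtype, inf_of_le_left hPN,
      ← MonoidHom.range_eq_map, Subgroup.range_subtype] at h1
    exact h1
  · rw [hcardL, ← hHidx]
    exact (Nat.Prime.coprime_iff_not_dvd hpp).mpr hndvd |>.symm
  · rw [hcardL, ← hcardP']
    exact hH.card_mul_card.symm

/-- [Q1] If `G ⧸ N` is `p`-closed then `N P ⊴ G`. -/
theorem sup_sylow_normal_of_quotient (N : Subgroup G) [N.Normal]
    (h : ∀ Q : Sylow p (G ⧸ N), (Q : Subgroup (G ⧸ N)).Normal) (P : Sylow p G) :
    (N ⊔ (P : Subgroup G)).Normal := by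
  have h1 := h (P.mapSurjective (QuotientGroup.mk'_surjective N))
  rw [Sylow.coe_mapSurjective] at h1
  have h2 : (((P : Subgroup G).map (QuotientGroup.mk' N)).comap (QuotientGroup.mk' N)).Normal :=
    h1.comap _
  rw [Subgroup.comap_map_eq, QuotientGroup.ker_mk', sup_comm] at h2
  exact h2

end Cfsg.Agent.Lib.Helper15.CycSyl
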