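import Mathlib
import Cfsg.Prelude.Def_Transfer
import Cfsg.Agent.Lib.Helper15.CycSylDefs
import Cfsg.Agent.Lib.Helper17.CycSylSZ

set_option autoImplicit false

/-! # S4016 hive, leaves [A1] and [A2]: subgroups and quotients inherit `CycAb` -/

namespace Cfsg.Agent.Lib.Helper15.CycSyl

open Subgroup

variable {G : Type*} [Group G] [Finite G] {p : ℕ} [Fact p.Prime]

/-- [A1] Subgroups inherit the hypotheses. -/
theorem cycAb_subgroup (h : CycAb p G) (X : Subgroup G) : CycAb p ↥X := by
  obtain ⟨hcyc, hab⟩ := h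
  constructor
  · intro Q
    have hQ : IsPGroup p ((Q : Subgroup X).map X.subtype) := Q.2.map _
    obtain ⟨P, hP⟩ := hQ.exists_le_sylow
    haveI := hcyc P
    have e1 : ↥((Q : Subgroup X).map X.subtype) ≃*
        ↥(((Q : Subgroup X).map X.subtype).subgroupOf (P : Subgroup G)) :=
      (Subgroup.subgroupOfEquivOfLe hP).symm
    have e2 : ↥(Q : Subgroup X) ≃* ↥((Q : Subgroup X).map X.subtype) :=
      Subgroup.equivMapOfInjective _ _ (Subgroup.subtype_injective X)
    haveI : IsCyclic ↥(((Q : Subgroup X).map X.subtype).subgroupOf (P : Subgroup G)) :=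
      inferInstance
    exact isCyclic_of_surjective (e2.trans e1).symm (e2.trans e1).symm.surjective
  · intro H hH a ha b hb
    have hcard : Nat.card (H.map X.subtype) = Nat.card H :=
      Nat.card_congr (Subgroup.equivMapOfInjective H _ (Subgroup.subtype_injective X)).symm.toEquiv
    have h1 := hab (H.map X.subtype) (by rw [hcard]; exact hH) a ⟨a, ha, rfl⟩ b ⟨b, hb, rfl⟩
    exact Subtype.ext h1

/-- a `p`-subgroup lies in every normal subgroup of index prime to `p`. -/
theorem a2_le_of_index_coprime {Y : Type*} [Group Y] [Finite Y] {p : ℕ}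
    (N' : Subgroup Y) [N'.Normal] (hidx : N'.index.Coprime p) (Q : Subgroup Y)
    (hQ : IsPGroup p Q) : Q ≤ N' := by
  intro g hg
  obtain ⟨k, hk⟩ := hQ ⟨g, hg⟩
  have hk' : g ^ p ^ k = 1 := congrArg Subtype.val hk
  have h1 : ((g : Y ⧸ N')) ^ p ^ k = 1 := by
    rw [← QuotientGroup.mk_pow, hk', QuotientGroup.mk_one]
  have h2 : orderOf (g : Y ⧸ N') ∣ p ^ k := orderOf_dvd_of_pow_eq_one h1
  have h3 : orderOf (g : Y ⧸ N') ∣ N'.index := by
    rw [Subgroup.index_eq_card]
    exact orderOf_dvd_natCard _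
  have h4 : orderOf (g : Y ⧸ N') = 1 :=
    Nat.eq_one_of_dvd_coprimes (Nat.Coprime.pow_right k hidx) h3 h2
  rw [orderOf_eq_one_iff] at h4
  exact (QuotientGroup.eq_one_iff g).mp h4

/-- the quotient by a normal subgroup of index prime to `p` is abelian, if all `p'`-subgroups are. -/
theorem a2_quotient_comm {Y : Type*} [Group Y] [Finite Y] {p : ℕ} [Fact p.Prime]
    (hab : ∀ K : Subgroup Y, (Nat.card K).Coprime p → ∀ a ∈ K, ∀ b ∈ K, a * b = b * a)
    (N' : Subgroup Y) [N'.Normal] (hidx : N'.index.Coprime p) (a b : Y) :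
    (a : Y ⧸ N') * (b : Y ⧸ N') = (b : Y ⧸ N') * (a : Y ⧸ N') := by
  obtain ⟨Q'⟩ : Nonempty (Sylow p Y) := inferInstance
  have hQN : (Q' : Subgroup Y) ≤ N' := a2_le_of_index_coprime N' hidx Q' Q'.2
  have hfr : normalizer ((Q' : Subgroup Y) : Set Y) ⊔ N' = ⊤ :=
    Sylow.normalizer_sup_eq_top' Q' hQN
  obtain ⟨L, -, -, hsup, hLcop, -⟩ := exists_compl_normalizer Q'
  have hLab := hab L hLcop
  have htop : L ⊔ N' = ⊤ := by
    rw [eq_top_iff, ← hfr, ← hsup]
    apply sup_le
    · apply sup_le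
      · exact hQN.trans le_sup_right
      · exact le_sup_left
    · exact le_sup_right
  have hdec : ∀ y : Y, ∃ l ∈ L, (y : Y ⧸ N') = (l : Y ⧸ N') := by
    intro y
    have hy : y ∈ ((L ⊔ N' : Subgroup Y) : Set Y) := by rw [htop]; trivial
    rw [Subgroup.mul_normal, Set.mem_mul] at hy
    obtain ⟨l, hl, n, hn, rfl⟩ := hy
    refine ⟨l, hl, ?_⟩
    rw [QuotientGroup.mk_mul, (QuotientGroup.eq_one_iff n).mpr hn, mul_one]
  obtain ⟨l₁, hl₁, h1⟩ := hdec a
  obtain ⟨l₂, hl₂, h2⟩ := hdec b
  rw [h1, h2, ← QuotientGroup.mk_mul, ← QuotientGroup.mk_mul, hLab l₁ hl₁ l₂ hl₂]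

/-- [A2] Quotients inherit the hypotheses. -/
theorem cycAb_quotient (h : CycAb p G) (N : Subgroup G) [N.Normal] : CycAb p (G ⧸ N) := by
  constructor
  · intro Q
    obtain ⟨P⟩ : Nonempty (Sylow p G) := inferInstance
    haveI := h.1 P
    have hcyc : IsCyclic ↥((P.mapSurjective (QuotientGroup.mk'_surjective N) : Sylow p (G ⧸ N)) :
        Subgroup (G ⧸ N)) := by
      rw [Sylow.coe_mapSurjective]
      exact isCyclic_of_surjective ((QuotientGroup.mk' N).subgroupMap (P : Subgroup G))
        ((QuotientGroup.mk' N).subgroupMap_surjective (P : Subgroup G))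
    obtain ⟨g, hg⟩ := MulAction.exists_smul_eq (G ⧸ N)
      (P.mapSurjective (QuotientGroup.mk'_surjective N)) Q
    rw [← hg]
    exact isCyclic_of_surjective
      (Sylow.equivSMul (P.mapSurjective (QuotientGroup.mk'_surjective N)) g)
      (Sylow.equivSMul (P.mapSurjective (QuotientGroup.mk'_surjective N)) g).surjective
  · intro H hH a ha b hb
    have hX := cycAb_subgroup h (H.comap (QuotientGroup.mk' N))
    haveI : (N.subgroupOf (H.comap (QuotientGroup.mk' N))).Normal := inferInstance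
    have hidx : (N.subgroupOf (H.comap (QuotientGroup.mk' N))).index.Coprime p := by
      have h1 : (N.subgroupOf (H.comap (QuotientGroup.mk' N))).index =
          N.relIndex (H.comap (QuotientGroup.mk' N)) := rfl
      have h2 : N.relIndex (H.comap (QuotientGroup.mk' N)) =
          Nat.card ((H.comap (QuotientGroup.mk' N)).map (QuotientGroup.mk' N)) := by
        have := Subgroup.relIndex_ker (K := H.comap (QuotientGroup.mk' N)) (QuotientGroup.mk' N)
        rwa [QuotientGroup.ker_mk'] at this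
      rw [h1, h2, Subgroup.map_comap_eq_self_of_surjective (QuotientGroup.mk'_surjective N)]
      exact hH
    obtain ⟨a₀, rfl⟩ := QuotientGroup.mk_surjective a
    obtain ⟨b₀, rfl⟩ := QuotientGroup.mk_surjective b
    have ha₀ : a₀ ∈ H.comap (QuotientGroup.mk' N) := ha
    have hb₀ : b₀ ∈ H.comap (QuotientGroup.mk' N) := hb
    have key := a2_quotient_comm hX.2 (N.subgroupOf (H.comap (QuotientGroup.mk' N))) hidx
      ⟨a₀, ha₀⟩ ⟨b₀, hb₀⟩
    rw [← QuotientGroup.mk_mul, ← QuotientGroup.mk_mul, QuotientGroup.eq,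
      Subgroup.mem_subgroupOf] at key
    rw [← QuotientGroup.mk_mul, ← QuotientGroup.mk_mul, QuotientGroup.eq]
    simpa using key

end Cfsg.Agent.Lib.Helper15.CycSyl
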