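import Mathlib
import Cfsg.Agent.Lib.Helper87.AltModel

set_option autoImplicit false

/-! # S5165 leaf [A0]: the conjugates of a strongly closed subgroup form a `ClosedFam`

Also two small general tools used by the other `ClosedFam` leaves (`a0_` prefix). -/

namespace Cfsg.Agent.Lib.Helper87.AltF

open Equiv Subgroup

/-- elements of the closure of a pairwise commuting set commute. -/
theorem a0_commute_of_mem_closure {Ω : Type*} [Group Ω] (s : Set Ω)
    (hcomm : ∀ x ∈ s, ∀ y ∈ s, x * y = y * x) :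
    ∀ x ∈ Subgroup.closure s, ∀ y ∈ Subgroup.closure s, x * y = y * x := by
  have h1 : Subgroup.closure s ≤ Subgroup.centralizer s := by
    rw [Subgroup.closure_le]
    intro x hx
    rw [SetLike.mem_coe, Subgroup.mem_centralizer_iff]
    intro y hy
    exact hcomm y hy x hx
  intro x hx
  have h2 : Subgroup.closure s ≤ Subgroup.centralizer ({x} : Set Ω) := by
    rw [Subgroup.closure_le]
    intro y hy
    rw [SetLike.mem_coe, Subgroup.mem_centralizer_iff]
    intro z hz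
    rw [Set.mem_singleton_iff] at hz
    subst hz
    have := (Subgroup.mem_centralizer_iff.mp (h1 hx)) y hy
    exact this.symm
  intro y hy
  have := (Subgroup.mem_centralizer_iff.mp (h2 hy)) x (Set.mem_singleton x)
  exact this

/-- the closure of a set of pairwise commuting elements of `p`-power order is a `p`-group. -/
theorem a0_isPGroup_closure_of_commute {Ω : Type*} [Group Ω] {p : ℕ} (s : Set Ω)
    (hcomm : ∀ x ∈ s, ∀ y ∈ s, x * y = y * x) (hord : ∀ x ∈ s, ∃ k : ℕ, x ^ p ^ k = 1) :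
    IsPGroup p (Subgroup.closure s) := by
  have hc := a0_commute_of_mem_closure s hcomm
  have key : ∀ x ∈ Subgroup.closure s, ∃ k : ℕ, x ^ p ^ k = 1 := by
    intro x hx
    induction hx using Subgroup.closure_induction with
    | mem x hx => exact hord x hx
    | one => exact ⟨0, by simp⟩
    | mul x y hx hy ihx ihy =>
      obtain ⟨a, ha⟩ := ihx
      obtain ⟨b, hb⟩ := ihy
      refine ⟨a + b, ?_⟩
      have hxy : Commute x y := hc x hx y hy
      rw [hxy.mul_pow, pow_add, pow_mul, ha, one_pow, mul_comm (p ^ a), pow_mul, hb, one_pow,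
        one_mul]
    | inv x hx ihx =>
      obtain ⟨a, ha⟩ := ihx
      exact ⟨a, by rw [inv_pow, ha, inv_one]⟩
  intro g
  obtain ⟨k, hk⟩ := key g.1 g.2
  exact ⟨k, Subtype.ext (by simpa using hk)⟩

/-- a closed family is closed under products of commuting elements. -/
theorem a0_mul_mem_of_commute {Ω : Type*} [Group Ω] {p : ℕ} {A : Subgroup Ω} {𝒯 : Set Ω}
    (h𝒯 : ClosedFam p A 𝒯) {x y : Ω} (hx : x ∈ 𝒯) (hy : y ∈ 𝒯) (hc : x * y = y * x) :
    x * y ∈ 𝒯 := by
  obtain ⟨-, h2, -, h4, -⟩ := h𝒯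
  have hP : IsPGroup p (Subgroup.closure ({x, y} : Set Ω)) := by
    apply a0_isPGroup_closure_of_commute
    · intro a ha b hb
      rcases ha with rfl | ha <;> rcases hb with rfl | hb
      · rfl
      · rw [Set.mem_singleton_iff] at hb; subst hb; exact hc
      · rw [Set.mem_singleton_iff] at ha; subst ha; exact hc.symm
      · rw [Set.mem_singleton_iff] at ha hb; subst ha; subst hb; rfl
    · intro a ha
      rcases ha with rfl | ha
      · obtain ⟨-, k, hk⟩ := h2 a hx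
        exact ⟨k, by rw [← hk]; exact pow_orderOf_eq_one a⟩
      · rw [Set.mem_singleton_iff] at ha; subst ha
        obtain ⟨-, k, hk⟩ := h2 a hy
        exact ⟨k, by rw [← hk]; exact pow_orderOf_eq_one a⟩
  have hPA : Subgroup.closure ({x, y} : Set Ω) ≤ A := by
    rw [Subgroup.closure_le]
    intro a ha
    rcases ha with rfl | ha
    · exact (h2 a hx).1
    · rw [Set.mem_singleton_iff] at ha; subst ha; exact (h2 a hy).1
  exact h4 _ hP hPA x (Subgroup.subset_closure (by simp)) y (Subgroup.subset_closure (by simp)) hx hy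

/-- Sylow's theorem in `A`, for a maximal `p`-subgroup `S0` of `A`. -/
theorem a0_exists_conj_le {Ω : Type*} [Group Ω] [Finite Ω] {p : ℕ} [Fact p.Prime]
    (A S0 : Subgroup Ω) (hS0A : S0 ≤ A) (hS0p : IsPGroup p S0)
    (hmax : ∀ Q' : Subgroup Ω, IsPGroup p Q' → Q' ≤ A → S0 ≤ Q' → Q' = S0)
    (P : Subgroup Ω) (hP : IsPGroup p P) (hPA : P ≤ A) :
    ∃ a ∈ A, ∀ y ∈ P, a * y * a⁻¹ ∈ S0 := by
  -- the Sylow subgroup of `A` defined by `S0`
  have hS0' : IsPGroup p (S0.subgroupOf A) := hS0p.comap_subtype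
  have hmax' : ∀ {Q : Subgroup ↥A}, IsPGroup p Q → S0.subgroupOf A ≤ Q → Q = S0.subgroupOf A := by
    intro Q hQ hle
    have h1 : Q.map A.subtype = S0 := by
      apply hmax
      · exact hQ.map _
      · rintro _ ⟨x, -, rfl⟩
        exact x.2
      · intro x hx
        exact ⟨⟨x, hS0A hx⟩, hle (Subgroup.mem_subgroupOf.mpr hx), rfl⟩
    ext x
    rw [Subgroup.mem_subgroupOf, ← h1]
    constructor
    · intro hx
      exact ⟨x, hx, rfl⟩
    · rintro ⟨y, hy, hyx⟩
      have : y = x := Subtype.ext hyx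
      exact this ▸ hy
  let Syl0 : Sylow p ↥A := ⟨S0.subgroupOf A, hS0', hmax'⟩
  have hP' : IsPGroup p (P.subgroupOf A) := hP.comap_subtype
  obtain ⟨Q, hQ⟩ := hP'.exists_le_sylow
  obtain ⟨a, ha⟩ := MulAction.exists_smul_eq ↥A Q Syl0
  refine ⟨a.1, a.2, ?_⟩
  intro y hy
  have hyQ : (⟨y, hPA hy⟩ : ↥A) ∈ (Q : Subgroup ↥A) := hQ (Subgroup.mem_subgroupOf.mpr hy)
  have h2 : a * ⟨y, hPA hy⟩ * a⁻¹ ∈ ((a • Q : Sylow p ↥A) : Subgroup ↥A) := by
    rw [Sylow.coe_subgroup_smul]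
    have : a * ⟨y, hPA hy⟩ * a⁻¹ = MulAut.conj a • (⟨y, hPA hy⟩ : ↥A) := by
      simp [MulAut.smul_def]
    rw [this]
    exact Subgroup.smul_mem_pointwise_smul _ _ _ hyQ
  rw [ha] at h2
  have h3 : a * ⟨y, hPA hy⟩ * a⁻¹ ∈ S0.subgroupOf A := h2
  rw [Subgroup.mem_subgroupOf] at h3
  simpa using h3

/-- [A0] the family of `A`-conjugates of the elements of a strongly closed subgroup `T` of a maximal
`p`-subgroup `S0` of `A` is a `ClosedFam`, and meets `S0` in `T` (Sylow's theorem in `A`). -/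
theorem closedFam_of_stronglyClosed {Ω : Type*} [Group Ω] [Finite Ω] {p : ℕ} [Fact p.Prime]
    (A S0 T : Subgroup Ω) (hS0A : S0 ≤ A) (hS0p : IsPGroup p S0)
    (hmax : ∀ Q' : Subgroup Ω, IsPGroup p Q' → Q' ≤ A → S0 ≤ Q' → Q' = S0)
    (hT : T ≤ S0) (hcl : ∀ x ∈ T, ∀ g ∈ A, g * x * g⁻¹ ∈ S0 → g * x * g⁻¹ ∈ T) :
    ClosedFam p A {y : Ω | ∃ g ∈ A, ∃ t ∈ T, y = g * t * g⁻¹} ∧
      ∀ y ∈ S0, y ∈ {y : Ω | ∃ g ∈ A, ∃ t ∈ T, y = g * t * g⁻¹} → y ∈ T := by
  have hpp : p.Prime := Fact.out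
  refine ⟨⟨⟨1, A.one_mem, 1, T.one_mem, by simp⟩, ?_, ?_, ?_, ?_⟩, ?_⟩
  · rintro y ⟨g, hg, t, ht, rfl⟩
    refine ⟨A.mul_mem (A.mul_mem hg (hS0A (hT ht))) (A.inv_mem hg), ?_⟩
    obtain ⟨k, hk⟩ := hS0p ⟨t, hT ht⟩
    have h1 : t ^ p ^ k = 1 := congrArg Subtype.val hk
    have h2 : orderOf (g * t * g⁻¹) = orderOf t := by
      have : g * t * g⁻¹ = MulAut.conj g t := by simp
      rw [this, MulEquiv.orderOf_eq]
    obtain ⟨j, -, hj⟩ := (Nat.dvd_prime_pow hpp).mp (orderOf_dvd_of_pow_eq_one h1)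
    exact ⟨j, by rw [h2, hj]⟩
  · rintro y ⟨g, hg, t, ht, rfl⟩ g' hg'
    exact ⟨g' * g, A.mul_mem hg' hg, t, ht, by group⟩
  · intro P hP hPA y hy y' hy' hyT hy'T
    obtain ⟨a, haA, ha⟩ := a0_exists_conj_le A S0 hS0A hS0p hmax P hP hPA
    obtain ⟨g, hg, t, ht, rfl⟩ := hyT
    obtain ⟨g', hg', t', ht', rfl⟩ := hy'T
    have h1 : (a * g) * t * (a * g)⁻¹ ∈ T := by
      apply hcl t ht (a * g) (A.mul_mem haA hg)
      have := ha _ hy
      convert this using 1
      group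
    have h2 : (a * g') * t' * (a * g')⁻¹ ∈ T := by
      apply hcl t' ht' (a * g') (A.mul_mem haA hg')
      have := ha _ hy'
      convert this using 1
      group
    refine ⟨a⁻¹, A.inv_mem haA, _, T.mul_mem h1 h2, ?_⟩
    group
  · rintro y ⟨g, hg, t, ht, rfl⟩ k
    exact ⟨g, hg, t ^ k, T.pow_mem ht k, by rw [conj_pow]⟩
  · rintro y hy ⟨g, hg, t, ht, rfl⟩
    exact hcl t ht g hg hy

end Cfsg.Agent.Lib.Helper87.AltF
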