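import Mathlib
import Cfsg.Agent.Lib.Helper87.AltModel
import Cfsg.Agent.Lib.Helper17.AltFA0

set_option autoImplicit false

/-! # S5165 leaf [Ao4]: a closed family containing all elements of order `p` contains all cycles of
`p`-power length (`p` odd).

For a `p * q`-cycle `z` (`q = p ^ j ≥ 2`), `u = z ^ p` has exactly `p` cycles
`W i = z ^ i * w * z ^ (-i)` (`i < p`), `w` the cycle of `u` through a point; `w⁻¹ * z` has order `p`,
and `⟨cycles of u⟩ ⋊ ⟨z⟩` is a `p`-group containing `w` and `w⁻¹ * z`. -/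

namespace Cfsg.Agent.Lib.Helper87.AltF

open Equiv Subgroup

section
variable {Z : Type} [Fintype Z] [DecidableEq Z]

/-- regularity of a cycle on its support. -/
theorem ao4_pow_apply_eq {z : Perm Z} (hz : z.IsCycle) {a : Z} (ha : z a ≠ a) {x y : ℕ}
    (h : (z ^ x) a = (z ^ y) a) : x ≡ y [MOD z.support.card] := by
  wlog hxy : x ≤ y generalizing x y
  · exact (this h.symm (le_of_not_ge hxy)).symm
  have h1 : (z ^ (y - x)) a = a := by
    have h2 : (z ^ y) a = (z ^ x) ((z ^ (y - x)) a) := by
      rw [← Perm.mul_apply, ← pow_add, Nat.add_sub_cancel' hxy]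
    rw [h2] at h
    exact ((z ^ x).injective h).symm
  have h2 : z ^ (y - x) = 1 := (hz.pow_eq_one_iff' ha).mpr h1
  have h3 : z.support.card ∣ y - x := by
    rw [← hz.orderOf]
    exact orderOf_dvd_of_pow_eq_one h2
  exact (Nat.modEq_iff_dvd' hxy).mpr h3

/-- the cycles of `z ^ p` for a `p * q`-cycle `z` have length `q`. -/
theorem ao4_card_support_cycleOf {z : Perm Z} (hz : z.IsCycle) {p q : ℕ} (hp : 0 < p) (hq : 2 ≤ q)
    (hcard : z.support.card = p * q) {x : Z} (hx : z x ≠ x) :
    (z ^ p) x ≠ x ∧ ((z ^ p).cycleOf x).support.card = q := by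
  have hux : (z ^ p) x ≠ x := by
    intro h
    have h1 : p ≡ 0 [MOD z.support.card] := ao4_pow_apply_eq hz hx (by simpa using h)
    rw [hcard, Nat.modEq_zero_iff_dvd] at h1
    have h2 : p * q ≤ p := Nat.le_of_dvd hp h1
    nlinarith
  refine ⟨hux, ?_⟩
  have hc : ((z ^ p).cycleOf x).IsCycle := Perm.isCycle_cycleOf _ hux
  have hcx : ((z ^ p).cycleOf x) x ≠ x := by rwa [Perm.cycleOf_apply_self]
  rw [← hc.orderOf]
  apply Nat.dvd_antisymm
  · apply orderOf_dvd_of_pow_eq_one
    rw [hc.pow_eq_one_iff' hcx, Perm.cycleOf_pow_apply_self, ← pow_mul, ← hcard, ← hz.orderOf,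
      pow_orderOf_eq_one]
    rfl
  · have h1 : ((z ^ p).cycleOf x) ^ orderOf ((z ^ p).cycleOf x) = 1 := pow_orderOf_eq_one _
    rw [hc.pow_eq_one_iff' hcx, Perm.cycleOf_pow_apply_self, ← pow_mul] at h1
    have h2 : p * orderOf ((z ^ p).cycleOf x) ≡ 0 [MOD z.support.card] :=
      ao4_pow_apply_eq hz hx (by simpa using h1)
    rw [hcard, Nat.modEq_zero_iff_dvd] at h2
    exact (Nat.mul_dvd_mul_iff_left hp).mp h2

/-- conjugation by an element commuting with `u` permutes the cycles of `u`. -/
theorem ao4_conj_mem_cycleFactorsFinset {u g c : Perm Z} (hg : g * u = u * g)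
    (hc : c ∈ u.cycleFactorsFinset) : g * c * g⁻¹ ∈ u.cycleFactorsFinset := by
  rw [Perm.mem_cycleFactorsFinset_iff] at hc ⊢
  refine ⟨hc.1.conj, ?_⟩
  intro a ha
  have ha' : g.symm a ∈ c.support := by
    rw [Perm.mem_support] at ha ⊢
    intro h
    apply ha
    simp only [Perm.mul_apply, Perm.coe_inv]
    rw [h]
    simp
  have h1 := hc.2 _ ha'
  simp only [Perm.mul_apply, Perm.coe_inv]
  rw [h1]
  have h2 : g (u (g.symm a)) = (g * u) (g.symm a) := rfl
  rw [h2, hg]
  simp

end

/-- an element permuting a generating set (together with its inverse) normalizes the closure. -/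
theorem ao4_conj_mem_closure {G : Type*} [Group G] (s : Set G) (g : G)
    (h1 : ∀ x ∈ s, g * x * g⁻¹ ∈ s) : ∀ h ∈ Subgroup.closure s, g * h * g⁻¹ ∈ Subgroup.closure s := by
  intro h hh
  induction hh using Subgroup.closure_induction with
  | mem x hx => exact Subgroup.subset_closure (h1 x hx)
  | one => simp
  | mul x y _ _ ihx ihy =>
    have : g * (x * y) * g⁻¹ = (g * x * g⁻¹) * (g * y * g⁻¹) := by group
    rw [this]
    exact Subgroup.mul_mem _ ihx ihy
  | inv x _ ihx =>
    have : g * x⁻¹ * g⁻¹ = (g * x * g⁻¹)⁻¹ := by group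
    rw [this]
    exact Subgroup.inv_mem _ ihx

theorem ao4_mem_normalizer_closure {G : Type*} [Group G] (s : Set G) (g : G)
    (h1 : ∀ x ∈ s, g * x * g⁻¹ ∈ s) (h2 : ∀ x ∈ s, g⁻¹ * x * g ∈ s) :
    g ∈ Subgroup.normalizer ((Subgroup.closure s : Subgroup G) : Set G) := by
  rw [Subgroup.mem_normalizer_iff]
  intro h
  constructor
  · exact ao4_conj_mem_closure s g h1 h
  · intro hh
    have h3 := ao4_conj_mem_closure s g⁻¹ (by simpa using h2) _ hh
    have h4 : g⁻¹ * (g * h * g⁻¹) * g⁻¹⁻¹ = h := by group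
    rwa [h4] at h3

/-- `noncommProd` over a finset listed without repetition. -/
theorem ao4_noncommProd_eq_list_prod {M : Type*} [Monoid M] [DecidableEq M] (s : Finset M)
    (L : List M) (hL : L.Nodup) (hs : L.toFinset = s)
    (comm : (s : Set M).Pairwise (Function.onFun Commute id)) :
    s.noncommProd id comm = L.prod := by
  subst hs
  rw [Finset.noncommProd_toFinset L id comm hL]
  simp

/-- the telescoping identity for `(w⁻¹ * z) ^ m`. -/
theorem ao4_telescope {G : Type*} [Group G] (z w : G) (m : ℕ) :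
    (w⁻¹ * z) ^ m = ((List.range m).map (fun i => z ^ i * w⁻¹ * (z ^ i)⁻¹)).prod * z ^ m := by
  induction m with
  | zero => simp
  | succ m ih =>
    rw [pow_succ, ih, List.range_succ, List.map_append, List.prod_append]
    simp only [List.map_cons, List.map_nil, List.prod_cons, List.prod_nil, mul_one]
    rw [pow_succ]
    group

section
variable {Z : Type} [Fintype Z] [DecidableEq Z]

/-- a cycle of odd length is even. -/
theorem ao4_cycle_mem_alt {c : Perm Z} (hc : c.IsCycle) (hodd : Odd c.support.card) :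
    c ∈ alternatingGroup Z := by
  rw [Perm.mem_alternatingGroup, hc.sign, hodd.neg_one_pow]
  simp

/-- the structural step: a `p * q`-cycle `z` is `w * t` with `w` a `q`-cycle, `t` of order `p`, both
in a `p`-subgroup of the alternating group (`q = p ^ j ≥ 2`, `p` odd). -/
theorem ao4_decomp (p : ℕ) [Fact p.Prime] (hp : p ≠ 2) (j : ℕ) (hj : 0 < j) (z : Perm Z)
    (hz : z.IsCycle) (hcard : z.support.card = p ^ (j + 1)) :
    ∃ (w t : Perm Z) (P : Subgroup (Perm Z)), w.IsCycle ∧ w.support.card = p ^ j ∧ orderOf t = p ∧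
      IsPGroup p P ∧ P ≤ alternatingGroup Z ∧ w ∈ P ∧ t ∈ P ∧ w * t = z := by
  have hpp : p.Prime := Fact.out
  have hp2 := hpp.two_le
  have hpodd : Odd p := hpp.odd_of_ne_two hp
  set q := p ^ j with hq_def
  have hq : 2 ≤ q := by
    calc 2 ≤ p := hp2
      _ = p ^ 1 := (pow_one p).symm
      _ ≤ p ^ j := Nat.pow_le_pow_right hpp.pos hj
  have hcard' : z.support.card = p * q := by rw [hcard, pow_succ, mul_comm]
  obtain ⟨a, ha⟩ : ∃ a, z a ≠ a := let ⟨a, ha, _⟩ := hz; ⟨a, ha⟩
  set u := z ^ p with hu_def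
  set w := u.cycleOf a with hw_def
  obtain ⟨hua, hwcard⟩ := ao4_card_support_cycleOf hz hpp.pos hq hcard' ha
  have hwcyc : w.IsCycle := Perm.isCycle_cycleOf u hua
  have hwF : w ∈ u.cycleFactorsFinset :=
    Perm.cycleOf_mem_cycleFactorsFinset_iff.mpr (Perm.mem_support.mpr hua)
  have hzu : z * u = u * z := by
    rw [hu_def, ← pow_succ', ← pow_succ]
  have hziu : ∀ i : ℕ, z ^ i * u = u * z ^ i := by
    intro i
    rw [hu_def, ← pow_add, ← pow_add, add_comm]
  -- every cycle of `u` has length `q`
  have hFq : ∀ c ∈ u.cycleFactorsFinset, c.IsCycle ∧ c.support.card = q := by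
    intro c hc
    have hcc : c.IsCycle := (Perm.mem_cycleFactorsFinset_iff.mp hc).1
    obtain ⟨x, hx, -⟩ := hcc
    have hxs : x ∈ c.support := Perm.mem_support.mpr hx
    have hceq : c = u.cycleOf x := Perm.cycle_is_cycleOf hxs hc
    have hxu : x ∈ u.support := Perm.mem_cycleFactorsFinset_support_le hc hxs
    have hxz : z x ≠ x := Perm.mem_support.mp (Perm.support_pow_le z p hxu)
    refine ⟨(Perm.mem_cycleFactorsFinset_iff.mp hc).1, ?_⟩
    rw [hceq]
    exact (ao4_card_support_cycleOf hz hpp.pos hq hcard' hxz).2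
  -- the support of `u`
  have husupp : u.support = z.support := by
    apply le_antisymm (Perm.support_pow_le z p)
    intro x hx
    rw [Perm.mem_support] at hx ⊢
    exact (ao4_card_support_cycleOf hz hpp.pos hq hcard' hx).1
  -- the number of cycles of `u`
  have hFcard : u.cycleFactorsFinset.card = p := by
    have h1 : u.cycleType.sum = u.support.card := Perm.sum_cycleType u
    rw [Perm.cycleType_def] at h1
    have h2 : (u.cycleFactorsFinset.1.map (Finset.card ∘ Perm.support)).sum =
        ∑ c ∈ u.cycleFactorsFinset, c.support.card := rfl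
    rw [h2, Finset.sum_congr rfl (fun c hc => (hFq c hc).2), Finset.sum_const, smul_eq_mul, husupp,
      hcard'] at h1
    exact Nat.eq_of_mul_eq_mul_right (by omega : 0 < q) h1
  -- the conjugates of `w`
  set W : ℕ → Perm Z := fun i => z ^ i * w * (z ^ i)⁻¹ with hW_def
  have hWF : ∀ i, W i ∈ u.cycleFactorsFinset := fun i =>
    ao4_conj_mem_cycleFactorsFinset (hziu i) hwF
  have hWinj : ∀ i ∈ List.range p, ∀ i' ∈ List.range p, W i = W i' → i = i' := by
    intro i hi i' hi' hWW
    rw [List.mem_range] at hi hi'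
    -- `z ^ i a` is moved by `W i`
    have h1 : W i ((z ^ i) a) ≠ (z ^ i) a := by
      simp only [hW_def, Perm.mul_apply, Perm.coe_inv, Equiv.symm_apply_apply]
      intro h
      have := (z ^ i).injective h
      rw [hw_def, Perm.cycleOf_apply_self] at this
      exact hua this
    rw [hWW] at h1
    have h2 : w ((z ^ i').symm ((z ^ i) a)) ≠ (z ^ i').symm ((z ^ i) a) := by
      intro h
      apply h1
      simp only [hW_def, Perm.mul_apply, Perm.coe_inv]
      rw [h]
      simp
    have h3 : u.SameCycle a ((z ^ i').symm ((z ^ i) a)) :=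
      (Perm.mem_support_cycleOf_iff' hua).mp (Perm.mem_support.mpr h2)
    obtain ⟨m, hm⟩ := h3.exists_nat_pow_eq
    have h4 : (z ^ (i' + p * m)) a = (z ^ i) a := by
      rw [pow_add, Perm.mul_apply, pow_mul, ← hu_def, hm]
      simp
    have h5 := ao4_pow_apply_eq hz ha h4
    rw [hcard'] at h5
    have h6 : i' + p * m ≡ i [MOD p] := h5.of_mul_right q
    have h7 : i' ≡ i [MOD p] := by
      have : i' + p * m ≡ i' [MOD p] := by
        have h9 : p * m ≡ 0 [MOD p] := (Nat.modEq_zero_iff_dvd).mpr (dvd_mul_right p m)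
        have h8 := (Nat.ModEq.refl i').add h9
        rw [add_zero] at h8
        exact h8
      exact this.symm.trans h6
    exact (h7.eq_of_lt_of_lt hi' hi).symm
  set l := (List.range p).map W with hl_def
  have hlnodup : l.Nodup := (List.nodup_range).map_on hWinj
  have hlF : l.toFinset = u.cycleFactorsFinset := by
    apply Finset.eq_of_subset_of_card_le
    · intro c hc
      rw [List.mem_toFinset, hl_def, List.mem_map] at hc
      obtain ⟨i, -, rfl⟩ := hc
      exact hWF i
    · rw [List.toFinset_card_of_nodup hlnodup, hl_def, List.length_map, List.length_range, hFcard]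
  have hprod : l.reverse.prod = u := by
    have h1 := Perm.cycleFactorsFinset_noncommProd u
    rw [ao4_noncommProd_eq_list_prod u.cycleFactorsFinset l.reverse (List.nodup_reverse.mpr hlnodup)
      (by rw [List.toFinset_reverse, hlF])] at h1
    exact h1
  -- `t = w⁻¹ * z` has order `p`
  have htp : (w⁻¹ * z) ^ p = 1 := by
    rw [ao4_telescope z w p]
    have h1 : ((List.range p).map (fun i => z ^ i * w⁻¹ * (z ^ i)⁻¹)) = l.map (fun x => x⁻¹) := by
      rw [hl_def, List.map_map]
      apply List.map_congr_left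
      intro i _
      simp only [Function.comp, hW_def]
      group
    have h2 : (l.map (fun x => x⁻¹)).prod = (l.reverse.prod)⁻¹ := by
      rw [List.prod_inv_reverse, List.map_reverse, List.reverse_reverse]
    rw [h1, h2, hprod, ← hu_def]
    simp
  have ht1 : w⁻¹ * z ≠ 1 := by
    intro h
    have hzw : z = w := by
      have := congrArg (fun x => w * x) h
      simpa using this
    rw [hzw, hwcard] at hcard'
    have : q * 1 = p * q := by rw [mul_one]; exact hcard'
    have hq0 : 0 < q := by omega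
    have : 1 = p := by
      have h8 : q * 1 = q * p := by rw [this, mul_comm]
      exact Nat.eq_of_mul_eq_mul_left hq0 h8
    omega
  have hto : orderOf (w⁻¹ * z) = p := orderOf_eq_prime htp ht1
  -- the `p`-group
  have hN : IsPGroup p (Subgroup.closure (u.cycleFactorsFinset : Set (Perm Z))) := by
    apply a0_isPGroup_closure_of_commute
    · intro x hx y hy
      exact (Perm.cycleFactorsFinset_mem_commute' u hx hy).eq
    · intro c hc
      obtain ⟨hcc, hccard⟩ := hFq c hc
      exact ⟨j, by rw [← hq_def, ← hccard, ← hcc.orderOf]; exact pow_orderOf_eq_one c⟩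
  have hzN : z ∈ Subgroup.normalizer
      ((Subgroup.closure (u.cycleFactorsFinset : Set (Perm Z)) : Subgroup (Perm Z)) :
        Set (Perm Z)) := by
    apply ao4_mem_normalizer_closure
    · intro x hx
      exact ao4_conj_mem_cycleFactorsFinset hzu hx
    · intro x hx
      have h1 : z⁻¹ * u = u * z⁻¹ := (Commute.inv_left (show Commute z u from hzu)).eq
      have := ao4_conj_mem_cycleFactorsFinset h1 hx
      simpa using this
  have hZ : IsPGroup p (Subgroup.zpowers z) := by
    rw [Subgroup.zpowers_eq_closure]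
    apply a0_isPGroup_closure_of_commute
    · intro x hx y hy
      rw [Set.mem_singleton_iff] at hx hy
      rw [hx, hy]
    · intro x hx
      rw [Set.mem_singleton_iff] at hx
      exact ⟨j + 1, by rw [hx, ← hcard, ← hz.orderOf]; exact pow_orderOf_eq_one z⟩
  have hP : IsPGroup p (Subgroup.zpowers z ⊔
      Subgroup.closure (u.cycleFactorsFinset : Set (Perm Z)) : Subgroup (Perm Z)) :=
    IsPGroup.to_sup_of_normal_right' hZ hN (Subgroup.zpowers_le.mpr hzN)
  have hzA : z ∈ alternatingGroup Z := by
    apply ao4_cycle_mem_alt hz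
    rw [hcard]
    exact hpodd.pow
  have hPA : (Subgroup.zpowers z ⊔
      Subgroup.closure (u.cycleFactorsFinset : Set (Perm Z)) : Subgroup (Perm Z)) ≤
        alternatingGroup Z := by
    apply sup_le
    · exact Subgroup.zpowers_le.mpr hzA
    · rw [Subgroup.closure_le]
      intro c hc
      obtain ⟨hcc, hccard⟩ := hFq c hc
      apply ao4_cycle_mem_alt hcc
      rw [hccard, hq_def]
      exact hpodd.pow
  have hwP : w ∈ (Subgroup.zpowers z ⊔
      Subgroup.closure (u.cycleFactorsFinset : Set (Perm Z)) : Subgroup (Perm Z)) :=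
    (le_sup_right : _ ≤ Subgroup.zpowers z ⊔ _) (Subgroup.subset_closure hwF)
  have hzP : z ∈ (Subgroup.zpowers z ⊔
      Subgroup.closure (u.cycleFactorsFinset : Set (Perm Z)) : Subgroup (Perm Z)) :=
    (le_sup_left : Subgroup.zpowers z ≤ _) (Subgroup.mem_zpowers z)
  refine ⟨w, w⁻¹ * z, _, hwcyc, hwcard, hto, hP, hPA, hwP,
    Subgroup.mul_mem _ (Subgroup.inv_mem _ hwP) hzP, ?_⟩
  group

/-- [Ao4] (`p` odd) then it contains every cycle of `p`-power length: for a `p^(j+1)`-cycle `z` let
`w` be the cycle of `z ^ p` through a point and `t = z * w⁻¹`; then `t` has order `p`, `w` is a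
`p^j`-cycle and `⟨w, t⟩` is a `p`-group (the `t`-conjugates of `w` are the disjoint cycles of `z ^ p`). -/
theorem ao4_closedFam_ppow_cycle_mem (Z : Type) [Fintype Z] [DecidableEq Z] (p : ℕ) [Fact p.Prime]
    (hp : p ≠ 2) (𝒯 : Set (Perm Z)) (h𝒯 : ClosedFam p (alternatingGroup Z) 𝒯)
    (h3 : ∀ w : Perm Z, orderOf w = p → w ∈ 𝒯) :
    ∀ (j : ℕ) (c : Perm Z), c.IsCycle → c.support.card = p ^ j → c ∈ 𝒯 := by
  intro j
  induction j with
  | zero =>
    intro c hc hcard
    exfalso
    have := hc.two_le_card_support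
    rw [hcard] at this
    simp at this
  | succ j ih =>
    intro z hz hcard
    rcases Nat.eq_zero_or_pos j with rfl | hj
    · apply h3
      rw [hz.orderOf, hcard]
      simp
    · obtain ⟨w, t, P, hwc, hwcard, hto, hP, hPA, hwP, htP, hwt⟩ :=
        ao4_decomp p hp j hj z hz hcard
      rw [← hwt]
      exact h𝒯.2.2.2.1 P hP hPA w hwP t htP (ih w hwc hwcard) (h3 t hto)

end

end Cfsg.Agent.Lib.Helper87.AltF
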