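import Mathlib
import Cfsg.Agent.Lib.Helper87.AltModel
import Cfsg.Agent.Lib.Helper17.AltFA0

set_option autoImplicit false

/-! # S5165 leaves [Ao5] and [At3]: from cycles to all `p`-elements -/

namespace Cfsg.Agent.Lib.Helper87.AltF

open Equiv Subgroup

/-- a divisor-of-lcm helper: if `orderOf (σ * τ) = p ^ k` for disjoint `σ τ` then both orders are
powers of `p`. -/
theorem ao5_orders_of_disjoint {Z : Type} [Fintype Z] [DecidableEq Z] {p : ℕ} (hp : p.Prime)
    {σ τ : Perm Z} (hd : σ.Disjoint τ) {k : ℕ} (hk : orderOf (σ * τ) = p ^ k) :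
    (∃ a : ℕ, orderOf σ = p ^ a) ∧ ∃ b : ℕ, orderOf τ = p ^ b := by
  rw [hd.orderOf] at hk
  have h1 : orderOf σ ∣ p ^ k := hk ▸ Nat.dvd_lcm_left _ _
  have h2 : orderOf τ ∣ p ^ k := hk ▸ Nat.dvd_lcm_right _ _
  obtain ⟨a, -, ha⟩ := (Nat.dvd_prime_pow hp).mp h1
  obtain ⟨b, -, hb⟩ := (Nat.dvd_prime_pow hp).mp h2
  exact ⟨⟨a, ha⟩, ⟨b, hb⟩⟩

set_option linter.unusedVariables false in
/-- [Ao5] (`p` odd) then it contains every `p`-element (a product of commuting cycles). -/
theorem closedFam_pElement_mem (Z : Type) [Fintype Z] [DecidableEq Z] (p : ℕ) [Fact p.Prime]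
    (hp : p ≠ 2) (𝒯 : Set (Perm Z)) (h𝒯 : ClosedFam p (alternatingGroup Z) 𝒯)
    (h4 : ∀ (j : ℕ) (c : Perm Z), c.IsCycle → c.support.card = p ^ j → c ∈ 𝒯) :
    ∀ w : Perm Z, (∃ k : ℕ, orderOf w = p ^ k) → w ∈ 𝒯 := by
  have hpp : p.Prime := Fact.out
  intro w
  induction w using Equiv.Perm.cycle_induction_on with
  | base_one => intro _; exact h𝒯.1
  | base_cycles σ hσ =>
    rintro ⟨k, hk⟩
    exact h4 k σ hσ (by rw [← hσ.orderOf, hk])
  | induction_disjoint σ τ hd _ ihσ ihτ =>
    rintro ⟨k, hk⟩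
    obtain ⟨ha, hb⟩ := ao5_orders_of_disjoint hpp hd hk
    exact a0_mul_mem_of_commute h𝒯 (ihσ ha) (ihτ hb) hd.commute.eq

/-- a cycle of `2`-power length is odd. -/
theorem at3_cycle_not_mem_alt {Z : Type} [Fintype Z] [DecidableEq Z] {c : Perm Z} (hc : c.IsCycle)
    {j : ℕ} (hj : c.support.card = 2 ^ j) : c ∉ alternatingGroup Z := by
  rw [Equiv.Perm.mem_alternatingGroup, hc.sign, hj]
  have h2 : 2 ≤ 2 ^ j := hj ▸ hc.two_le_card_support
  have hj1 : j ≠ 0 := by
    rintro rfl
    simp at h2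
  obtain ⟨i, rfl⟩ := Nat.exists_eq_succ_of_ne_zero hj1
  rw [pow_succ, pow_mul]
  simp

/-- [At3] (`p = 2`) then it contains every even `2`-element (pair up its cycles). -/
theorem closedFam_twoElement_mem (Z : Type) [Fintype Z] [DecidableEq Z]
    (𝒯 : Set (Perm Z)) (h𝒯 : ClosedFam 2 (alternatingGroup Z) 𝒯)
    (h2 : ∀ (j j' : ℕ) (c c' : Perm Z), c.IsCycle → c'.IsCycle → c.Disjoint c' →
      c.support.card = 2 ^ j → c'.support.card = 2 ^ j' → c * c' ∈ 𝒯) :
    ∀ w ∈ alternatingGroup Z, (∃ k : ℕ, orderOf w = 2 ^ k) → w ∈ 𝒯 := by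
  have key : ∀ w : Perm Z, (∃ k : ℕ, orderOf w = 2 ^ k) →
      (w ∈ alternatingGroup Z → w ∈ 𝒯) ∧
      (w ∉ alternatingGroup Z → ∀ c : Perm Z, c.IsCycle → (∃ j : ℕ, c.support.card = 2 ^ j) →
        c.Disjoint w → c * w ∈ 𝒯) := by
    intro w
    induction w using Equiv.Perm.cycle_induction_on with
    | base_one =>
      intro _
      exact ⟨fun _ => h𝒯.1, fun h => absurd (Subgroup.one_mem _) h⟩
    | base_cycles σ hσ =>
      rintro ⟨k, hk⟩
      have hcard : σ.support.card = 2 ^ k := by rw [← hσ.orderOf, hk]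
      refine ⟨fun h => absurd h (at3_cycle_not_mem_alt hσ hcard), ?_⟩
      rintro - c hc ⟨j, hj⟩ hd
      exact h2 j k c σ hc hσ hd hj hcard
    | induction_disjoint σ τ hd hσ ihσ ihτ =>
      rintro ⟨k, hk⟩
      obtain ⟨⟨a, ha⟩, hb⟩ := ao5_orders_of_disjoint Nat.prime_two hd hk
      have hcard : σ.support.card = 2 ^ a := by rw [← hσ.orderOf, ha]
      have hσodd : σ ∉ alternatingGroup Z := at3_cycle_not_mem_alt hσ hcard
      have hsσ : Equiv.Perm.sign σ = -1 := by
        rcases Int.units_eq_one_or (Equiv.Perm.sign σ) with h | h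
        · exact absurd (Equiv.Perm.mem_alternatingGroup.mpr h) hσodd
        · exact h
      obtain ⟨ihτ1, ihτ2⟩ := ihτ hb
      constructor
      · intro hmem
        have hτodd : τ ∉ alternatingGroup Z := by
          intro hτ
          rw [Equiv.Perm.mem_alternatingGroup] at hmem hτ
          rw [Equiv.Perm.sign_mul, hsσ, hτ] at hmem
          simp at hmem
        exact ihτ2 hτodd σ hσ ⟨a, hcard⟩ hd
      · intro hnmem c hc hj hdc
        have hτev : τ ∈ alternatingGroup Z := by
          rw [Equiv.Perm.mem_alternatingGroup]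
          rcases Int.units_eq_one_or (Equiv.Perm.sign τ) with h | h
          · exact h
          · exfalso
            apply hnmem
            rw [Equiv.Perm.mem_alternatingGroup, Equiv.Perm.sign_mul, hsσ, h]
            simp
        have hτT : τ ∈ 𝒯 := ihτ1 hτev
        have hsupp : Disjoint c.support (σ.support ∪ τ.support) := by
          rw [← hd.support_mul]
          exact Equiv.Perm.disjoint_iff_disjoint_support.mp hdc
        have hdcσ : c.Disjoint σ :=
          Equiv.Perm.disjoint_iff_disjoint_support.mpr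
            (hsupp.mono_right Finset.subset_union_left)
        have hdcτ : c.Disjoint τ :=
          Equiv.Perm.disjoint_iff_disjoint_support.mpr
            (hsupp.mono_right Finset.subset_union_right)
        obtain ⟨j, hj⟩ := hj
        have hcσ : c * σ ∈ 𝒯 := h2 j a c σ hc hσ hdcσ hj hcard
        have hd' : (c * σ).Disjoint τ := Equiv.Perm.Disjoint.mul_left hdcτ hd
        have := a0_mul_mem_of_commute h𝒯 hcσ hτT hd'.commute.eq
        rwa [mul_assoc] at this
  intro w hw hk
  exact (key w hk).1 hw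

end Cfsg.Agent.Lib.Helper87.AltF
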