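import Mathlib
import Cfsg.Agent.Lib.Helper17.Counting

set_option autoImplicit false

namespace Cfsg.Agent.Lib.Helper17

open Subgroup

theorem card_subtype_ne {α : Type*} [Finite α] (a : α) :
    Nat.card {x : α // x ≠ a} = Nat.card α - 1 := by
  classical
  letI : Fintype α := Fintype.ofFinite α
  rw [Nat.card_eq_fintype_card, Nat.card_eq_fintype_card]
  exact Set.card_ne_eq a

theorem orderOf_eq_of_mem_of_card_prime {G : Type*} [Group G] [Finite G] {p : ℕ} [hp : Fact p.Prime]
    (P : Subgroup G) (hP : Nat.card ↥P = p) (w : G) (hw : w ∈ P) (hw1 : w ≠ 1) : orderOf w = p := by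
  have h1 : orderOf (⟨w, hw⟩ : ↥P) ∣ p := hP ▸ orderOf_dvd_natCard _
  rw [Subgroup.orderOf_mk] at h1
  rcases (Nat.dvd_prime hp.out).mp h1 with h | h
  · exact absurd (orderOf_eq_one_iff.mp h) hw1
  · exact h

theorem zpowers_eq_of_mem_of_card_prime {G : Type*} [Group G] [Finite G] {p : ℕ} [hp : Fact p.Prime]
    (P : Subgroup G) (hP : Nat.card ↥P = p) (w : G) (hw : w ∈ P) (hw1 : w ≠ 1) : zpowers w = P := by
  apply Subgroup.eq_of_le_of_card_ge
  · rw [zpowers_le]; exact hw
  · rw [Nat.card_zpowers, orderOf_eq_of_mem_of_card_prime P hP w hw hw1, hP]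

/-- If the Sylow `p`-subgroups have order `p`, the number of elements of order `p` is
`n_p * (p - 1)`. -/
theorem card_orderOf_eq_prime {G : Type*} [Group G] [Finite G] {p : ℕ} [hp : Fact p.Prime]
    (hcardP : ∀ P : Sylow p G, Nat.card ↥(P : Subgroup G) = p) :
    Nat.card {g : G // orderOf g = p} = Nat.card (Sylow p G) * (p - 1) := by
  classical
  obtain ⟨P₀⟩ : Nonempty (Sylow p G) := inferInstance
  have hfac : p ^ (Nat.card G).factorization p = p := by
    rw [← P₀.card_eq_multiplicity, hcardP]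
  let f : {g : G // orderOf g = p} → Sylow p G := fun g =>
    Sylow.ofCard (zpowers g.1) (by rw [Nat.card_zpowers, g.2, hfac])
  apply card_eq_mul_of_fibers f
  intro P
  have hc1 := card_subtype_ne (1 : ↥(P : Subgroup G))
  rw [hcardP P] at hc1
  rw [← hc1]
  refine Nat.card_congr ⟨fun g => ⟨⟨g.1.1, ?_⟩, ?_⟩, fun x => ⟨⟨x.1.1, ?_⟩, ?_⟩, ?_, ?_⟩
  · have h9 : zpowers g.1.1 = (P : Subgroup G) := by
      have h8 := g.2
      exact congrArg (fun S : Sylow p G => (S : Subgroup G)) h8
    rw [← h9]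
    exact mem_zpowers _
  · intro h
    have h1 : g.1.1 = 1 := congrArg Subtype.val h
    have := g.1.2
    rw [h1, orderOf_one] at this
    exact hp.out.one_lt.ne this
  · apply orderOf_eq_of_mem_of_card_prime (P : Subgroup G) (hcardP P) _ x.1.2
    intro h
    apply x.2
    exact Subtype.ext h
  · apply Sylow.ext
    show zpowers x.1.1 = (P : Subgroup G)
    apply zpowers_eq_of_mem_of_card_prime (P : Subgroup G) (hcardP P) _ x.1.2
    intro h
    apply x.2
    exact Subtype.ext h
  · intro g; rfl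
  · intro x; rfl

end Cfsg.Agent.Lib.Helper17
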