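import Mathlib
import Cfsg.Agent.Lib.Helper17.FixedPoints
import Cfsg.Agent.Lib.Helper17.SylowTools
import Cfsg.Agent.Lib.Helper17.PGroupNorm

set_option autoImplicit false

namespace Cfsg.Agent.Lib.Helper17

open MulAction Subgroup

variable {G : Type*} [Group G]

/-- `|H ⊓ K| * |K : H ⊓ K| = |K|`. -/
theorem card_inf_mul_relIndex [Finite G] (H K : Subgroup G) :
    Nat.card ↥(H ⊓ K : Subgroup G) * H.relIndex K = Nat.card ↥K := by
  have h1 : Nat.card ↥(H.subgroupOf K) * (H.subgroupOf K).index = Nat.card ↥K :=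
    Subgroup.card_mul_index _
  have h2 : Nat.card ↥(H.subgroupOf K) = Nat.card ↥(H ⊓ K : Subgroup G) := by
    rw [← Subgroup.subgroupOf_map_subtype]
    exact Nat.card_congr (Subgroup.equivMapOfInjective _ _ (Subgroup.subtype_injective _)).toEquiv
  rw [← h2]
  exact h1

/-- The number of Sylow `p`-subgroups of a subgroup `H` containing the Sylow `p`-subgroup `P`
of `G`, namely `|H : N_H(P)|`, is `1` mod `p`. -/
theorem relIndex_normalizer_modEq_one [Finite G] {p : ℕ} [Fact p.Prime]
    (P : Sylow p G) (H : Subgroup G) (hPH : (P : Subgroup G) ≤ H) :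
    (normalizer ((P : Subgroup G) : Set G)).relIndex H ≡ 1 [MOD p] := by
  have h1 := card_sylow_modEq_one p ↥H
  have h2 := (P.subtype hPH).card_eq_index_normalizer
  have h3 : normalizer (((P.subtype hPH : Sylow p ↥H) : Subgroup ↥H) : Set ↥H) =
      (normalizer ((P : Subgroup G) : Set G)).subgroupOf H := by
    rw [Sylow.coe_subtype]
    exact (subgroupOf_normalizer_eq hPH).symm
  rw [Subgroup.relIndex, ← h3]
  rw [h2] at h1
  exact h1

/-- A Sylow `p`-subgroup contained in the normalizer of another one equals it. -/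
theorem sylow_eq_of_le_normalizer {p : ℕ} [Fact p.Prime] (P R : Sylow p G)
    (h : (R : Subgroup G) ≤ normalizer ((P : Subgroup G) : Set G)) : R = P := by
  have h1 : R ∈ fixedPoints (P : Subgroup G) (Sylow p G) ↔ (P : Subgroup G) ≤ R :=
    P.2.sylow_mem_fixedPoints_iff
  have h2 : P ∈ fixedPoints (R : Subgroup G) (Sylow p G) := by
    rw [Subgroup.sylow_mem_fixedPoints_iff]
    exact h
  rw [R.2.sylow_mem_fixedPoints_iff] at h2
  exact (Sylow.ext (R.3 P.2 h2)).symm

/-- An element commuting with every element of `P` lies in the normalizer of `P`. -/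
theorem mem_normalizer_of_commute (P : Subgroup G) (t : G) (ht : ∀ a ∈ P, a * t = t * a) :
    t ∈ normalizer (P : Set G) := by
  rw [mem_normalizer_iff]
  intro n
  constructor
  · intro hn
    have := ht n hn
    have h3 : t * n * t⁻¹ = n := by rw [← this, mul_inv_cancel_right]
    rw [h3]; exact hn
  · intro hn
    have := ht _ hn
    have h3 : n = t⁻¹ * (t * n * t⁻¹) * t := by group
    rw [h3, mul_assoc, this, ← mul_assoc, inv_mul_cancel, one_mul]
    exact hn

/-- **Setup lemma** for an involution `t` centralizing a Sylow `p`-subgroup `P` in a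
non-commutative simple group: fixed-point count `f` of `t` on `Sylow p G` and the number `k` of
conjugates of `t` in `N(P)`. -/
theorem involution_sylow_count [Finite G] [IsSimpleGroup G] (hnc : ¬ IsMulCommutative G)
    {p : ℕ} [Fact p.Prime] (P : Sylow p G) (hn : 1 < Nat.card (Sylow p G))
    (t : G) (ht : t * t = 1) (ht1 : t ≠ 1)
    (hcomm : ∀ a ∈ (P : Subgroup G), a * t = t * a) :
    Nat.card (fixedBy (Sylow p G) t) % p = 1 % p ∧
    Nat.card (fixedBy (Sylow p G) t) % 4 = Nat.card (Sylow p G) % 4 ∧
    Nat.card (fixedBy (Sylow p G) t) < Nat.card (Sylow p G) ∧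
    Nat.card {s : G // IsConj t s ∧ s ∈ normalizer ((P : Subgroup G) : Set G)} *
      Nat.card ↥(centralizer ({t} : Set G)) * Nat.card (Sylow p G) =
      Nat.card (fixedBy (Sylow p G) t) * Nat.card G := by
  refine ⟨card_fixedBy_sylow_modEq_one P t hcomm, card_fixedBy_modEq_four hnc t ht, ?_, ?_⟩
  · -- strict inequality by faithfulness
    by_contra hcon
    apply ht1
    have hall : ∀ R : Sylow p G, t • R = R := by
      by_contra hne
      push Not at hne
      obtain ⟨R, hR⟩ := hne
      apply hcon
      have : ¬ (R ∈ fixedBy (Sylow p G) t) := by rwa [mem_fixedBy]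
      exact Finite.card_subtype_lt (p := fun R => R ∈ fixedBy (Sylow p G) t) this
    have hX : ∃ g : G, ∃ R : Sylow p G, g • R ≠ R := by
      obtain ⟨R, hR⟩ : ∃ R : Sylow p G, R ≠ P := by
        by_contra hcon2
        push Not at hcon2
        haveI : Subsingleton (Sylow p G) := ⟨fun a b => (hcon2 a).trans (hcon2 b).symm⟩
        have := Finite.card_le_one_iff_subsingleton.mpr this
        omega
      obtain ⟨g, hg⟩ := MulAction.exists_smul_eq G P R
      exact ⟨g, P, by rw [hg]; exact hR⟩
    exact eq_one_of_forall_smul_eq hX t hall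
  · have hdc := card_isConj_mul_card_fixedBy (X := Sylow p G) t P
    have hcl := index_centralizer_eq_card_isConj t
    have hidx := (centralizer ({t} : Set G)).card_mul_index
    have hst : Nat.card {s : G // IsConj t s ∧ s • P = P} =
        Nat.card {s : G // IsConj t s ∧ s ∈ normalizer ((P : Subgroup G) : Set G)} := by
      apply Nat.card_congr
      refine Equiv.subtypeEquivRight ?_
      intro s
      rw [Sylow.smul_eq_iff_mem_normalizer]
      exact Iff.rfl
    rw [hst] at hdc
    rw [← hidx, hcl]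
    calc _ = (Nat.card (Sylow p G) * Nat.card {s : G // IsConj t s ∧ s ∈ normalizer ((P : Subgroup G) : Set G)}) * Nat.card ↥(centralizer ({t} : Set G)) := by ring
      _ = _ := by rw [← hdc]; ring

/-- A group of order `p ^ e` with `e ≤ 2` is commutative (elementwise form for subgroups). -/
theorem comm_of_card_prime_pow_le_two [Finite G] {p e : ℕ} [hp : Fact p.Prime] (he : e ≤ 2)
    (V : Subgroup G) (hV : Nat.card ↥V = p ^ e) : ∀ a ∈ V, ∀ b ∈ V, a * b = b * a := by
  intro a ha b hb
  have key : ∀ x y : ↥V, x * y = y * x := by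
    interval_cases e
    · intro x y
      have h1 : Nat.card ↥V = 1 := by simpa using hV
      haveI : Subsingleton ↥V := (Nat.card_eq_one_iff_unique.mp h1).1
      rw [Subsingleton.elim x 1, Subsingleton.elim y 1]
    · intro x y
      have h1 : Nat.card ↥V = p := by simpa using hV
      have hcyc : IsCyclic ↥V := isCyclic_of_prime_card h1
      exact hcyc.isMulCommutative.is_comm.comm x y
    · intro x y
      exact (IsPGroup.isMulCommutative_of_card_eq_prime_sq hV).is_comm.comm x y
  exact congrArg Subtype.val (key ⟨a, ha⟩ ⟨b, hb⟩)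

/-- **L1**: if `|C| = 2^e * |P|` with `e ≤ 2`, `|P|` odd and `P` central in `C`, then every
`t ∈ C` with `t * t = 1` is central in `C`. -/
theorem le_centralizer_of_involution [Finite G] (C P : Subgroup G) (hPC : P ≤ C)
    (hcomm : ∀ c ∈ C, ∀ a ∈ P, a * c = c * a) {e : ℕ} (he : e ≤ 2)
    (hC : Nat.card ↥C = 2 ^ e * Nat.card ↥P) (hodd : ¬ 2 ∣ Nat.card ↥P)
    (t : G) (htC : t ∈ C) (ht : t * t = 1) : C ≤ centralizer ({t} : Set G) := by
  haveI : Fact (Nat.Prime 2) := ⟨Nat.prime_two⟩
  have h2grp : IsPGroup 2 (zpowers t) := by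
    by_cases h : t = 1
    · apply IsPGroup.of_card (n := 0)
      rw [Nat.card_zpowers]
      simp [h]
    · apply IsPGroup.of_card (n := 1)
      rw [Nat.card_zpowers, pow_one]
      exact orderOf_eq_prime (by rw [pow_two]; exact ht) h
  have hle : zpowers t ≤ C := by
    rw [zpowers_le]; exact htC
  obtain ⟨S, hS⟩ := exists_sylow_map_ge C (zpowers t) h2grp hle
  set V := (S : Subgroup ↥C).map C.subtype with hV
  have hVcard : Nat.card ↥V = 2 ^ e := by
    rw [hV, card_map_subtype]
    exact card_sylow_of_card_eq S hC hodd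
  have hVC : V ≤ C := by
    rw [hV]
    exact (Subgroup.map_subtype_le _)
  have hVcomm := comm_of_card_prime_pow_le_two he V hVcard
  have htV : t ∈ V := hS (mem_zpowers t)
  set K := C ⊓ centralizer ({t} : Set G) with hK
  have hVK : V ≤ K := by
    intro v hv
    refine ⟨hVC hv, ?_⟩
    show v ∈ centralizer ({t} : Set G)
    rw [mem_centralizer_iff]
    intro s hs
    rw [Set.mem_singleton_iff] at hs
    rw [hs]
    exact hVcomm t htV v hv
  have hPK : P ≤ K := by
    intro a ha
    refine ⟨hPC ha, ?_⟩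
    show a ∈ centralizer ({t} : Set G)
    rw [mem_centralizer_iff]
    intro s hs
    rw [Set.mem_singleton_iff] at hs
    rw [hs]
    exact (hcomm t htC a ha).symm
  have h1 : 2 ^ e ∣ Nat.card ↥K := hVcard ▸ Subgroup.card_dvd_of_le hVK
  have h2 : Nat.card ↥P ∣ Nat.card ↥K := Subgroup.card_dvd_of_le hPK
  have hcop : Nat.Coprime (2 ^ e) (Nat.card ↥P) := by
    apply Nat.Coprime.pow_left
    rw [Nat.coprime_comm]
    exact (Nat.Prime.coprime_iff_not_dvd Nat.prime_two).mpr hodd |>.symm
  have h3 : 2 ^ e * Nat.card ↥P ∣ Nat.card ↥K := hcop.mul_dvd_of_dvd_of_dvd h1 h2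
  rw [← hC] at h3
  have h4 : K = C := Subgroup.eq_of_le_of_card_ge inf_le_left (Nat.le_of_dvd Nat.card_pos h3)
  intro c hc
  have : c ∈ K := h4 ▸ hc
  exact this.2

end Cfsg.Agent.Lib.Helper17
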