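import Mathlib
import Cfsg.Agent.Lib.Helper17.FixedPoints
import Cfsg.Agent.Lib.Helper17.Counting
import Cfsg.Agent.Lib.Helper17.SylowConj
import Cfsg.Agent.Lib.Helper17.ElementCount
import Cfsg.Agent.Lib.Helper17.InvolTools

set_option autoImplicit false

namespace Cfsg.Agent.Lib.Helper17

open Subgroup MulAction

section

variable {G : Type*} [Group G]

/-- General double counting for a transitive action: `k * |C(t)| * |X| = Fix(t) * |G|`,
`k` the number of conjugates of `t` fixing a base point. -/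
theorem dc_action [Finite G] {X : Type*} [MulAction G X] [Finite X] [IsPretransitive G X]
    (t : G) (x₀ : X) :
    Nat.card {s : G // IsConj t s ∧ s • x₀ = x₀} * Nat.card ↥(centralizer ({t} : Set G)) *
      Nat.card X = Nat.card (fixedBy X t) * Nat.card G := by
  have hdc := card_isConj_mul_card_fixedBy (X := X) t x₀
  have hcl := index_centralizer_eq_card_isConj t
  have hidx := (centralizer ({t} : Set G)).card_mul_index
  rw [← hidx, hcl]
  calc _ = (Nat.card X * Nat.card {s : G // IsConj t s ∧ s • x₀ = x₀}) *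
        Nat.card ↥(centralizer ({t} : Set G)) := by ring
    _ = _ := by rw [← hdc]; ring

theorem dc_sylow [Finite G] {p : ℕ} [Fact p.Prime] (P : Sylow p G) (t : G) :
    Nat.card {s : G // IsConj t s ∧ s ∈ normalizer ((P : Subgroup G) : Set G)} *
      Nat.card ↥(centralizer ({t} : Set G)) * Nat.card (Sylow p G) =
      Nat.card (fixedBy (Sylow p G) t) * Nat.card G := by
  have h := dc_action (X := Sylow p G) t P
  have hst : Nat.card {s : G // IsConj t s ∧ s • P = P} =
      Nat.card {s : G // IsConj t s ∧ s ∈ normalizer ((P : Subgroup G) : Set G)} := by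
    apply Nat.card_congr
    refine Equiv.subtypeEquivRight ?_
    intro s
    rw [Sylow.smul_eq_iff_mem_normalizer]
    exact Iff.rfl
  rw [hst] at h
  exact h

theorem smul_coset_one_eq_iff (B : Subgroup G) (s : G) :
    s • ((1 : G) : G ⧸ B) = ((1 : G) : G ⧸ B) ↔ s ∈ B := by
  rw [MulAction.Quotient.smul_mk, QuotientGroup.eq]
  simp

theorem dc_coset [Finite G] (B : Subgroup G) (t : G) :
    Nat.card {s : G // IsConj t s ∧ s ∈ B} * Nat.card ↥(centralizer ({t} : Set G)) * B.index =
      Nat.card (fixedBy (G ⧸ B) t) * Nat.card G := by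
  have h := dc_action (X := G ⧸ B) t ((1 : G) : G ⧸ B)
  have hst : Nat.card {s : G // IsConj t s ∧ s • ((1 : G) : G ⧸ B) = ((1 : G) : G ⧸ B)} =
      Nat.card {s : G // IsConj t s ∧ s ∈ B} := by
    apply Nat.card_congr
    refine Equiv.subtypeEquivRight ?_
    intro s
    rw [smul_coset_one_eq_iff]
  rw [hst] at h
  exact h

/-- If `t` fixes a coset of `B` then a conjugate of `t` lies in `B`. -/
theorem exists_conj_mem_of_fixedBy_coset (B : Subgroup G) (t : G)
    (h : Nonempty (fixedBy (G ⧸ B) t)) : ∃ g : G, g⁻¹ * t * g ∈ B := by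
  obtain ⟨⟨c, hc⟩⟩ := h
  obtain ⟨g, rfl⟩ := QuotientGroup.mk_surjective c
  refine ⟨g, ?_⟩
  rw [mem_fixedBy, MulAction.Quotient.smul_mk, QuotientGroup.eq] at hc
  have h3 : g⁻¹ * t * g = ((t • g)⁻¹ * g)⁻¹ := by
    simp only [smul_eq_mul]; group
  rw [h3]
  exact B.inv_mem hc

/-- In a noncommutative simple group, an involution has a conjugate in every subgroup whose
index is not divisible by `4`. -/
theorem exists_conj_mem_of_index [Finite G] [IsSimpleGroup G] (hnc : ¬ IsMulCommutative G)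
    (B : Subgroup G) (hB : B.index % 4 ≠ 0) (t : G) (ht : t * t = 1) :
    ∃ g : G, g⁻¹ * t * g ∈ B := by
  apply exists_conj_mem_of_fixedBy_coset
  have h1 := card_fixedBy_modEq_four hnc (X := G ⧸ B) t ht
  have h2 : Nat.card (G ⧸ B) = B.index := rfl
  rw [h2] at h1
  have h3 : Nat.card (fixedBy (G ⧸ B) t) ≠ 0 := by
    intro h0
    rw [h0] at h1
    have : 0 % 4 = B.index % 4 := h1
    omega
  exact (Nat.card_pos_iff.mp (Nat.pos_of_ne_zero h3)).1

theorem centralizer_singleton_ne_top [IsSimpleGroup G] (hnc : ¬ IsMulCommutative G) (t : G)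
    (ht : t ≠ 1) : centralizer ({t} : Set G) ≠ ⊤ := by
  intro htop
  have hcen : t ∈ center G := by
    rw [Subgroup.mem_center_iff]
    intro g
    have hg : g ∈ centralizer ({t} : Set G) := by rw [htop]; exact mem_top g
    exact mem_centralizer_iff.mp hg t (Set.mem_singleton t) |>.symm
  have hnorm : (center G).Normal := inferInstance
  rcases hnorm.eq_bot_or_eq_top with h | h
  · rw [h] at hcen
    exact ht (Subgroup.mem_bot.mp hcen)
  · apply hnc
    refine ⟨⟨fun a b => ?_⟩⟩
    have ha : a ∈ center G := by rw [h]; exact mem_top a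
    exact (Subgroup.mem_center_iff.mp ha b).symm

theorem mem_centralizer_singleton_iff {x g : G} :
    g ∈ centralizer ({x} : Set G) ↔ x * g = g * x := by
  rw [mem_centralizer_iff]
  constructor
  · intro h
    exact h x (Set.mem_singleton x)
  · intro h y hy
    rw [Set.mem_singleton_iff.mp hy]
    exact h

/-- Conjugate elements have centralizers of the same cardinality. -/
theorem card_centralizer_conj (g t : G) :
    Nat.card ↥(centralizer ({g * t * g⁻¹} : Set G)) = Nat.card ↥(centralizer ({t} : Set G)) := by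
  apply Nat.card_congr
  refine ⟨fun c => ⟨g⁻¹ * c.1 * g, ?_⟩, fun c => ⟨g * c.1 * g⁻¹, ?_⟩, fun c => ?_, fun c => ?_⟩
  · have h := mem_centralizer_singleton_iff.mp c.2
    rw [mem_centralizer_singleton_iff]
    calc t * (g⁻¹ * c.1 * g) = g⁻¹ * ((g * t * g⁻¹) * c.1) * g := by group
      _ = g⁻¹ * (c.1 * (g * t * g⁻¹)) * g := by rw [h]
      _ = g⁻¹ * c.1 * g * t := by group
  · have h := mem_centralizer_singleton_iff.mp c.2
    rw [mem_centralizer_singleton_iff]
    calc g * t * g⁻¹ * (g * c.1 * g⁻¹) = g * (t * c.1) * g⁻¹ := by group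
      _ = g * (c.1 * t) * g⁻¹ := by rw [h]
      _ = g * c.1 * g⁻¹ * (g * t * g⁻¹) := by group
  · apply Subtype.ext
    show g * (g⁻¹ * c.1 * g) * g⁻¹ = c.1
    group
  · apply Subtype.ext
    show g⁻¹ * (g * c.1 * g⁻¹) * g = c.1
    group

theorem card_centralizer_of_isConj {s t : G} (h : IsConj t s) :
    Nat.card ↥(centralizer ({s} : Set G)) = Nat.card ↥(centralizer ({t} : Set G)) := by
  obtain ⟨g, hg⟩ := isConj_iff.mp h
  rw [← hg, card_centralizer_conj]

/-- Cauchy's theorem inside a subgroup. -/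
theorem exists_mem_orderOf_eq [Finite G] (H : Subgroup G) {p : ℕ} [hp : Fact p.Prime]
    (h : p ∣ Nat.card ↥H) : ∃ y ∈ H, orderOf y = p := by
  obtain ⟨y, hy⟩ := exists_prime_orderOf_dvd_card' (G := ↥H) p h
  exact ⟨(y : G), y.2, by rw [← hy, Subgroup.orderOf_coe]⟩

theorem exists_involution_of_even [Finite G] (H : Subgroup G) (h : 2 ∣ Nat.card ↥H) :
    ∃ t ∈ H, t * t = 1 ∧ t ≠ 1 := by
  haveI : Fact (Nat.Prime 2) := ⟨Nat.prime_two⟩
  obtain ⟨t, htH, ht⟩ := exists_mem_orderOf_eq H h
  refine ⟨t, htH, ?_, ?_⟩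
  · have := pow_orderOf_eq_one t
    rwa [ht, pow_two] at this
  · intro h1
    rw [h1, orderOf_one] at ht
    omega

theorem orderOf_eq_two_of_involution {t : G} (ht : t * t = 1) (ht1 : t ≠ 1) : orderOf t = 2 := by
  apply orderOf_eq_prime
  · rw [pow_two]; exact ht
  · exact ht1

/-- If a Sylow `q`-subgroup `Q` of order `q` is self-centralizing and `q` divides `|C(x)|`,
then `x ^ q = 1`. -/
theorem pow_eq_one_of_dvd_card_centralizer [Finite G] {q : ℕ} [hq : Fact q.Prime]
    (Q : Sylow q G) (hQ : Nat.card ↥(Q : Subgroup G) = q)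
    (hC : Nat.card ↥(centralizer ((Q : Subgroup G) : Set G)) = q) (x : G)
    (h : q ∣ Nat.card ↥(centralizer ({x} : Set G))) : x ^ q = 1 := by
  obtain ⟨w, hwC, hw⟩ := exists_mem_orderOf_eq _ h
  have hfac : q ^ (Nat.card G).factorization q = q := by
    rw [← Q.card_eq_multiplicity, hQ]
  set Q' : Sylow q G := Sylow.ofCard (zpowers w) (by rw [Nat.card_zpowers, hw, hfac]) with hQ'
  have hQ'coe : (Q' : Subgroup G) = zpowers w := rfl
  have hcard := card_centralizer_sylow_eq Q Q'
  rw [hC] at hcard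
  have hle : zpowers w ≤ centralizer ((Q' : Subgroup G) : Set G) := by
    rw [hQ'coe, zpowers_le, mem_centralizer_iff]
    intro a ha
    obtain ⟨k, rfl⟩ := mem_zpowers_iff.mp ha
    exact (Commute.zpow_left (Commute.refl w) k).eq
  have heq : zpowers w = centralizer ((Q' : Subgroup G) : Set G) := by
    apply Subgroup.eq_of_le_of_card_ge hle
    rw [hcard, Nat.card_zpowers, hw]
  have hx : x ∈ zpowers w := by
    rw [heq, hQ'coe, mem_centralizer_iff]
    intro a ha
    obtain ⟨k, rfl⟩ := mem_zpowers_iff.mp ha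
    have h1 : x * w = w * x := mem_centralizer_singleton_iff.mp hwC
    have h2 : Commute w x := h1.symm
    exact (h2.zpow_left k).eq
  have h3 : (⟨x, hx⟩ : ↥(zpowers w)) ^ Nat.card ↥(zpowers w) = 1 := pow_card_eq_one'
  rw [Nat.card_zpowers, hw] at h3
  exact congrArg Subtype.val h3

theorem three_le_card {α : Type*} [Finite α] (a b c : α) (hab : a ≠ b) (hac : a ≠ c)
    (hbc : b ≠ c) : 3 ≤ Nat.card α := by
  classical
  letI : Fintype α := Fintype.ofFinite α
  rw [Nat.card_eq_fintype_card]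
  have h : ({a, b, c} : Finset α).card = 3 := by
    rw [Finset.card_insert_of_notMem, Finset.card_insert_of_notMem, Finset.card_singleton]
    · simpa using hbc
    · simp [hab, hac]
  rw [← h]
  exact Finset.card_le_univ _

/-- If a subgroup `H` has a unique Sylow `p`-subgroup, that subgroup `T` contains every
`p`-element of `H` and is normalized by `N(H)`. -/
theorem exists_unique_sylow_subgroup [Finite G] {p : ℕ} [hp : Fact p.Prime] (H : Subgroup G)
    (h1 : Nat.card (Sylow p ↥H) = 1) :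
    ∃ T : Subgroup G, T ≤ H ∧ Nat.card ↥T = p ^ (Nat.card ↥H).factorization p ∧
      (∀ x ∈ H, ∀ k : ℕ, x ^ (p ^ k) = 1 → x ∈ T) ∧
      normalizer (H : Set G) ≤ normalizer (T : Set G) := by
  haveI : Subsingleton (Sylow p ↥H) := (Nat.card_eq_one_iff_unique.mp h1).1
  obtain ⟨T'⟩ : Nonempty (Sylow p ↥H) := inferInstance
  set T : Subgroup G := (T' : Subgroup ↥H).map H.subtype with hT
  have hTH : T ≤ H := Subgroup.map_subtype_le _
  have hcard : Nat.card ↥T = p ^ (Nat.card ↥H).factorization p := by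
    rw [hT, card_map_subtype, T'.card_eq_multiplicity]
  have hmem : ∀ x ∈ H, ∀ k : ℕ, x ^ (p ^ k) = 1 → x ∈ T := by
    intro x hx k hk
    have hord : orderOf (⟨x, hx⟩ : ↥H) ∣ p ^ k := by
      apply orderOf_dvd_of_pow_eq_one
      exact Subtype.ext hk
    obtain ⟨j, _, hj⟩ := (Nat.dvd_prime_pow hp.out).mp hord
    have hpg : IsPGroup p (zpowers (⟨x, hx⟩ : ↥H)) :=
      IsPGroup.of_card (n := j) (by rw [Nat.card_zpowers, hj])
    obtain ⟨Q', hQ'⟩ := hpg.exists_le_sylow
    rw [Subsingleton.elim Q' T'] at hQ'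
    exact ⟨⟨x, hx⟩, hQ' (mem_zpowers _), rfl⟩
  have hconj : ∀ n ∈ normalizer (H : Set G), ∀ x ∈ T, n * x * n⁻¹ ∈ T := by
    intro n hn x hx
    have hxH : x ∈ H := hTH hx
    have h2 : n * x * n⁻¹ ∈ H := (mem_normalizer_iff.mp hn x).mp hxH
    apply hmem _ h2 ((Nat.card ↥H).factorization p)
    have h3 : (⟨x, hx⟩ : ↥T) ^ Nat.card ↥T = 1 := pow_card_eq_one'
    rw [hcard] at h3
    have h4 : x ^ (p ^ (Nat.card ↥H).factorization p) = 1 := congrArg Subtype.val h3
    rw [conj_pow, h4]
    group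
  refine ⟨T, hTH, hcard, hmem, ?_⟩
  intro n hn
  rw [mem_normalizer_iff]
  intro x
  constructor
  · exact hconj n hn x
  · intro hx
    have := hconj n⁻¹ (Subgroup.inv_mem _ hn) _ hx
    have h5 : n⁻¹ * (n * x * n⁻¹) * n⁻¹⁻¹ = x := by group
    rwa [h5] at this

end

end Cfsg.Agent.Lib.Helper17
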