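import Mathlib
import Cfsg.Agent.Lib.Helper17.SylowTools

set_option autoImplicit false

namespace Cfsg.Agent.Lib.Helper17

open Subgroup

variable {G : Type*} [Group G] [Finite G]

/-- `|N(H) : C(H)|` divides `|Aut H|`. -/
theorem relIndex_centralizer_normalizer_dvd (H : Subgroup G) :
    (centralizer (H : Set G)).relIndex (normalizer (H : Set G)) ∣ Nat.card (MulAut ↥H) := by
  have key := card_dvd_of_injective _ (QuotientGroup.kerLift_injective H.normalizerMonoidHom)
  rwa [normalizerMonoidHom_ker, ← index, ← relIndex] at key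

/-- For a subgroup `H` of prime order `p`, `|N(H) : C(H)|` divides `p - 1`. -/
theorem relIndex_centralizer_normalizer_dvd_pred {p : ℕ} (hp : p.Prime) (H : Subgroup G)
    (hH : Nat.card ↥H = p) :
    (centralizer (H : Set G)).relIndex (normalizer (H : Set G)) ∣ p - 1 := by
  have h1 := relIndex_centralizer_normalizer_dvd H
  haveI : Fact p.Prime := ⟨hp⟩
  haveI : IsCyclic ↥H := isCyclic_of_prime_card hH
  rwa [IsCyclic.card_mulAut, hH, Nat.totient_prime hp] at h1

/-- For a commutative subgroup `H`, `|N(H) : C(H)|` divides `|N(H)| / |H|`, in the form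
`|N(H) : C(H)| * |H| ∣ |N(H)|`. -/
theorem relIndex_centralizer_normalizer_mul_card_dvd (H : Subgroup G)
    (hH : ∀ a ∈ H, ∀ b ∈ H, a * b = b * a) :
    (centralizer (H : Set G)).relIndex (normalizer (H : Set G)) * Nat.card ↥H ∣
      Nat.card ↥(normalizer (H : Set G)) := by
  have hHC : H ≤ centralizer (H : Set G) := by
    intro a ha
    rw [mem_centralizer_iff]
    intro b hb
    exact hH b hb a ha
  have hHN : H ≤ normalizer (H : Set G) := le_normalizer
  -- |N| = |C ⊓ N| * relIndex
  have h1 : Nat.card ↥((centralizer (H : Set G)).subgroupOf (normalizer (H : Set G))) *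
      (centralizer (H : Set G)).relIndex (normalizer (H : Set G)) =
      Nat.card ↥(normalizer (H : Set G)) := Subgroup.card_mul_index _
  have h2 : Nat.card ↥H ∣ Nat.card ↥((centralizer (H : Set G)).subgroupOf (normalizer (H : Set G))) := by
    have hle : H.subgroupOf (normalizer (H : Set G)) ≤
        (centralizer (H : Set G)).subgroupOf (normalizer (H : Set G)) := by
      intro x hx
      rw [mem_subgroupOf] at hx ⊢
      exact hHC hx
    have h3 := Subgroup.card_dvd_of_le hle
    have h4 : Nat.card ↥(H.subgroupOf (normalizer (H : Set G))) = Nat.card ↥H :=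
      Nat.card_congr (Subgroup.subgroupOfEquivOfLe hHN).toEquiv
    rwa [h4] at h3
  rw [← h1, mul_comm]
  exact Nat.mul_dvd_mul_right h2 _

/-- If a Sylow `p`-subgroup has order `p`, `|N(P)| = p * m` and `gcd(m, p - 1) = 1`, then
`N(P) ≤ C(P)`. -/
theorem normalizer_le_centralizer_of_coprime {p m : ℕ} [hp : Fact p.Prime] (P : Sylow p G)
    (hP : Nat.card ↥(P : Subgroup G) = p)
    (hN : Nat.card ↥(normalizer ((P : Subgroup G) : Set G)) = p * m)
    (hcop : Nat.Coprime m (p - 1)) :
    normalizer ((P : Subgroup G) : Set G) ≤ centralizer ((P : Subgroup G) : Set G) := by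
  have hcomm : ∀ a ∈ (P : Subgroup G), ∀ b ∈ (P : Subgroup G), a * b = b * a := by
    intro a ha b hb
    have hcyc : IsCyclic ↥(P : Subgroup G) := isCyclic_of_prime_card hP
    have := hcyc.isMulCommutative.is_comm.comm ⟨a, ha⟩ ⟨b, hb⟩
    exact congrArg Subtype.val this
  have h1 := relIndex_centralizer_normalizer_dvd_pred hp.out (P : Subgroup G) hP
  have h2 := relIndex_centralizer_normalizer_mul_card_dvd (P : Subgroup G) hcomm
  rw [hP, hN, mul_comm] at h2
  have h3 : (centralizer ((P : Subgroup G) : Set G)).relIndex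
      (normalizer ((P : Subgroup G) : Set G)) ∣ m :=
    Nat.dvd_of_mul_dvd_mul_left hp.out.pos h2
  have h4 : (centralizer ((P : Subgroup G) : Set G)).relIndex
      (normalizer ((P : Subgroup G) : Set G)) = 1 :=
    Nat.eq_one_of_dvd_coprimes hcop h3 h1
  exact relIndex_eq_one.mp h4

/-- Combined with Burnside: in a simple group whose order is not `p`, a Sylow `p`-subgroup of
order `p` with `|N(P)| = p * m` has `gcd(m, p - 1) ≠ 1`. -/
theorem not_coprime_of_simple {p m : ℕ} [hp : Fact p.Prime] [IsSimpleGroup G] (P : Sylow p G)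
    (hP : Nat.card ↥(P : Subgroup G) = p) (hG : Nat.card G ≠ p)
    (hN : Nat.card ↥(normalizer ((P : Subgroup G) : Set G)) = p * m) :
    ¬ Nat.Coprime m (p - 1) := by
  intro hcop
  have h1 : (P : Subgroup G) ≠ ⊥ := by
    intro h
    rw [h, Subgroup.card_bot] at hP
    exact hp.out.one_lt.ne hP
  have h2 : (P : Subgroup G) ≠ ⊤ := by
    intro h
    rw [h, Subgroup.card_top] at hP
    exact hG hP
  exact not_normalizer_le_centralizer_of_simple P h1 h2
    (normalizer_le_centralizer_of_coprime P hP hN hcop)

end Cfsg.Agent.Lib.Helper17
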