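import Mathlib
import Cfsg.Agent.Lib.Helper17.SylowTools
import Cfsg.Agent.Lib.Helper17.NormCent
import Cfsg.Agent.Lib.Helper17.InvolTools
import Cfsg.Agent.Lib.Helper17.SylowConj

set_option autoImplicit false

namespace Cfsg.Agent.Lib.Helper17

open Subgroup MulAction

section

variable {G : Type*} [Group G]

theorem subgroup_ne_bot_of_one_lt_card (H : Subgroup G) (h : 1 < Nat.card ↥H) : H ≠ ⊥ := by
  rintro rfl
  rw [Subgroup.card_bot] at h
  omega

theorem subgroup_ne_top_of_card_lt [Finite G] (H : Subgroup G) (h : Nat.card ↥H < Nat.card G) :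
    H ≠ ⊤ := by
  rintro rfl
  rw [Subgroup.card_top] at h
  omega

/-- `N(P) ≤ N(C(P))`. -/
theorem normalizer_le_normalizer_centralizer (P : Subgroup G) :
    normalizer (P : Set G) ≤ normalizer ((centralizer (P : Set G) : Subgroup G) : Set G) := by
  intro n hn
  rw [mem_normalizer_iff]
  intro c
  constructor
  · intro hc
    exact conj_mem_centralizer_of_mem_normalizer P n c hn hc
  · intro hc
    have := conj_mem_centralizer_of_mem_normalizer P n⁻¹ _ (Subgroup.inv_mem _ hn) hc
    have h5 : n⁻¹ * (n * c * n⁻¹) * n⁻¹⁻¹ = c := by group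
    rwa [h5] at this

/-- For a Sylow subgroup `P` of prime order `p` in a simple group with `|N(P)| = p * e`:
`r = |N(P) : C(P)|` divides `p - 1` and `e`, is not `1`, and `|C(P)| * r = p * e`. -/
theorem card_centralizer_sylow_mul [Finite G] [IsSimpleGroup G] {p e : ℕ} [hp : Fact p.Prime]
    (P : Sylow p G) (hP : Nat.card ↥(P : Subgroup G) = p) (hG : p < Nat.card G)
    (hN : Nat.card ↥(normalizer ((P : Subgroup G) : Set G)) = p * e) :
    ∃ r, r ∣ p - 1 ∧ r ∣ e ∧ r ≠ 1 ∧
      Nat.card ↥(centralizer ((P : Subgroup G) : Set G)) * r = p * e ∧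
      (P : Subgroup G) ≤ centralizer ((P : Subgroup G) : Set G) ∧
      centralizer ((P : Subgroup G) : Set G) ≤ normalizer ((P : Subgroup G) : Set G) := by
  have hcomm : ∀ a ∈ (P : Subgroup G), ∀ b ∈ (P : Subgroup G), a * b = b * a :=
    comm_of_card_prime_pow_le_two (e := 1) (by norm_num) (P : Subgroup G) (by rw [hP, pow_one])
  have hCN : centralizer ((P : Subgroup G) : Set G) ≤ normalizer ((P : Subgroup G) : Set G) :=
    Subgroup.centralizer_le_normalizer _
  have hPC : (P : Subgroup G) ≤ centralizer ((P : Subgroup G) : Set G) := by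
    intro a ha
    rw [mem_centralizer_iff]
    intro b hb
    exact hcomm b hb a ha
  have h1 := relIndex_centralizer_normalizer_dvd_pred hp.out (P : Subgroup G) hP
  have h2 := relIndex_centralizer_normalizer_mul_card_dvd (P : Subgroup G) hcomm
  rw [hP, hN, mul_comm] at h2
  have hre := Nat.dvd_of_mul_dvd_mul_left hp.out.pos h2
  have h3 := card_inf_mul_relIndex (centralizer ((P : Subgroup G) : Set G))
    (normalizer ((P : Subgroup G) : Set G))
  rw [inf_of_le_left hCN, hN] at h3
  refine ⟨_, h1, hre, ?_, h3, hPC, hCN⟩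
  intro hr1
  rw [hr1, mul_one] at h3
  have heq : centralizer ((P : Subgroup G) : Set G) = normalizer ((P : Subgroup G) : Set G) :=
    Subgroup.eq_of_le_of_card_ge hCN (by rw [h3, hN])
  have hp1 := hp.out.one_lt
  apply not_normalizer_le_centralizer_of_simple P
    (subgroup_ne_bot_of_one_lt_card _ (by rw [hP]; exact hp1))
    (subgroup_ne_top_of_card_lt _ (by rw [hP]; exact hG))
  rw [heq]

end

end Cfsg.Agent.Lib.Helper17
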