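import Mathlib
import Cfsg.Agent.Lib.Helper17.CosetTools
import Cfsg.Agent.Lib.Helper17.MiscTools

set_option autoImplicit false

namespace Cfsg.Agent.Lib.Helper17

open Subgroup MulAction

theorem card_le_mul_of_fibers_le {α β : Type*} [Finite α] [Finite β] (f : α → β) (k : ℕ)
    (h : ∀ b, Nat.card {a // f a = b} ≤ k) : Nat.card α ≤ Nat.card β * k := by
  classical
  letI : Fintype β := Fintype.ofFinite β
  rw [← Nat.card_congr (Equiv.sigmaFiberEquiv f), Nat.card_sigma]
  calc ∑ b, Nat.card {a // f a = b} ≤ ∑ _b : β, k := Finset.sum_le_sum (fun b _ => h b)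
    _ = Nat.card β * k := by
      rw [Finset.sum_const, Finset.card_univ, smul_eq_mul, Nat.card_eq_fintype_card]

theorem card_add_card_le_of_disjoint {α : Type*} [Finite α] (p q : α → Prop)
    (h : ∀ a, p a → ¬ q a) : Nat.card {a // p a} + Nat.card {a // q a} ≤ Nat.card α := by
  rw [← Nat.card_sum]
  apply Nat.card_le_card_of_injective (Sum.elim Subtype.val Subtype.val)
  rintro (a | a) (b | b) hab
  · simp only [Sum.elim_inl] at hab
    rw [Subtype.ext hab]
  · simp only [Sum.elim_inl, Sum.elim_inr] at hab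
    exact absurd b.2 (hab ▸ h a.1 a.2)
  · simp only [Sum.elim_inl, Sum.elim_inr] at hab
    exact absurd a.2 (hab ▸ h b.1 b.2)
  · simp only [Sum.elim_inr] at hab
    rw [Subtype.ext hab]

/-- A subtype with at most the two elements `a`, `b`. -/
theorem card_le_two_of_forall {α : Type*} (a b : α) (p : α → Prop)
    (h : ∀ x, p x → x = a ∨ x = b) : Nat.card {x // p x} ≤ 2 := by
  have hsub : {x : α | p x} ⊆ {a, b} := by
    intro x hx
    rcases h x hx with h1 | h1
    · rw [h1]; simp
    · rw [h1]; simp
  have h1 : Nat.card {x // p x} = {x : α | p x}.ncard := by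
    rw [← Nat.card_coe_set_eq]; rfl
  rw [h1]
  calc {x : α | p x}.ncard ≤ ({a, b} : Set α).ncard := Set.ncard_le_ncard hsub (Set.toFinite _)
    _ ≤ 2 := by
        have := Set.ncard_insert_le a ({b} : Set α)
        rw [Set.ncard_singleton] at this
        exact this

section

variable {G : Type*} [Group G]

theorem conj_mem_centralizer_smul {p : ℕ} (P : Sylow p G) (g t : G)
    (ht : t ∈ centralizer ((P : Subgroup G) : Set G)) :
    g * t * g⁻¹ ∈ centralizer (((g • P : Sylow p G) : Subgroup G) : Set G) := by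
  rw [mem_centralizer_iff]
  intro a ha
  have ha' : g⁻¹ * a * g ∈ (P : Subgroup G) := (mem_smul_sylow_iff g a P).mp ha
  have h1 := mem_centralizer_iff.mp ht _ ha'
  calc a * (g * t * g⁻¹) = g * ((g⁻¹ * a * g) * t) * g⁻¹ := by group
    _ = g * (t * (g⁻¹ * a * g)) * g⁻¹ := by rw [h1]
    _ = g * t * g⁻¹ * a := by group

/-- A subgroup `C` whose centre contains a subgroup of order `m` and an element of order `2`,
with `|C| = 2 * lcm`-like bound, is commutative: here `|C| ≤ 2 * |Z|`-type statement in the
form: `2 * m ∣ |Z(C)|` is forced and `|C| = 4 * m` with `m` odd. -/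
theorem comm_of_center_large [Finite G] (C P : Subgroup G) (hPC : P ≤ C) {m : ℕ}
    (hP : Nat.card ↥P = m) (hm : ¬ 2 ∣ m) (hC : Nat.card ↥C = 4 * m)
    (hPc : ∀ a ∈ P, ∀ c ∈ C, a * c = c * a) (t : G) (htC : t ∈ C) (ht : t * t = 1) (ht1 : t ≠ 1)
    (htc : ∀ c ∈ C, t * c = c * t) : ∀ a ∈ C, ∀ b ∈ C, a * b = b * a := by
  have hmpos : 0 < m := by
    rw [← hP]; exact Nat.card_pos
  -- m divides |Z(C)|
  have h1 : m ∣ Nat.card ↥(center ↥C) := by
    have hle : P.subgroupOf C ≤ center ↥C := by
      intro x hx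
      rw [Subgroup.mem_center_iff]
      intro g
      apply Subtype.ext
      have := hPc x.1 (mem_subgroupOf.mp hx) g.1 g.2
      exact this.symm
    have := Subgroup.card_dvd_of_le hle
    rwa [card_subgroupOf_of_le hPC, hP] at this
  have h2 : 2 ∣ Nat.card ↥(center ↥C) := by
    have htm : (⟨t, htC⟩ : ↥C) ∈ center ↥C := by
      rw [Subgroup.mem_center_iff]
      intro g
      apply Subtype.ext
      exact (htc g.1 g.2).symm
    have hord : orderOf (⟨⟨t, htC⟩, htm⟩ : ↥(center ↥C)) = 2 := by
      apply orderOf_eq_prime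
      · apply Subtype.ext
        apply Subtype.ext
        simp [pow_two, ht]
      · intro h
        apply ht1
        have := congrArg (fun w : ↥(center ↥C) => ((w : ↥C) : G)) h
        simpa using this
    rw [← hord]
    exact orderOf_dvd_natCard _
  have h3 : 2 * m ∣ Nat.card ↥(center ↥C) := by
    apply Nat.Coprime.mul_dvd_of_dvd_of_dvd _ h2 h1
    exact (Nat.Prime.coprime_iff_not_dvd Nat.prime_two).mpr hm
  have hmul := (center ↥C).card_mul_index
  rw [hC] at hmul
  obtain ⟨j, hj⟩ := h3
  have hle : (center ↥C).index ≤ 2 := by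
    rw [hj] at hmul
    have hjpos : 0 < j := by
      rcases Nat.eq_zero_or_pos j with h0 | h0
      · rw [h0] at hmul; simp at hmul; omega
      · exact h0
    by_contra hcon
    push Not at hcon
    have : 2 * m * 1 * 3 ≤ 2 * m * j * (center ↥C).index :=
      Nat.mul_le_mul (Nat.mul_le_mul_left _ hjpos) hcon
    nlinarith
  have hpos : 0 < (center ↥C).index := by
    rcases Nat.eq_zero_or_pos (center ↥C).index with h | h
    · rw [h] at hmul; omega
    · exact h
  haveI : IsCyclic (↥C ⧸ center ↥C) := by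
    have hq : Nat.card (↥C ⧸ center ↥C) = (center ↥C).index := rfl
    have hidx : (center ↥C).index = 1 ∨ (center ↥C).index = 2 := by omega
    rcases hidx with h | h
    · rw [h] at hq
      haveI : Subsingleton (↥C ⧸ center ↥C) := (Nat.card_eq_one_iff_unique.mp hq).1
      exact isCyclic_of_subsingleton
    · rw [h] at hq
      haveI : Fact (Nat.Prime 2) := ⟨Nat.prime_two⟩
      exact isCyclic_of_prime_card hq
  have hcomm : IsMulCommutative ↥C := isMulCommutative_of_isCyclic_quotient_center_self ↥C
  intro a ha b hb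
  exact congrArg Subtype.val (hcomm.is_comm.comm ⟨a, ha⟩ ⟨b, hb⟩)

end

end Cfsg.Agent.Lib.Helper17
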