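import Mathlib
import Cfsg.Agent.Lib.Helper17.SylowTools
import Cfsg.Agent.S0989
import Cfsg.Agent.S0990

set_option autoImplicit false

namespace Cfsg.Agent.Lib.Helper17

open Subgroup Equiv

/-- In the symmetric group on `p` or `p + 1` letters (`p` an odd prime), the normalizer of a
subgroup `Q` of order `p` meets the alternating group in a subgroup of order `p (p - 1) / 2`. -/
theorem two_mul_card_normalizer_inf_alternating {α : Type*} [Fintype α] [DecidableEq α] (p : ℕ)
    [hp : Fact p.Prime] (hp2 : p ≠ 2) (hα : Fintype.card α = p ∨ Fintype.card α = p + 1)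
    (Q : Sylow p (Perm α)) :
    2 * Nat.card ↥(normalizer ((Q : Subgroup (Perm α)) : Set (Perm α)) ⊓ alternatingGroup α :
      Subgroup (Perm α)) = p * (p - 1) := by
  have h2 : 2 ≤ Fintype.card α := by
    have := hp.out.two_le
    rcases hα with h | h <;> omega
  obtain ⟨hle, h1⟩ := Cfsg.Agent.S0990.result h2 p hp2 Q
  rw [Cfsg.Agent.S0989.result p hα Q] at h1
  rw [← h1, ← subgroupOf_normalizer_eq hle]
  congr 1
  rw [← Subgroup.subgroupOf_map_subtype]
  exact (Nat.card_congr (Subgroup.equivMapOfInjective _ _ (Subgroup.subtype_injective _)).toEquiv).symm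

/-- **Tool N.** Let `G` be a non-commutative finite simple group with a subgroup `H` of index
`p` or `p + 1`, `p` an odd prime dividing `|G|`. Then for a Sylow `p`-subgroup `P` of `G`,
`2 * |N_G(P)|` divides `p * (p - 1)`. -/
theorem two_mul_card_normalizer_dvd_of_index {G : Type*} [Group G] [Finite G] [IsSimpleGroup G]
    (hG : ¬ IsMulCommutative G) (p : ℕ) [hp : Fact p.Prime] (hp2 : p ≠ 2) (H : Subgroup G)
    (hH : H.index = p ∨ H.index = p + 1) (P : Sylow p G) (hP : Nat.card ↥(P : Subgroup G) = p) :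
    2 * Nat.card ↥(normalizer ((P : Subgroup G) : Set G)) ∣ p * (p - 1) := by
  classical
  letI : Fintype (G ⧸ H) := Fintype.ofFinite _
  have hcard : Fintype.card (G ⧸ H) = H.index := by
    rw [← Nat.card_eq_fintype_card]; rfl
  have hα : Fintype.card (G ⧸ H) = p ∨ Fintype.card (G ⧸ H) = p + 1 := by rw [hcard]; exact hH
  have hHtop : H ≠ ⊤ := by
    intro h
    rw [h, Subgroup.index_top] at hH
    have := hp.out.two_le
    rcases hH with h | h <;> omega
  set φ := MulAction.toPermHom G (G ⧸ H) with hφ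
  have hinj : Function.Injective φ := toPermHom_injective H hHtop
  -- the image of P is a Sylow subgroup of the symmetric group
  have hPmap : IsPGroup p ((P : Subgroup G).map φ) := P.2.map φ
  obtain ⟨Q, hQ⟩ := hPmap.exists_le_sylow
  have hmapcard : Nat.card ↥((P : Subgroup G).map φ) = p := by
    exact ((Nat.card_congr (Subgroup.equivMapOfInjective _ _ hinj).toEquiv).symm).trans hP
  have hQcard : Nat.card ↥(Q : Subgroup (Perm (G ⧸ H))) = p := by
    -- |Q| ∣ p from the normalizer computation
    have h1 := Cfsg.Agent.S0989.result p hα Q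
    have h2 : Nat.card ↥(Q : Subgroup (Perm (G ⧸ H))) ∣ p * (p - 1) := by
      rw [← h1]; exact Subgroup.card_dvd_of_le le_normalizer
    obtain ⟨k, hk⟩ := IsPGroup.iff_card.mp Q.2
    have hk1 : k ≤ 1 := by
      by_contra hc
      push Not at hc
      have h3 : p ^ 2 ∣ p * (p - 1) := by
        rw [hk] at h2
        exact dvd_trans (pow_dvd_pow p hc) h2
      rw [sq] at h3
      have h4 : p ∣ p - 1 := Nat.dvd_of_mul_dvd_mul_left hp.out.pos h3
      have := Nat.le_of_dvd (by have := hp.out.two_le; omega) h4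
      have := hp.out.two_le
      omega
    have h5 : p ∣ Nat.card ↥(Q : Subgroup (Perm (G ⧸ H))) := by
      have h50 := Subgroup.card_dvd_of_le hQ
      rwa [hmapcard] at h50
    interval_cases k
    · rw [hk, pow_zero] at h5
      exact absurd (Nat.dvd_one.mp h5) hp.out.one_lt.ne'
    · rw [hk, pow_one]
  have hQeq : (P : Subgroup G).map φ = (Q : Subgroup (Perm (G ⧸ H))) :=
    Subgroup.eq_of_le_of_card_ge hQ (by rw [hmapcard, hQcard])
  -- the image of N(P) lies in N(Q) ⊓ A
  have hNle : (normalizer ((P : Subgroup G) : Set G)).map φ ≤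
      normalizer ((Q : Subgroup (Perm (G ⧸ H))) : Set (Perm (G ⧸ H))) ⊓ alternatingGroup (G ⧸ H) := by
    rintro _ ⟨g, hg, rfl⟩
    refine ⟨?_, ?_⟩
    · rw [← hQeq]
      exact Subgroup.le_normalizer_map φ ⟨g, hg, rfl⟩
    · show φ g ∈ alternatingGroup (G ⧸ H)
      rw [Equiv.Perm.mem_alternatingGroup]
      exact sign_eq_one_of_simple hG φ g
  have h6 := Subgroup.card_dvd_of_le hNle
  have h7 : Nat.card ↥((normalizer ((P : Subgroup G) : Set G)).map φ) =
      Nat.card ↥(normalizer ((P : Subgroup G) : Set G)) :=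
    (Nat.card_congr (Subgroup.equivMapOfInjective _ _ hinj).toEquiv).symm
  rw [h7] at h6
  rw [← two_mul_card_normalizer_inf_alternating p hp2 hα Q]
  exact Nat.mul_dvd_mul_left 2 h6

end Cfsg.Agent.Lib.Helper17
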