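import Mathlib
import Cfsg.Agent.Lib.Helper17.SylowTools

set_option autoImplicit false

namespace Cfsg.Agent.Lib.Helper17

open Subgroup

variable {G : Type*} [Group G] [Finite G]

/-- If a subgroup `N` contains two distinct Sylow `p`-subgroups `P ≠ R` of `G`, then
`|P| * (p + 1) ≤ |N|`. -/
theorem card_ge_of_two_sylow_le {p : ℕ} [hp : Fact p.Prime] (P R : Sylow p G) (hPR : P ≠ R)
    (N : Subgroup G) (hP : (P : Subgroup G) ≤ N) (hR : (R : Subgroup G) ≤ N) :
    Nat.card ↥(P : Subgroup G) * (p + 1) ≤ Nat.card ↥N := by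
  set P' : Sylow p ↥N := P.subtype hP with hP'
  set R' : Sylow p ↥N := R.subtype hR with hR'
  have hne : P' ≠ R' := by
    intro h
    exact hPR (Sylow.subtype_injective h)
  have h1 : 1 < Nat.card (Sylow p ↥N) := by
    rw [Finite.one_lt_card_iff_nontrivial]
    exact ⟨⟨P', R', hne⟩⟩
  have h2 : Nat.card (Sylow p ↥N) ≡ 1 [MOD p] := card_sylow_modEq_one p ↥N
  have h3 : p + 1 ≤ Nat.card (Sylow p ↥N) := by
    have h4 : Nat.card (Sylow p ↥N) % p = 1 % p := h2
    have hp2 := hp.out.two_le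
    rw [Nat.mod_eq_of_lt (by omega : 1 < p)] at h4
    have := Nat.div_add_mod (Nat.card (Sylow p ↥N)) p
    rw [h4] at this
    rcases Nat.eq_zero_or_pos (Nat.card (Sylow p ↥N) / p) with h0 | h0
    · rw [h0] at this; omega
    · nlinarith
  have h5 := card_normalizer_mul_card_sylow P'
  have h6 : Nat.card ↥(P' : Subgroup ↥N) ≤ Nat.card ↥(normalizer ((P' : Subgroup ↥N) : Set ↥N)) :=
    Nat.le_of_dvd Nat.card_pos (Subgroup.card_dvd_of_le le_normalizer)
  have h7 : Nat.card ↥(P' : Subgroup ↥N) = Nat.card ↥(P : Subgroup G) := by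
    rw [hP', Sylow.coe_subtype]
    exact Nat.card_congr (Subgroup.subgroupOfEquivOfLe hP).toEquiv
  rw [← h5, ← h7]
  exact Nat.mul_le_mul h6 h3

/-- A subgroup `D` of index `p` in a `p`-group `P` is normalized by `P`. -/
theorem le_normalizer_of_abelian (P D : Subgroup G) (hD : D ≤ P)
    (hcomm : ∀ a ∈ P, ∀ b ∈ P, a * b = b * a) : P ≤ normalizer (D : Set G) := by
  intro g hg
  rw [mem_normalizer_iff]
  intro d
  have key : ∀ d ∈ D, g * d * g⁻¹ = d := by
    intro d hd
    have h2 : g * d = d * g := hcomm g hg d (hD hd)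
    rw [h2]; group
  constructor
  · intro hd
    rw [key d hd]; exact hd
  · intro hd
    have h5 := key _ hd
    have h4 : g * d * g⁻¹ = d := by
      have : g * d * g⁻¹ = g⁻¹ * (g * (g * d * g⁻¹) * g⁻¹) * g := by group
      rw [h5] at this
      rw [this]; group
    rw [← h4]; exact hd

end Cfsg.Agent.Lib.Helper17
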