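import Mathlib
import Cfsg.Agent.Lib.Helper17.SylowTools
import Cfsg.Agent.Lib.Helper17.NormCent
import Cfsg.Agent.Lib.Helper17.PermNormalizer
import Cfsg.Agent.Lib.Helper17.InvolTools
import Cfsg.Agent.Lib.Helper17.SylowInter
import Cfsg.Agent.Lib.Helper9.SimpleSmall
import Cfsg.Agent.S0985

set_option autoImplicit false

namespace Cfsg.Agent.Lib.Helper17

open Subgroup MulAction

section

variable {G : Type*} [Group G] [Finite G] [IsSimpleGroup G]

theorem false_of_card_two_primes (hnc : ¬ IsMulCommutative G) (p q a b : ℕ) (hp : p.Prime)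
    (hq : q.Prime) (h : Nat.card G = p ^ a * q ^ b) : False := by
  have := Cfsg.Agent.Lib.Helper3.isSolvable_of_card_eq_prime_pow_mul p q a b hp hq h
  have hc : IsCyclic G := Cfsg.Agent.Lib.Helper9.isCyclic_of_simple_of_isSolvable
  exact hnc hc.isMulCommutative

theorem false_of_card_twice_odd (n : ℕ) (h4 : n % 4 = 2) (h2 : 2 < n) (h : Nat.card G = n) :
    False :=
  Cfsg.Agent.Lib.Helper9.not_simple_of_twice_odd (G := G) (n / 2) (by rw [Nat.odd_iff]; omega)
    (by omega) (by omega)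

/-- Basic facts about the Sylow `p`-subgroups of a simple group of order `p ^ a * m`. -/
theorem sylow_basic {p a m : ℕ} [hp : Fact p.Prime] (hcard : Nat.card G = p ^ a * m)
    (hpm : ¬ p ∣ m) (ha : 1 ≤ a) (hm : 1 < m) (P : Sylow p G) :
    Nat.card ↥(P : Subgroup G) = p ^ a ∧ Nat.card (Sylow p G) ∣ m ∧
      Nat.card (Sylow p G) % p = 1 ∧ 1 < Nat.card (Sylow p G) ∧
      Nat.card ↥(normalizer ((P : Subgroup G) : Set G)) = p ^ a * (m / Nat.card (Sylow p G)) := by
  have hP := card_sylow_of_card_eq P hcard hpm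
  have hdvd := card_sylow_dvd_of_card_eq (G := G) hcard hpm
  have hmod := card_sylow_modEq_one p G
  have hpos : 0 < p ^ a := pow_pos hp.out.pos a
  have h1 : (P : Subgroup G) ≠ ⊥ := by
    intro h
    rw [h, Subgroup.card_bot] at hP
    have : 1 < p ^ a := Nat.one_lt_pow (by omega) hp.out.one_lt
    omega
  have h2 : (P : Subgroup G) ≠ ⊤ := by
    intro h
    rw [h, Subgroup.card_top, hcard] at hP
    have h3 : p ^ a * m = p ^ a * 1 := by rw [hP, mul_one]
    have := Nat.eq_of_mul_eq_mul_left hpos h3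
    omega
  have hgt := one_lt_card_sylow_of_simple P h1 h2
  have hN := card_normalizer_mul_card_sylow P
  refine ⟨hP, hdvd, ?_, hgt, ?_⟩
  · have h3 : Nat.card (Sylow p G) % p = 1 % p := hmod
    rw [h3]
    exact Nat.mod_eq_of_lt hp.out.one_lt
  · obtain ⟨e, he⟩ := hdvd
    have hdpos : 0 < Nat.card (Sylow p G) := by omega
    rw [hcard] at hN
    rw [he, Nat.mul_div_cancel_left e hdpos]
    apply Nat.eq_of_mul_eq_mul_right hdpos
    rw [hN, he]
    ring

theorem dtest_nc1 {p m : ℕ} [hp : Fact p.Prime] (hcard : Nat.card G = p ^ 1 * m)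
    (hpm : ¬ p ∣ m) (hm : 1 < m)
    (hcop : Nat.gcd (m / Nat.card (Sylow p G)) (p - 1) = 1) : False := by
  obtain ⟨P⟩ : Nonempty (Sylow p G) := inferInstance
  obtain ⟨hP, hdvd, hmod, hgt, hN⟩ := sylow_basic hcard hpm le_rfl hm P
  rw [pow_one] at hP hN
  refine not_coprime_of_simple P hP ?_ hN hcop
  rw [hcard, pow_one]
  intro h
  have h3 : p * m = p * 1 := by rw [h, mul_one]
  have := Nat.eq_of_mul_eq_mul_left hp.out.pos h3
  omega

theorem dtest_a2self {p m : ℕ} [hp : Fact p.Prime] (hcard : Nat.card G = p ^ 2 * m)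
    (hpm : ¬ p ∣ m) (hm : 1 < m) (hd : Nat.card (Sylow p G) = m) : False := by
  obtain ⟨P⟩ : Nonempty (Sylow p G) := inferInstance
  obtain ⟨hP, hdvd, hmod, hgt, hN⟩ := sylow_basic hcard hpm (by norm_num) hm P
  rw [hd, Nat.div_self (by omega), mul_one] at hN
  have hPN : (P : Subgroup G) = normalizer ((P : Subgroup G) : Set G) :=
    Subgroup.eq_of_le_of_card_ge Subgroup.le_normalizer (by rw [hP, hN])
  have hcomm := comm_of_card_prime_pow_le_two (e := 2) le_rfl (P : Subgroup G) hP
  have h1 : (P : Subgroup G) ≠ ⊥ := by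
    intro h
    rw [h, Subgroup.card_bot] at hP
    have : 1 < p ^ 2 := Nat.one_lt_pow (by omega) hp.out.one_lt
    omega
  have h2 : (P : Subgroup G) ≠ ⊤ := by
    intro h
    rw [h, Subgroup.card_top, hcard] at hP
    have h3 : p ^ 2 * m = p ^ 2 * 1 := by rw [hP, mul_one]
    have := Nat.eq_of_mul_eq_mul_left (pow_pos hp.out.pos 2) h3
    omega
  apply not_normalizer_le_centralizer_of_simple P h1 h2
  rw [← hPN]
  intro a ha
  rw [mem_centralizer_iff]
  intro b hb
  exact hcomm b hb a ha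

theorem dtest_toolN (hnc : ¬ IsMulCommutative G) {n p m : ℕ} [hp : Fact p.Prime] (hp2 : p ≠ 2)
    (hn : Nat.card G = n)
    (hcard : Nat.card G = p ^ 1 * m) (hpm : ¬ p ∣ m) (hm : 1 < m)
    (hd : Nat.card (Sylow p G) = p + 1)
    (hnd : ¬ 2 * (n / Nat.card (Sylow p G)) ∣ p * (p - 1)) : False := by
  obtain ⟨P⟩ : Nonempty (Sylow p G) := inferInstance
  obtain ⟨hP, hdvd, hmod, hgt, hN⟩ := sylow_basic hcard hpm le_rfl hm P
  rw [pow_one] at hP
  have hidx : (normalizer ((P : Subgroup G) : Set G)).index = p + 1 := by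
    have h0 := P.card_eq_index_normalizer
    rw [hd] at h0
    exact h0.symm
  have key := two_mul_card_normalizer_dvd_of_index hnc p hp2 _ (Or.inr hidx) P hP
  apply hnd
  have h1 := card_normalizer_mul_card_sylow P
  have h2 : n / Nat.card (Sylow p G) = Nat.card ↥(normalizer ((P : Subgroup G) : Set G)) := by
    rw [← hn, ← h1, Nat.mul_div_cancel _ (by omega)]
  rw [h2]
  exact key

theorem dtest_parity (hnc : ¬ IsMulCommutative G) {p m : ℕ} [hp : Fact p.Prime] (hp2 : p ≠ 2)
    (hcard : Nat.card G = p ^ 1 * m) (hpm : ¬ p ∣ m) (hm : 1 < m)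
    (hr : ∀ r, r < p → r ∣ m / Nat.card (Sylow p G) → r ∣ p - 1 →
      2 ∣ (m / Nat.card (Sylow p G)) / r)
    (hf : ∀ f, f < Nat.card (Sylow p G) →
      ¬ (f % p = 1 ∧ f % 4 = Nat.card (Sylow p G) % 4)) : False := by
  obtain ⟨P⟩ : Nonempty (Sylow p G) := inferInstance
  obtain ⟨hP, hdvd, hmod, hgt, hN⟩ := sylow_basic hcard hpm le_rfl hm P
  rw [pow_one] at hP hN
  have hp2le := hp.out.two_le
  have hcomm : ∀ a ∈ (P : Subgroup G), ∀ b ∈ (P : Subgroup G), a * b = b * a :=
    comm_of_card_prime_pow_le_two (e := 1) (by norm_num) (P : Subgroup G) (by rw [hP, pow_one])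
  have h1 := relIndex_centralizer_normalizer_dvd_pred hp.out (P : Subgroup G) hP
  have h2 := relIndex_centralizer_normalizer_mul_card_dvd (P : Subgroup G) hcomm
  rw [hP, hN, mul_comm] at h2
  have hre := Nat.dvd_of_mul_dvd_mul_left hp.out.pos h2
  have hrlt : (centralizer ((P : Subgroup G) : Set G)).relIndex
      (normalizer ((P : Subgroup G) : Set G)) < p := by
    have := Nat.le_of_dvd (by omega) h1
    omega
  have h2dvd := hr _ hrlt hre h1
  have hCN : centralizer ((P : Subgroup G) : Set G) ≤ normalizer ((P : Subgroup G) : Set G) :=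
    Subgroup.centralizer_le_normalizer _
  have h3 := card_inf_mul_relIndex (centralizer ((P : Subgroup G) : Set G))
    (normalizer ((P : Subgroup G) : Set G))
  rw [inf_of_le_left hCN, hN] at h3
  -- |C| is even
  have heven : 2 ∣ Nat.card ↥(centralizer ((P : Subgroup G) : Set G)) := by
    obtain ⟨k, hk⟩ := hre
    have hrpos : 0 < (centralizer ((P : Subgroup G) : Set G)).relIndex
        (normalizer ((P : Subgroup G) : Set G)) := by
      rcases Nat.eq_zero_or_pos ((centralizer ((P : Subgroup G) : Set G)).relIndex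
        (normalizer ((P : Subgroup G) : Set G))) with h0 | h0
      · rw [h0, mul_zero] at h3
        have : 0 < m / Nat.card (Sylow p G) :=
          Nat.div_pos (Nat.le_of_dvd (by omega) hdvd) (by omega)
        have := Nat.mul_pos hp.out.pos this
        omega
      · exact h0
    rw [hk, Nat.mul_div_cancel_left k hrpos] at h2dvd
    have h4 : Nat.card ↥(centralizer ((P : Subgroup G) : Set G)) = p * k := by
      apply Nat.eq_of_mul_eq_mul_right hrpos
      rw [h3, hk]
      ring
    rw [h4]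
    exact Dvd.dvd.mul_left h2dvd p
  have : Fact (Nat.Prime 2) := ⟨Nat.prime_two⟩
  obtain ⟨t, ht⟩ := exists_prime_orderOf_dvd_card' (G := ↥(centralizer ((P : Subgroup G) : Set G)))
    2 heven
  have ht1 : (t : G) ≠ 1 := by
    intro h
    have : t = 1 := Subtype.ext h
    rw [this, orderOf_one] at ht
    omega
  have htt : (t : G) * (t : G) = 1 := by
    have := pow_orderOf_eq_one t
    rw [ht, pow_two] at this
    exact congrArg Subtype.val this
  have htc : ∀ a ∈ (P : Subgroup G), a * (t : G) = (t : G) * a := by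
    intro a ha
    exact (mem_centralizer_iff.mp t.2 a ha)
  obtain ⟨c1, c2, c3, _⟩ := involution_sylow_count hnc P hgt (t : G) htt ht1 htc
  apply hf _ c3
  refine ⟨?_, c2⟩
  rw [c1]
  exact Nat.mod_eq_of_lt hp.out.one_lt

theorem dtest_fact (hnc : ¬ IsMulCommutative G) {n p a m : ℕ} [hp : Fact p.Prime]
    (hn : Nat.card G = n)
    (hcard : Nat.card G = p ^ a * m) (hpm : ¬ p ∣ m) (ha : 1 ≤ a) (hm : 1 < m)
    (hnd : ¬ 2 * n ∣ (Nat.card (Sylow p G)).factorial) : False := by
  obtain ⟨P⟩ : Nonempty (Sylow p G) := inferInstance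
  obtain ⟨hP, hdvd, hmod, hgt, hN⟩ := sylow_basic hcard hpm ha hm P
  apply hnd
  rw [← hn]
  exact two_mul_card_dvd_factorial_card_sylow hnc hgt

/-- A corollary of the Sylow intersection congruence: if `n_p ≢ 1 mod p ^ k` there are two
distinct Sylow subgroups with a large intersection. -/
theorem exists_sylow_inter_card {H : Type*} [Group H] [Finite H] (p k : ℕ) [Fact p.Prime]
    (h : ¬ Nat.card (Sylow p H) ≡ 1 [MOD p ^ k]) :
    ∃ P R : Sylow p H, P ≠ R ∧
      Nat.card ↥(P : Subgroup H) ≤ p ^ (k - 1) * Nat.card ↥((P : Subgroup H) ⊓ (R : Subgroup H) : Subgroup H) := by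
  obtain ⟨P, R, hne, hidx⟩ := Cfsg.Agent.S0985.result p k h
  refine ⟨P, R, hne, ?_⟩
  have h1 := card_inf_mul_relIndex (R : Subgroup H) (P : Subgroup H)
  rw [inf_comm] at h1
  rw [← h1, mul_comm]
  exact Nat.mul_le_mul_right _ hidx

end

/-- A subgroup of index `p` in a group of order `p ^ a` is normal. -/
theorem le_normalizer_of_relIndex_eq_prime {H : Type*} [Group H] [Finite H] {p a : ℕ}
    (hp : p.Prime) (P D : Subgroup H) (hDP : D ≤ P) (hP : Nat.card ↥P = p ^ a) (ha : a ≠ 0)
    (hidx : D.relIndex P = p) : P ≤ normalizer (D : Set H) := by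
  have h1 : (D.subgroupOf P).index = (Nat.card ↥P).minFac := by
    rw [hP, Nat.pow_minFac ha, hp.minFac_eq]
    exact hidx
  have h2 := Subgroup.normal_of_index_eq_minFac_card h1
  exact (normal_subgroupOf_iff_le_normalizer hDP).mp h2

/-- Two distinct Sylow `p`-subgroups `P`, `R` with `|P| ≤ p * |P ⊓ R|` both normalize `P ⊓ R`,
which has index `p` in both. -/
theorem sylow_inter_index_prime {H : Type*} [Group H] [Finite H] {p a : ℕ} [hp : Fact p.Prime]
    (P R : Sylow p H) (hne : P ≠ R) (hP : Nat.card ↥(P : Subgroup H) = p ^ a)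
    (hle : Nat.card ↥(P : Subgroup H) ≤
      p * Nat.card ↥((P : Subgroup H) ⊓ (R : Subgroup H) : Subgroup H)) :
    Nat.card ↥(P : Subgroup H) = p * Nat.card ↥((P : Subgroup H) ⊓ (R : Subgroup H) : Subgroup H) ∧
    (P : Subgroup H) ≤ normalizer (((P : Subgroup H) ⊓ (R : Subgroup H) : Subgroup H) : Set H) ∧
    (R : Subgroup H) ≤ normalizer (((P : Subgroup H) ⊓ (R : Subgroup H) : Subgroup H) : Set H) := by
  set D : Subgroup H := (P : Subgroup H) ⊓ (R : Subgroup H) with hD
  have hR : Nat.card ↥(R : Subgroup H) = p ^ a := by rw [← hP]; exact card_sylow_eq_card_sylow R P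
  have hDP : D ≤ (P : Subgroup H) := inf_le_left
  have hDR : D ≤ (R : Subgroup H) := inf_le_right
  have hDpos : 0 < Nat.card ↥D := Nat.card_pos
  have hDneP : Nat.card ↥D ≠ Nat.card ↥(P : Subgroup H) := by
    intro h
    have h1 : D = (P : Subgroup H) := Subgroup.eq_of_le_of_card_ge hDP (le_of_eq h.symm)
    have h2 : (P : Subgroup H) ≤ (R : Subgroup H) := by rw [← h1]; exact hDR
    exact hne (Sylow.ext (P.3 R.2 h2).symm)
  have h1 := card_inf_mul_relIndex D (P : Subgroup H)
  rw [inf_of_le_left hDP] at h1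
  have h2 := card_inf_mul_relIndex D (R : Subgroup H)
  rw [inf_of_le_left hDR] at h2
  -- the index divides p ^ a, is ≤ p and ≠ 1
  have hi_le : D.relIndex (P : Subgroup H) ≤ p := by
    rw [← h1] at hle
    rw [mul_comm p] at hle
    exact Nat.le_of_mul_le_mul_left hle hDpos
  have hi_ne1 : D.relIndex (P : Subgroup H) ≠ 1 := by
    intro h
    rw [h, mul_one] at h1
    exact hDneP h1
  have hi_dvd : D.relIndex (P : Subgroup H) ∣ p ^ a := by
    rw [← hP, ← h1]
    exact Dvd.intro_left _ rfl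
  have hi : D.relIndex (P : Subgroup H) = p := by
    obtain ⟨j, hj, hij⟩ := (Nat.dvd_prime_pow hp.out).mp hi_dvd
    rcases Nat.eq_zero_or_pos j with h0 | h0
    · rw [h0, pow_zero] at hij
      exact absurd hij hi_ne1
    · have : p ^ 1 ≤ p ^ j := Nat.pow_le_pow_right hp.out.pos h0
      rw [pow_one, ← hij] at this
      omega
  have hi' : D.relIndex (R : Subgroup H) = p := by
    rw [hi] at h1
    have h3 : Nat.card ↥D * D.relIndex (R : Subgroup H) = Nat.card ↥D * p := by
      rw [h2, h1, hR, hP]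
    exact Nat.eq_of_mul_eq_mul_left hDpos h3
  have ha : a ≠ 0 := by
    rintro rfl
    rw [pow_zero] at hP
    rw [hi, hP] at h1
    have := hp.out.two_le
    have : 2 ≤ Nat.card ↥D * p := by
      calc 2 ≤ p := this
        _ ≤ Nat.card ↥D * p := Nat.le_mul_of_pos_left _ hDpos
    omega
  refine ⟨?_, le_normalizer_of_relIndex_eq_prime hp.out _ D hDP hP ha hi,
    le_normalizer_of_relIndex_eq_prime hp.out _ D hDR hR ha hi'⟩
  rw [← h1, hi, mul_comm]

section

variable {G : Type*} [Group G] [Finite G] [IsSimpleGroup G]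

theorem tw_kill (hnc : ¬ IsMulCommutative G) {n a m : ℕ} (hn : Nat.card G = n)
    (hcard : Nat.card G = 2 ^ a * m) (hm2 : ¬ 2 ∣ m) (ha : 2 ≤ a) (hm : 1 < m)
    (h43 : Nat.card (Sylow 2 G) % 4 = 3) (hnd : ¬ 2 * n ∣ (m / 3).factorial) : False := by
  haveI : Fact (Nat.Prime 2) := ⟨Nat.prime_two⟩
  have h : ¬ Nat.card (Sylow 2 G) ≡ 1 [MOD 2 ^ 2] := by
    intro h
    have h' : Nat.card (Sylow 2 G) % 2 ^ 2 = 1 % 2 ^ 2 := h
    norm_num at h'
    omega
  obtain ⟨P, R, hne, hle⟩ := exists_sylow_inter_card 2 2 h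
  have hP := card_sylow_of_card_eq P hcard hm2
  have hle' : Nat.card ↥(P : Subgroup G) ≤
      2 * Nat.card ↥((P : Subgroup G) ⊓ (R : Subgroup G) : Subgroup G) := by simpa using hle
  obtain ⟨hcardD, hPN, hRN⟩ := sylow_inter_index_prime P R hne hP hle'
  set D : Subgroup G := (P : Subgroup G) ⊓ (R : Subgroup G) with hD
  set N := normalizer (D : Set G) with hN
  have h3 := card_ge_of_two_sylow_le P R hne N hPN hRN
  have hNtop : N ≠ ⊤ := by
    intro htop
    have hnorm : D.Normal := normalizer_eq_top_iff.mp htop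
    have h2a : 4 ≤ 2 ^ a := by
      calc 4 = 2 ^ 2 := by norm_num
        _ ≤ 2 ^ a := Nat.pow_le_pow_right (by norm_num) ha
    rcases hnorm.eq_bot_or_eq_top with hb | ht
    · rw [hb, Subgroup.card_bot] at hcardD
      omega
    · have : (P : Subgroup G) = ⊤ := top_le_iff.mp (ht ▸ (inf_le_left : D ≤ (P : Subgroup G)))
      rw [this, Subgroup.card_top, hcard] at hP
      have h5 : 2 ^ a * m = 2 ^ a * 1 := by rw [hP, mul_one]
      have := Nat.eq_of_mul_eq_mul_left (by positivity) h5
      omega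
  have h4 := two_mul_card_dvd_factorial_of_simple hnc N hNtop
  apply hnd
  rw [← hn]
  refine h4.trans (Nat.factorial_dvd_factorial ?_)
  -- index bound
  have h5 := N.card_mul_index
  rw [hcard] at h5
  obtain ⟨k, hk⟩ : 2 ^ a ∣ Nat.card ↥N := by
    rw [← hP]; exact Subgroup.card_dvd_of_le hPN
  rw [hk, hP] at h3
  have hpos : 0 < 2 ^ a := by positivity
  have hk3 : 3 ≤ k := by
    have : 2 ^ a * (2 + 1) ≤ 2 ^ a * k := h3
    exact Nat.le_of_mul_le_mul_left this hpos
  rw [hk, mul_assoc] at h5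
  have h6 : k * N.index = m := Nat.eq_of_mul_eq_mul_left hpos h5
  rw [Nat.le_div_iff_mul_le (by norm_num)]
  calc N.index * 3 ≤ N.index * k := Nat.mul_le_mul_left _ hk3
    _ = m := by rw [mul_comm, h6]

end

end Cfsg.Agent.Lib.Helper17
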