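import Mathlib
import Cfsg.Agent.Lib.Helper17.EngineLemmas

set_option autoImplicit false

namespace Cfsg.Agent.Lib.Helper17

open Subgroup MulAction

/-- bounded universal quantifier as a Boolean -/
def allLt (k : ℕ) (f : ℕ → Bool) : Bool := (List.range k).all f

theorem allLt_spec {k : ℕ} {f : ℕ → Bool} : allLt k f = true ↔ ∀ i, i < k → f i = true := by
  simp [allLt, List.all_eq_true, List.mem_range]

def primeB (p : ℕ) : Bool :=
  decide (2 ≤ p) && allLt p (fun m => decide (m < 2) || decide (p % m ≠ 0))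

theorem prime_of_primeB {p : ℕ} (h : primeB p = true) : p.Prime := by
  unfold primeB at h
  rw [Bool.and_eq_true, decide_eq_true_eq, allLt_spec] at h
  obtain ⟨h2, hall⟩ := h
  rw [Nat.prime_def_lt]
  refine ⟨h2, ?_⟩
  intro m hm hdvd
  have := hall m hm
  rw [Bool.or_eq_true, decide_eq_true_eq, decide_eq_true_eq] at this
  rcases this with h1 | h1
  · have hm0 : m ≠ 0 := by
      rintro rfl
      rw [zero_dvd_iff] at hdvd
      omega
    omega
  · exact absurd (Nat.mod_eq_zero_of_dvd hdvd) h1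

/-- The test applied to a putative number `d` of Sylow `p`-subgroups. -/
def dtestP (n p a m d : ℕ) : Prop :=
  (a = 1 ∧ Nat.gcd (m / d) (p - 1) = 1) ∨
  (a = 2 ∧ d = m) ∨
  (a = 1 ∧ p ≠ 2 ∧ d = p + 1 ∧ ¬ 2 * (n / d) ∣ p * (p - 1)) ∨
  (a = 1 ∧ p ≠ 2 ∧ (∀ r, r < p → r ∣ m / d → r ∣ p - 1 → 2 ∣ (m / d) / r) ∧
    ∀ f, f < d → ¬ (f % p = 1 ∧ f % 4 = d % 4)) ∨
  (d ≤ 10 ∧ ¬ 2 * n ∣ d.factorial)

def dtestB (n p a m d : ℕ) : Bool :=
  (decide (a = 1) && decide (Nat.gcd (m / d) (p - 1) = 1)) ||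
  (decide (a = 2) && decide (d = m)) ||
  (decide (a = 1) && decide (p ≠ 2) && decide (d = p + 1) &&
    decide ((p * (p - 1)) % (2 * (n / d)) ≠ 0)) ||
  (decide (a = 1) && decide (p ≠ 2) &&
    allLt p (fun r => decide ((m / d) % r ≠ 0) || decide ((p - 1) % r ≠ 0) ||
      decide (((m / d) / r) % 2 = 0)) &&
    allLt d (fun f => decide (f % p ≠ 1) || decide (f % 4 ≠ d % 4))) ||
  (decide (d ≤ 10) && decide (d.factorial % (2 * n) ≠ 0))

theorem dtestB_sound {n p a m d : ℕ} (h : dtestB n p a m d = true) : dtestP n p a m d := by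
  unfold dtestB at h
  simp only [Bool.or_eq_true, Bool.and_eq_true, decide_eq_true_eq, allLt_spec] at h
  unfold dtestP
  rcases h with (((h | h) | h) | h) | h
  · exact Or.inl h
  · exact Or.inr (Or.inl h)
  · obtain ⟨⟨⟨h1, h2⟩, h3⟩, h4⟩ := h
    refine Or.inr (Or.inr (Or.inl ⟨h1, h2, h3, ?_⟩))
    intro hd
    exact h4 (Nat.mod_eq_zero_of_dvd hd)
  · obtain ⟨⟨⟨h1, h2⟩, h3⟩, h4⟩ := h
    refine Or.inr (Or.inr (Or.inr (Or.inl ⟨h1, h2, ?_, ?_⟩)))
    · intro r hr hr1 hr2
      rcases h3 r hr with (h5 | h5) | h5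
      · exact absurd (Nat.mod_eq_zero_of_dvd hr1) h5
      · exact absurd (Nat.mod_eq_zero_of_dvd hr2) h5
      · exact Nat.dvd_of_mod_eq_zero h5
    · intro f hf hcon
      rcases h4 f hf with h5 | h5
      · exact h5 hcon.1
      · exact h5 hcon.2
  · obtain ⟨h1, h2⟩ := h
    refine Or.inr (Or.inr (Or.inr (Or.inr ⟨h1, ?_⟩)))
    intro hd
    exact h2 (Nat.mod_eq_zero_of_dvd hd)

inductive Cert
  | bs (p a q b : ℕ)
  | tod
  | sy (p a m : ℕ)
  | tw (a m : ℕ)
  | sp

def specials : List ℕ := [60, 168, 360, 504, 612, 660, 720, 756, 1008, 1040, 1080, 1092]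

def checkB (n : ℕ) : Cert → Bool
  | .bs p a q b => primeB p && primeB q && decide (n = p ^ a * q ^ b)
  | .tod => decide (n % 4 = 2) && decide (2 < n)
  | .sy p a m => primeB p && decide (n = p ^ a * m) && decide (m % p ≠ 0) && decide (1 ≤ a) &&
      decide (1 < m) &&
      allLt (m + 1) (fun d => decide (m % d ≠ 0) || decide (d % p ≠ 1) || decide (d = 1) ||
        dtestB n p a m d)
  | .tw a m => decide (n = 2 ^ a * m) && decide (m % 2 = 1) && decide (2 ≤ a) && decide (1 < m) &&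
      allLt (m + 1) (fun d => decide (m % d ≠ 0) || decide (d = 1) ||
        (decide (d ≤ 10) && decide (d.factorial % (2 * n) ≠ 0)) ||
        (decide (d % 4 = 3) && decide ((m / 3).factorial % (2 * n) ≠ 0)))
  | .sp => decide (n ∈ specials)

section

variable {G : Type*} [Group G] [Finite G] [IsSimpleGroup G]

theorem sy_sound (hnc : ¬ IsMulCommutative G) {n p a m : ℕ} (hp : p.Prime)
    (hn : n = p ^ a * m) (hpm : m % p ≠ 0) (ha : 1 ≤ a) (hm : 1 < m)
    (hall : ∀ d, d < m + 1 → m % d = 0 → d % p = 1 → d ≠ 1 → dtestP n p a m d)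
    (hcard : Nat.card G = n) : False := by
  haveI : Fact p.Prime := ⟨hp⟩
  have hpm' : ¬ p ∣ m := fun h => hpm (Nat.mod_eq_zero_of_dvd h)
  have hcard' : Nat.card G = p ^ a * m := by rw [hcard, hn]
  obtain ⟨P⟩ : Nonempty (Sylow p G) := inferInstance
  obtain ⟨hP, hdvd, hmod, hgt, hN⟩ := sylow_basic hcard' hpm' ha hm P
  have hdle : Nat.card (Sylow p G) < m + 1 := by
    have := Nat.le_of_dvd (by omega) hdvd
    omega
  have key := hall _ hdle (Nat.mod_eq_zero_of_dvd hdvd) hmod (by omega)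
  unfold dtestP at key
  rcases key with h | h | h | h | h
  · obtain ⟨rfl, h2⟩ := h
    exact dtest_nc1 hcard' hpm' hm h2
  · obtain ⟨rfl, h2⟩ := h
    exact dtest_a2self hcard' hpm' hm h2
  · obtain ⟨rfl, h2, h3, h4⟩ := h
    exact dtest_toolN hnc h2 hcard hcard' hpm' hm h3 h4
  · obtain ⟨rfl, h2, h3, h4⟩ := h
    exact dtest_parity hnc h2 hcard' hpm' hm h3 h4
  · obtain ⟨_, h2⟩ := h
    exact dtest_fact hnc hcard hcard' hpm' ha hm h2

theorem tw_sound (hnc : ¬ IsMulCommutative G) {n a m : ℕ}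
    (hn : n = 2 ^ a * m) (hm2 : m % 2 = 1) (ha : 2 ≤ a) (hm : 1 < m)
    (hall : ∀ d, d < m + 1 → m % d = 0 → d ≠ 1 →
      (d ≤ 10 ∧ d.factorial % (2 * n) ≠ 0) ∨ (d % 4 = 3 ∧ (m / 3).factorial % (2 * n) ≠ 0))
    (hcard : Nat.card G = n) : False := by
  haveI : Fact (Nat.Prime 2) := ⟨Nat.prime_two⟩
  have hpm' : ¬ 2 ∣ m := fun h => by omega
  have hcard' : Nat.card G = 2 ^ a * m := by rw [hcard, hn]
  obtain ⟨P⟩ : Nonempty (Sylow 2 G) := inferInstance
  obtain ⟨hP, hdvd, hmod, hgt, hN⟩ := sylow_basic hcard' hpm' (by omega) hm P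
  have hdle : Nat.card (Sylow 2 G) < m + 1 := by
    have := Nat.le_of_dvd (by omega) hdvd
    omega
  rcases hall _ hdle (Nat.mod_eq_zero_of_dvd hdvd) (by omega) with h | h
  · apply dtest_fact hnc hcard hcard' hpm' (by omega) hm
    intro hd
    exact h.2 (Nat.mod_eq_zero_of_dvd hd)
  · apply tw_kill hnc hcard hcard' hpm' ha hm h.1
    intro hd
    exact h.2 (Nat.mod_eq_zero_of_dvd hd)

theorem check_sound (hnc : ¬ IsMulCommutative G) {n : ℕ} {c : Cert} (h : checkB n c = true)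
    (hcard : Nat.card G = n) : n ∈ specials := by
  cases c with
  | bs p a q b =>
    exfalso
    simp only [checkB, Bool.and_eq_true, decide_eq_true_eq] at h
    obtain ⟨⟨h1, h2⟩, h3⟩ := h
    exact false_of_card_two_primes hnc p q a b (prime_of_primeB h1) (prime_of_primeB h2)
      (hcard.trans h3)
  | tod =>
    exfalso
    simp only [checkB, Bool.and_eq_true, decide_eq_true_eq] at h
    exact false_of_card_twice_odd n h.1 h.2 hcard
  | sy p a m =>
    exfalso
    simp only [checkB, Bool.and_eq_true, decide_eq_true_eq, allLt_spec, Bool.or_eq_true] at h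
    obtain ⟨⟨⟨⟨⟨h1, h2⟩, h3⟩, h4⟩, h5⟩, h6⟩ := h
    refine sy_sound hnc (prime_of_primeB h1) h2 h3 h4 h5 ?_ hcard
    intro d hd hd1 hd2 hd3
    rcases h6 d hd with ((h7 | h7) | h7) | h7
    · exact absurd hd1 h7
    · exact absurd hd2 h7
    · exact absurd h7 hd3
    · exact dtestB_sound h7
  | tw a m =>
    exfalso
    simp only [checkB, Bool.and_eq_true, decide_eq_true_eq, allLt_spec, Bool.or_eq_true] at h
    obtain ⟨⟨⟨⟨h1, h2⟩, h3⟩, h4⟩, h5⟩ := h
    refine tw_sound hnc h1 h2 h3 h4 ?_ hcard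
    intro d hd hd1 hd3
    rcases h5 d hd with ((h7 | h7) | h7) | h7
    · exact absurd hd1 h7
    · exact absurd h7 hd3
    · exact Or.inl h7
    · exact Or.inr h7
  | sp =>
    simpa [checkB] using h

end

def checkFrom : ℕ → List Cert → Bool
  | _, [] => true
  | k, c :: cs => checkB k c && checkFrom (k + 1) cs

theorem checkFrom_sound : ∀ (l : List Cert) (k : ℕ), checkFrom k l = true →
    ∀ i (hi : i < l.length), checkB (k + i) l[i] = true
  | [], _, _, i, hi => by simp at hi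
  | c :: cs, k, h, i, hi => by
    rw [checkFrom, Bool.and_eq_true] at h
    cases i with
    | zero => simpa using h.1
    | succ j =>
      have := checkFrom_sound cs (k + 1) h.2 j (by simpa using hi)
      simpa [Nat.add_assoc, Nat.add_comm 1 j] using this

end Cfsg.Agent.Lib.Helper17
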