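import Mathlib
import Cfsg.Agent.Lib.Helper17.Engine

set_option autoImplicit false

namespace Cfsg.Agent.Lib.Helper17

/-- Checking a decidable property on all divisors of `n` by kernel evaluation. -/
theorem forall_dvd_of_allLt (n : ℕ) (P : ℕ → Prop) [DecidablePred P]
    (h : allLt (n + 1) (fun d => decide (n % d ≠ 0) || decide (P d)) = true) (hn : 0 < n) :
    ∀ d, d ∣ n → P d := by
  intro d hd
  rw [allLt_spec] at h
  have hle : d < n + 1 := by
    have := Nat.le_of_dvd hn hd
    omega
  have := h d hle
  rw [Bool.or_eq_true, decide_eq_true_eq, decide_eq_true_eq] at this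
  rcases this with h1 | h1
  · exact absurd (Nat.mod_eq_zero_of_dvd hd) h1
  · exact h1

end Cfsg.Agent.Lib.Helper17
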