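import Mathlib
import Cfsg.Agent.Lib.Helper17.Engine

set_option autoImplicit false

namespace Cfsg.Agent.Lib.Helper17

/-- certificates for the orders `2, 3, ..., 1092` -/
def certTable : List Cert := [
  .bs 2 1 3 0, .bs 3 1 2 0, .bs 2 2 3 0, .bs 5 1 2 0, .bs 2 1 3 1, .bs 7 1 2 0, .bs 2 3 3 0, .bs 3 2 2 0,
  .bs 2 1 5 1, .bs 11 1 2 0, .bs 2 2 3 1, .bs 13 1 2 0, .bs 2 1 7 1, .bs 3 1 5 1, .bs 2 4 3 0, .bs 17 1 2 0,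
  .bs 2 1 3 2, .bs 19 1 2 0, .bs 2 2 5 1, .bs 3 1 7 1, .bs 2 1 11 1, .bs 23 1 2 0, .bs 2 3 3 1, .bs 5 2 2 0,
  .bs 2 1 13 1, .bs 3 3 2 0, .bs 2 2 7 1, .bs 29 1 2 0, .tod, .bs 31 1 2 0, .bs 2 5 3 0, .bs 3 1 11 1,
  .bs 2 1 17 1, .bs 5 1 7 1, .bs 2 2 3 2, .bs 37 1 2 0, .bs 2 1 19 1, .bs 3 1 13 1, .bs 2 3 5 1, .bs 41 1 2 0,
  .tod, .bs 43 1 2 0, .bs 2 2 11 1, .bs 3 2 5 1, .bs 2 1 23 1, .bs 47 1 2 0, .bs 2 4 3 1, .bs 7 2 2 0,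
  .bs 2 1 5 2, .bs 3 1 17 1, .bs 2 2 13 1, .bs 53 1 2 0, .bs 2 1 3 3, .bs 5 1 11 1, .bs 2 3 7 1, .bs 3 1 19 1,
  .bs 2 1 29 1, .bs 59 1 2 0, .sp, .bs 61 1 2 0, .bs 2 1 31 1, .bs 3 2 7 1, .bs 2 6 3 0, .bs 5 1 13 1,
  .tod, .bs 67 1 2 0, .bs 2 2 17 1, .bs 3 1 23 1, .tod, .bs 71 1 2 0, .bs 2 3 3 2, .bs 73 1 2 0,
  .bs 2 1 37 1, .bs 3 1 5 2, .bs 2 2 19 1, .bs 7 1 11 1, .tod, .bs 79 1 2 0, .bs 2 4 5 1, .bs 3 4 2 0,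
  .bs 2 1 41 1, .bs 83 1 2 0, .sy 7 1 12, .bs 5 1 17 1, .bs 2 1 43 1, .bs 3 1 29 1, .bs 2 3 11 1, .bs 89 1 2 0,
  .tod, .bs 7 1 13 1, .bs 2 2 23 1, .bs 3 1 31 1, .bs 2 1 47 1, .bs 5 1 19 1, .bs 2 5 3 1, .bs 97 1 2 0,
  .bs 2 1 7 2, .bs 3 2 11 1, .bs 2 2 5 2, .bs 101 1 2 0, .tod, .bs 103 1 2 0, .bs 2 3 13 1, .sy 7 1 15,
  .bs 2 1 53 1, .bs 107 1 2 0, .bs 2 2 3 3, .bs 109 1 2 0, .tod, .bs 3 1 37 1, .bs 2 4 7 1, .bs 113 1 2 0,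
  .tod, .bs 5 1 23 1, .bs 2 2 29 1, .bs 3 2 13 1, .bs 2 1 59 1, .bs 7 1 17 1, .sy 5 1 24, .bs 11 2 2 0,
  .bs 2 1 61 1, .bs 3 1 41 1, .bs 2 2 31 1, .bs 5 3 2 0, .tod, .bs 127 1 2 0, .bs 2 7 3 0, .bs 3 1 43 1,
  .tod, .bs 131 1 2 0, .sy 11 1 12, .bs 7 1 19 1, .bs 2 1 67 1, .bs 3 3 5 1, .bs 2 3 17 1, .bs 137 1 2 0,
  .tod, .bs 139 1 2 0, .sy 7 1 20, .bs 3 1 47 1, .bs 2 1 71 1, .bs 11 1 13 1, .bs 2 4 3 2, .bs 5 1 29 1,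
  .bs 2 1 73 1, .bs 3 1 7 2, .bs 2 2 37 1, .bs 149 1 2 0, .tod, .bs 151 1 2 0, .bs 2 3 19 1, .bs 3 2 17 1,
  .tod, .bs 5 1 31 1, .sy 13 1 12, .bs 157 1 2 0, .bs 2 1 79 1, .bs 3 1 53 1, .bs 2 5 5 1, .bs 7 1 23 1,
  .bs 2 1 3 4, .bs 163 1 2 0, .bs 2 2 41 1, .sy 11 1 15, .bs 2 1 83 1, .bs 167 1 2 0, .sp, .bs 13 2 2 0,
  .tod, .bs 3 2 19 1, .bs 2 2 43 1, .bs 173 1 2 0, .tod, .bs 5 2 7 1, .bs 2 4 11 1, .bs 3 1 59 1,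
  .bs 2 1 89 1, .bs 179 1 2 0, .sy 5 1 36, .bs 181 1 2 0, .tod, .bs 3 1 61 1, .bs 2 3 23 1, .bs 5 1 37 1,
  .tod, .bs 11 1 17 1, .bs 2 2 47 1, .bs 3 3 7 1, .tod, .bs 191 1 2 0, .bs 2 6 3 1, .bs 193 1 2 0,
  .bs 2 1 97 1, .sy 13 1 15, .bs 2 2 7 2, .bs 197 1 2 0, .tod, .bs 199 1 2 0, .bs 2 3 5 2, .bs 3 1 67 1,
  .bs 2 1 101 1, .bs 7 1 29 1, .sy 17 1 12, .bs 5 1 41 1, .bs 2 1 103 1, .bs 3 2 23 1, .bs 2 4 13 1, .bs 11 1 19 1,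
  .tod, .bs 211 1 2 0, .bs 2 2 53 1, .bs 3 1 71 1, .bs 2 1 107 1, .bs 5 1 43 1, .bs 2 3 3 3, .bs 7 1 31 1,
  .bs 2 1 109 1, .bs 3 1 73 1, .sy 11 1 20, .bs 13 1 17 1, .tod, .bs 223 1 2 0, .bs 2 5 7 1, .bs 3 2 5 2,
  .bs 2 1 113 1, .bs 227 1 2 0, .sy 19 1 12, .bs 229 1 2 0, .tod, .sy 11 1 21, .bs 2 3 29 1, .bs 233 1 2 0,
  .tod, .bs 5 1 47 1, .bs 2 2 59 1, .bs 3 1 79 1, .tod, .bs 239 1 2 0, .sy 5 1 48, .bs 241 1 2 0,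
  .bs 2 1 11 2, .bs 3 5 2 0, .bs 2 2 61 1, .bs 5 1 7 2, .tod, .bs 13 1 19 1, .bs 2 3 31 1, .bs 3 1 83 1,
  .bs 2 1 5 3, .bs 251 1 2 0, .sy 7 1 36, .bs 11 1 23 1, .bs 2 1 127 1, .sy 17 1 15, .bs 2 8 3 0, .bs 257 1 2 0,
  .tod, .bs 7 1 37 1, .sy 13 1 20, .bs 3 2 29 1, .bs 2 1 131 1, .bs 263 1 2 0, .sy 11 1 24, .bs 5 1 53 1,
  .tod, .bs 3 1 89 1, .bs 2 2 67 1, .bs 269 1 2 0, .tod, .bs 271 1 2 0, .bs 2 4 17 1, .sy 13 1 21,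
  .bs 2 1 137 1, .bs 5 2 11 1, .sy 23 1 12, .bs 277 1 2 0, .bs 2 1 139 1, .bs 3 2 31 1, .sy 7 1 40, .bs 281 1 2 0,
  .tod, .bs 283 1 2 0, .bs 2 2 71 1, .sy 19 1 15, .tod, .bs 7 1 41 1, .bs 2 5 3 2, .bs 17 2 2 0,
  .tod, .bs 3 1 97 1, .bs 2 2 73 1, .bs 293 1 2 0, .tod, .bs 5 1 59 1, .bs 2 3 37 1, .bs 3 3 11 1,
  .bs 2 1 149 1, .bs 13 1 23 1, .sy 5 2 12, .bs 7 1 43 1, .bs 2 1 151 1, .bs 3 1 101 1, .bs 2 4 19 1, .bs 5 1 61 1,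
  .tod, .bs 307 1 2 0, .sy 11 1 28, .bs 3 1 103 1, .tod, .bs 311 1 2 0, .sy 13 1 24, .bs 313 1 2 0,
  .bs 2 1 157 1, .sy 5 1 63, .bs 2 2 79 1, .bs 317 1 2 0, .tod, .bs 11 1 29 1, .bs 2 6 5 1, .bs 3 1 107 1,
  .tod, .bs 17 1 19 1, .bs 2 2 3 4, .bs 5 2 13 1, .bs 2 1 163 1, .bs 3 1 109 1, .bs 2 3 41 1, .bs 7 1 47 1,
  .tod, .bs 331 1 2 0, .bs 2 2 83 1, .bs 3 2 37 1, .bs 2 1 167 1, .bs 5 1 67 1, .sy 7 1 48, .bs 337 1 2 0,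
  .bs 2 1 13 2, .bs 3 1 113 1, .sy 17 1 20, .bs 11 1 31 1, .tod, .bs 7 3 2 0, .bs 2 3 43 1, .sy 23 1 15,
  .bs 2 1 173 1, .bs 347 1 2 0, .sy 29 1 12, .bs 349 1 2 0, .tod, .bs 3 3 13 1, .bs 2 5 11 1, .bs 353 1 2 0,
  .tod, .bs 5 1 71 1, .bs 2 2 89 1, .sy 17 1 21, .bs 2 1 179 1, .bs 359 1 2 0, .sp, .bs 19 2 2 0,
  .bs 2 1 181 1, .bs 3 1 11 2, .sy 7 1 52, .bs 5 1 73 1, .tod, .bs 367 1 2 0, .bs 2 4 23 1, .bs 3 2 41 1,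
  .tod, .bs 7 1 53 1, .sy 31 1 12, .bs 373 1 2 0, .tod, .bs 3 1 5 3, .bs 2 3 47 1, .bs 13 1 29 1,
  .tod, .bs 379 1 2 0, .sy 19 1 20, .bs 3 1 127 1, .bs 2 1 191 1, .bs 383 1 2 0, .bs 2 7 3 1, .sy 11 1 35,
  .bs 2 1 193 1, .bs 3 2 43 1, .bs 2 2 97 1, .bs 389 1 2 0, .tod, .bs 17 1 23 1, .bs 2 3 7 2, .bs 3 1 131 1,
  .bs 2 1 197 1, .bs 5 1 79 1, .sy 11 1 36, .bs 397 1 2 0, .bs 2 1 199 1, .sy 19 1 21, .bs 2 4 5 2, .bs 401 1 2 0,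
  .tod, .bs 13 1 31 1, .bs 2 2 101 1, .bs 3 4 5 1, .tod, .bs 11 1 37 1, .sy 17 1 24, .bs 409 1 2 0,
  .tod, .bs 3 1 137 1, .bs 2 2 103 1, .bs 7 1 59 1, .tod, .bs 5 1 83 1, .bs 2 5 13 1, .bs 3 1 139 1,
  .tod, .bs 419 1 2 0, .sy 7 1 60, .bs 421 1 2 0, .bs 2 1 211 1, .bs 3 2 47 1, .bs 2 3 53 1, .bs 5 2 17 1,
  .tod, .bs 7 1 61 1, .bs 2 2 107 1, .sy 13 1 33, .tod, .bs 431 1 2 0, .bs 2 4 3 3, .bs 433 1 2 0,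
  .tod, .sy 29 1 15, .bs 2 2 109 1, .bs 19 1 23 1, .tod, .bs 439 1 2 0, .sy 11 1 40, .bs 3 2 7 2,
  .tod, .bs 443 1 2 0, .sy 37 1 12, .bs 5 1 89 1, .bs 2 1 223 1, .bs 3 1 149 1, .bs 2 6 7 1, .bs 449 1 2 0,
  .tod, .bs 11 1 41 1, .bs 2 2 113 1, .bs 3 1 151 1, .bs 2 1 227 1, .sy 13 1 35, .sy 19 1 24, .bs 457 1 2 0,
  .bs 2 1 229 1, .bs 3 3 17 1, .sy 23 1 20, .bs 461 1 2 0, .tod, .bs 463 1 2 0, .bs 2 4 29 1, .sy 31 1 15,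
  .bs 2 1 233 1, .bs 467 1 2 0, .sy 13 1 36, .bs 7 1 67 1, .tod, .bs 3 1 157 1, .bs 2 3 59 1, .bs 11 1 43 1,
  .tod, .bs 5 2 19 1, .sy 17 1 28, .bs 3 2 53 1, .bs 2 1 239 1, .bs 479 1 2 0, .tw 5 15, .bs 13 1 37 1,
  .bs 2 1 241 1, .sy 23 1 21, .bs 2 2 11 2, .bs 5 1 97 1, .bs 2 1 3 5, .bs 487 1 2 0, .bs 2 3 61 1, .bs 3 1 163 1,
  .tod, .bs 491 1 2 0, .sy 41 1 12, .bs 17 1 29 1, .tod, .sy 11 1 45, .bs 2 4 31 1, .bs 7 1 71 1,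
  .tod, .bs 499 1 2 0, .bs 2 2 5 3, .bs 3 1 167 1, .bs 2 1 251 1, .bs 503 1 2 0, .sp, .bs 5 1 101 1,
  .tod, .bs 3 1 13 2, .bs 2 2 127 1, .bs 509 1 2 0, .tod, .bs 7 1 73 1, .bs 2 9 3 0, .bs 3 3 19 1,
  .bs 2 1 257 1, .bs 5 1 103 1, .sy 43 1 12, .bs 11 1 47 1, .tod, .bs 3 1 173 1, .sy 13 1 40, .bs 521 1 2 0,
  .tod, .bs 523 1 2 0, .bs 2 2 131 1, .sy 7 1 75, .bs 2 1 263 1, .bs 17 1 31 1, .sy 11 1 48, .bs 23 2 2 0,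
  .tod, .bs 3 2 59 1, .sy 19 1 28, .bs 13 1 41 1, .tod, .bs 5 1 107 1, .bs 2 3 67 1, .bs 3 1 179 1,
  .bs 2 1 269 1, .bs 7 2 11 1, .sy 5 1 108, .bs 541 1 2 0, .bs 2 1 271 1, .bs 3 1 181 1, .bs 2 5 17 1, .bs 5 1 109 1,
  .tod, .bs 547 1 2 0, .bs 2 2 137 1, .bs 3 2 61 1, .tod, .bs 19 1 29 1, .sy 23 1 24, .bs 7 1 79 1,
  .bs 2 1 277 1, .sy 37 1 15, .bs 2 2 139 1, .bs 557 1 2 0, .tod, .bs 13 1 43 1, .sy 7 1 80, .sy 17 1 33,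
  .bs 2 1 281 1, .bs 563 1 2 0, .sy 47 1 12, .bs 5 1 113 1, .bs 2 1 283 1, .bs 3 4 7 1, .bs 2 3 71 1, .bs 569 1 2 0,
  .tod, .bs 571 1 2 0, .sy 13 1 44, .bs 3 1 191 1, .tod, .bs 5 2 23 1, .bs 2 6 3 2, .bs 577 1 2 0,
  .bs 2 1 17 2, .bs 3 1 193 1, .sy 29 1 20, .bs 7 1 83 1, .tod, .bs 11 1 53 1, .bs 2 3 73 1, .sy 13 1 45,
  .bs 2 1 293 1, .bs 587 1 2 0, .sy 7 2 12, .bs 19 1 31 1, .tod, .bs 3 1 197 1, .bs 2 4 37 1, .bs 593 1 2 0,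
  .tod, .sy 17 1 35, .bs 2 2 149 1, .bs 3 1 199 1, .tod, .bs 599 1 2 0, .sy 5 2 24, .bs 601 1 2 0,
  .tod, .bs 3 2 67 1, .bs 2 2 151 1, .bs 5 1 11 2, .tod, .bs 607 1 2 0, .bs 2 5 19 1, .sy 29 1 21,
  .tod, .bs 13 1 47 1, .sp, .bs 613 1 2 0, .bs 2 1 307 1, .sy 41 1 15, .sy 11 1 56, .bs 617 1 2 0,
  .tod, .bs 619 1 2 0, .sy 31 1 20, .bs 3 3 23 1, .bs 2 1 311 1, .bs 7 1 89 1, .sy 13 1 48, .bs 5 4 2 0,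
  .bs 2 1 313 1, .sy 19 1 33, .bs 2 2 157 1, .bs 17 1 37 1, .tod, .bs 631 1 2 0, .bs 2 3 79 1, .bs 3 1 211 1,
  .bs 2 1 317 1, .bs 5 1 127 1, .sy 53 1 12, .bs 7 2 13 1, .tod, .bs 3 2 71 1, .bs 2 7 5 1, .bs 641 1 2 0,
  .tod, .bs 643 1 2 0, .sy 23 1 28, .sy 43 1 15, .tod, .bs 647 1 2 0, .bs 2 3 3 4, .bs 11 1 59 1,
  .tod, .sy 31 1 21, .bs 2 2 163 1, .bs 653 1 2 0, .tod, .bs 5 1 131 1, .bs 2 4 41 1, .bs 3 2 73 1,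
  .tod, .bs 659 1 2 0, .sp, .bs 661 1 2 0, .bs 2 1 331 1, .sy 17 1 39, .bs 2 3 83 1, .sy 19 1 35,
  .tod, .bs 23 1 29 1, .bs 2 2 167 1, .bs 3 1 223 1, .tod, .bs 11 1 61 1, .sy 7 1 96, .bs 673 1 2 0,
  .bs 2 1 337 1, .bs 3 3 5 2, .bs 2 2 13 2, .bs 677 1 2 0, .tod, .bs 7 1 97 1, .sy 17 1 40, .bs 3 1 227 1,
  .tod, .bs 683 1 2 0, .sy 19 1 36, .bs 5 1 137 1, .bs 2 1 7 3, .bs 3 1 229 1, .bs 2 4 43 1, .bs 13 1 53 1,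
  .tod, .bs 691 1 2 0, .bs 2 2 173 1, .sy 11 1 63, .bs 2 1 347 1, .bs 5 1 139 1, .sy 29 1 24, .bs 17 1 41 1,
  .bs 2 1 349 1, .bs 3 1 233 1, .sy 5 2 28, .bs 701 1 2 0, .tod, .bs 19 1 37 1, .bs 2 6 11 1, .sy 47 1 15,
  .bs 2 1 353 1, .bs 7 1 101 1, .sy 59 1 12, .bs 709 1 2 0, .tod, .bs 3 2 79 1, .bs 2 3 89 1, .bs 23 1 31 1,
  .tod, .sy 13 1 55, .bs 2 2 179 1, .bs 3 1 239 1, .bs 2 1 359 1, .bs 719 1 2 0, .sp, .bs 7 1 103 1,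
  .bs 2 1 19 2, .bs 3 1 241 1, .bs 2 2 181 1, .bs 5 2 29 1, .tod, .bs 727 1 2 0, .sy 13 1 56, .bs 3 6 2 0,
  .tod, .bs 17 1 43 1, .sy 61 1 12, .bs 733 1 2 0, .bs 2 1 367 1, .sy 7 2 15, .bs 2 5 23 1, .bs 11 1 67 1,
  .tod, .bs 739 1 2 0, .sy 37 1 20, .sy 19 1 39, .tod, .bs 743 1 2 0, .sy 31 1 24, .bs 5 1 149 1,
  .bs 2 1 373 1, .bs 3 2 83 1, .sy 17 1 44, .bs 7 1 107 1, .tod, .bs 751 1 2 0, .bs 2 4 47 1, .bs 3 1 251 1,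
  .tod, .bs 5 1 151 1, .sp, .bs 757 1 2 0, .bs 2 1 379 1, .sy 23 1 33, .sy 19 1 40, .bs 761 1 2 0,
  .tod, .bs 7 1 109 1, .bs 2 2 191 1, .sy 17 1 45, .bs 2 1 383 1, .bs 13 1 59 1, .bs 2 8 3 1, .bs 769 1 2 0,
  .tod, .bs 3 1 257 1, .bs 2 2 193 1, .bs 773 1 2 0, .tod, .bs 5 2 31 1, .bs 2 3 97 1, .sy 37 1 21,
  .bs 2 1 389 1, .bs 19 1 41 1, .sy 13 1 60, .bs 11 1 71 1, .tod, .bs 3 3 29 1, .bs 2 4 7 2, .bs 5 1 157 1,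
  .tod, .bs 787 1 2 0, .bs 2 2 197 1, .bs 3 1 263 1, .tod, .bs 7 1 113 1, .sy 11 1 72, .bs 13 1 61 1,
  .bs 2 1 397 1, .sy 53 1 15, .bs 2 2 199 1, .bs 797 1 2 0, .tod, .bs 17 1 47 1, .bs 2 5 5 2, .bs 3 2 89 1,
  .bs 2 1 401 1, .bs 11 1 73 1, .sy 67 1 12, .sy 23 1 35, .tod, .bs 3 1 269 1, .bs 2 3 101 1, .bs 809 1 2 0,
  .tod, .bs 811 1 2 0, .sy 29 1 28, .bs 3 1 271 1, .tod, .bs 5 1 163 1, .sy 17 1 48, .bs 19 1 43 1,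
  .bs 2 1 409 1, .sy 13 1 63, .sy 41 1 20, .bs 821 1 2 0, .tod, .bs 823 1 2 0, .bs 2 3 103 1, .sy 11 1 75,
  .tod, .bs 827 1 2 0, .sy 23 1 36, .bs 829 1 2 0, .tod, .bs 3 1 277 1, .bs 2 6 13 1, .bs 7 2 17 1,
  .tod, .bs 5 1 167 1, .sy 19 1 44, .bs 3 3 31 1, .bs 2 1 419 1, .bs 839 1 2 0, .sy 7 1 120, .bs 29 2 2 0,
  .bs 2 1 421 1, .bs 3 1 281 1, .bs 2 2 211 1, .bs 5 1 13 2, .tod, .bs 7 1 11 2, .bs 2 4 53 1, .bs 3 1 283 1,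
  .tod, .bs 23 1 37 1, .sy 71 1 12, .bs 853 1 2 0, .tod, .sy 19 1 45, .bs 2 3 107 1, .bs 857 1 2 0,
  .tod, .bs 859 1 2 0, .sy 43 1 20, .sy 41 1 21, .bs 2 1 431 1, .bs 863 1 2 0, .bs 2 5 3 3, .bs 5 1 173 1,
  .bs 2 1 433 1, .bs 3 1 17 2, .sy 31 1 28, .bs 11 1 79 1, .tod, .bs 13 1 67 1, .bs 2 3 109 1, .bs 3 2 97 1,
  .tod, .bs 5 3 7 1, .sy 73 1 12, .bs 877 1 2 0, .bs 2 1 439 1, .bs 3 1 293 1, .sy 11 1 80, .bs 881 1 2 0,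
  .tod, .bs 883 1 2 0, .sy 17 1 52, .sy 59 1 15, .bs 2 1 443 1, .bs 887 1 2 0, .sy 37 1 24, .bs 7 1 127 1,
  .tod, .bs 3 4 11 1, .bs 2 2 223 1, .bs 19 1 47 1, .tod, .bs 5 1 179 1, .bs 2 7 7 1, .sy 23 1 39,
  .bs 2 1 449 1, .bs 29 1 31 1, .sy 5 2 36, .bs 17 1 53 1, .tod, .sy 43 1 21, .bs 2 3 113 1, .bs 5 1 181 1,
  .tod, .bs 907 1 2 0, .bs 2 2 227 1, .bs 3 2 101 1, .tod, .bs 911 1 2 0, .sy 19 1 48, .bs 11 1 83 1,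
  .bs 2 1 457 1, .sy 61 1 15, .bs 2 2 229 1, .bs 7 1 131 1, .tod, .bs 919 1 2 0, .sy 23 1 40, .bs 3 1 307 1,
  .bs 2 1 461 1, .bs 13 1 71 1, .sy 11 1 84, .bs 5 2 37 1, .bs 2 1 463 1, .bs 3 2 103 1, .bs 2 5 29 1, .bs 929 1 2 0,
  .tod, .bs 7 2 19 1, .bs 2 2 233 1, .bs 3 1 311 1, .bs 2 1 467 1, .sy 17 1 55, .sy 13 1 72, .bs 937 1 2 0,
  .tod, .bs 3 1 313 1, .sy 47 1 20, .bs 941 1 2 0, .tod, .bs 23 1 41 1, .bs 2 4 59 1, .sy 5 1 189,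
  .tod, .bs 947 1 2 0, .sy 79 1 12, .bs 13 1 73 1, .tod, .bs 3 1 317 1, .sy 17 1 56, .bs 953 1 2 0,
  .tod, .bs 5 1 191 1, .bs 2 2 239 1, .sy 29 1 33, .bs 2 1 479 1, .bs 7 1 137 1, .tw 6 15, .bs 31 2 2 0,
  .tod, .bs 3 2 107 1, .bs 2 2 241 1, .bs 5 1 193 1, .tod, .bs 967 1 2 0, .bs 2 3 11 2, .sy 19 1 51,
  .tod, .bs 971 1 2 0, .bs 2 2 3 5, .bs 7 1 139 1, .bs 2 1 487 1, .sy 13 1 75, .bs 2 4 61 1, .bs 977 1 2 0,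
  .tod, .bs 11 1 89 1, .sy 7 2 20, .bs 3 2 109 1, .bs 2 1 491 1, .bs 983 1 2 0, .sy 41 1 24, .bs 5 1 197 1,
  .tod, .sy 47 1 21, .sy 19 1 52, .bs 23 1 43 1, .tod, .bs 991 1 2 0, .bs 2 5 31 1, .bs 3 1 331 1,
  .tod, .bs 5 1 199 1, .sy 83 1 12, .bs 997 1 2 0, .bs 2 1 499 1, .bs 3 3 37 1, .bs 2 3 5 3, .sy 13 1 77,
  .tod, .bs 17 1 59 1, .bs 2 2 251 1, .sy 67 1 15, .bs 2 1 503 1, .bs 19 1 53 1, .sp, .bs 1009 1 2 0,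
  .tod, .bs 3 1 337 1, .sy 23 1 44, .bs 1013 1 2 0, .tod, .sy 29 1 35, .bs 2 3 127 1, .bs 3 2 113 1,
  .bs 2 1 509 1, .bs 1019 1 2 0, .sy 17 1 60, .bs 1021 1 2 0, .tod, .sy 31 1 33, .bs 2 10 3 0, .bs 5 2 41 1,
  .tod, .bs 13 1 79 1, .bs 2 2 257 1, .bs 3 1 7 3, .tod, .bs 1031 1 2 0, .sy 43 1 24, .bs 1033 1 2 0,
  .tod, .sy 23 1 45, .sy 37 1 28, .bs 17 1 61 1, .tod, .bs 1039 1 2 0, .sp, .bs 3 1 347 1,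
  .bs 2 1 521 1, .bs 7 1 149 1, .sy 29 1 36, .sy 19 1 55, .bs 2 1 523 1, .bs 3 1 349 1, .bs 2 3 131 1, .bs 1049 1 2 0,
  .tod, .bs 1051 1 2 0, .bs 2 2 263 1, .bs 3 4 13 1, .tod, .bs 5 1 211 1, .sy 11 1 96, .bs 7 1 151 1,
  .bs 2 1 23 2, .bs 3 1 353 1, .sy 53 1 20, .bs 1061 1 2 0, .tod, .bs 1063 1 2 0, .sy 19 1 56, .sy 71 1 15,
  .tod, .bs 11 1 97 1, .sy 89 1 12, .bs 1069 1 2 0, .tod, .sy 17 1 63, .bs 2 4 67 1, .bs 29 1 37 1,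
  .tod, .bs 5 2 43 1, .bs 2 2 269 1, .bs 3 1 359 1, .tod, .bs 13 1 83 1, .sp, .bs 23 1 47 1,
  .bs 2 1 541 1, .bs 3 1 19 2, .bs 2 2 271 1, .sy 31 1 35, .tod, .bs 1087 1 2 0, .bs 2 6 17 1, .bs 3 2 11 2,
  .tod, .bs 1091 1 2 0, .sp]

theorem certTable_length : certTable.length = 1091 := by decide +kernel

theorem certTable_ok : checkFrom 2 certTable = true := by decide +kernel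

/-- A nonabelian finite simple group of order at most `1092` has one of twelve orders. -/
theorem card_mem_specials {G : Type*} [Group G] [Finite G] [IsSimpleGroup G]
    (hnc : ¬ IsMulCommutative G) (h : Nat.card G ≤ 1092) : Nat.card G ∈ specials := by
  have h2 : 2 ≤ Nat.card G := by
    have := Finite.one_lt_card (α := G)
    omega
  have hi : Nat.card G - 2 < certTable.length := by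
    rw [certTable_length]
    omega
  have key := checkFrom_sound certTable 2 certTable_ok (Nat.card G - 2) hi
  have h3 : 2 + (Nat.card G - 2) = Nat.card G := by omega
  rw [h3] at key
  exact check_sound hnc key rfl

end Cfsg.Agent.Lib.Helper17
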