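import Mathlib
import Cfsg.Agent.Lib.Helper17.InvolTools
import Cfsg.Agent.Lib.Helper17.SylowConj
import Cfsg.Agent.Lib.Helper17.FixedPoints
import Cfsg.Agent.Lib.Helper17.ElementCount
import Cfsg.Agent.Lib.Helper17.NormCent

set_option autoImplicit false

namespace Cfsg.Agent.Lib.Helper17

open Subgroup MulAction

variable {G : Type*} [Group G]

/-- Distinct Sylow `p`-subgroups of prime order: `P ⊓ N(Q) = ⊥`. -/
theorem inf_normalizer_eq_bot_of_card_prime [Finite G] {p : ℕ} [hp : Fact p.Prime]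
    (P Q : Sylow p G) (hP : Nat.card ↥(P : Subgroup G) = p) (hne : P ≠ Q) :
    (P : Subgroup G) ⊓ normalizer ((Q : Subgroup G) : Set G) = ⊥ := by
  by_contra h
  have hdvd : Nat.card ↥((P : Subgroup G) ⊓ normalizer ((Q : Subgroup G) : Set G) : Subgroup G)
      ∣ p := by
    have := Subgroup.card_dvd_of_le (inf_le_left :
      (P : Subgroup G) ⊓ normalizer ((Q : Subgroup G) : Set G) ≤ (P : Subgroup G))
    rwa [hP] at this
  rcases (Nat.dvd_prime hp.out).mp hdvd with h1 | h1
  · exact h (Subgroup.card_eq_one.mp h1)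
  · have h2 : (P : Subgroup G) ⊓ normalizer ((Q : Subgroup G) : Set G) = (P : Subgroup G) :=
      Subgroup.eq_of_le_of_card_ge inf_le_left (by rw [h1, hP])
    have hle : (P : Subgroup G) ≤ normalizer ((Q : Subgroup G) : Set G) := by
      rw [← h2]; exact inf_le_right
    exact hne (sylow_eq_of_le_normalizer Q P hle)

/-- Key lemma: let `P ≠ Q` be Sylow `p`-subgroups of prime order, `x` normalizing `P` and `Q`
with `C_P(x) = 1`.  If `g ∈ P` and `x` also normalizes `g • Q` then `g = 1`. -/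
theorem eq_one_of_mem_normalizer_smul [Finite G] {p : ℕ} [hp : Fact p.Prime] (P Q : Sylow p G)
    (hP : Nat.card ↥(P : Subgroup G) = p) (hne : P ≠ Q) (x : G)
    (hxP : x ∈ normalizer ((P : Subgroup G) : Set G))
    (hcent : ∀ g ∈ (P : Subgroup G), g * x = x * g → g = 1)
    (hxQ : x ∈ normalizer ((Q : Subgroup G) : Set G))
    (g : G) (hg : g ∈ (P : Subgroup G))
    (hxgQ : x ∈ normalizer (((g • Q : Sylow p G) : Subgroup G) : Set G)) : g = 1 := by
  have h1 : x • (g • Q) = g • Q := Sylow.smul_eq_iff_mem_normalizer.mpr hxgQ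
  have h2 : (g⁻¹ * x * g) • Q = Q := by
    rw [mul_smul, mul_smul, h1, ← mul_smul, inv_mul_cancel, one_smul]
  have h3 : g⁻¹ * x * g ∈ normalizer ((Q : Subgroup G) : Set G) :=
    Sylow.smul_eq_iff_mem_normalizer.mp h2
  have h4 : g⁻¹ * x * g * x⁻¹ ∈ normalizer ((Q : Subgroup G) : Set G) :=
    Subgroup.mul_mem _ h3 (Subgroup.inv_mem _ hxQ)
  have h5 : g⁻¹ * x * g * x⁻¹ ∈ (P : Subgroup G) := by
    have h6 : x * g * x⁻¹ ∈ (P : Subgroup G) := (mem_normalizer_iff.mp hxP g).mp hg
    have h7 : g⁻¹ * x * g * x⁻¹ = g⁻¹ * (x * g * x⁻¹) := by group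
    rw [h7]
    exact Subgroup.mul_mem _ (Subgroup.inv_mem _ hg) h6
  have h8 : g⁻¹ * x * g * x⁻¹ ∈
      ((P : Subgroup G) ⊓ normalizer ((Q : Subgroup G) : Set G) : Subgroup G) := ⟨h5, h4⟩
  rw [inf_normalizer_eq_bot_of_card_prime P Q hP hne, Subgroup.mem_bot] at h8
  apply hcent g hg
  have h9 : g⁻¹ * x * g = x := by
    have := congrArg (· * x) h8
    simpa [mul_assoc] using this
  calc g * x = g * (g⁻¹ * x * g) := by rw [h9]
    _ = x * g := by group

/-- If `x` normalizes the Sylow `p`-subgroup `P` of prime order `p` and `C_P(x) = 1`, then `x`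
normalizes at most `1 + (n_p - 1) / p` Sylow `p`-subgroups. -/
theorem card_fixed_sylow_le [Finite G] {p : ℕ} [hp : Fact p.Prime] (P : Sylow p G)
    (hP : Nat.card ↥(P : Subgroup G) = p) (x : G)
    (hxP : x ∈ normalizer ((P : Subgroup G) : Set G))
    (hcent : ∀ g ∈ (P : Subgroup G), g * x = x * g → g = 1) :
    p * (Nat.card {Q : Sylow p G // x ∈ normalizer ((Q : Subgroup G) : Set G)} - 1) ≤
      Nat.card (Sylow p G) - 1 := by
  set Fix := {Q : Sylow p G // x ∈ normalizer ((Q : Subgroup G) : Set G)} with hFix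
  let P₀ : Fix := ⟨P, hxP⟩
  have hprod : Nat.card ({q : Fix // q ≠ P₀} × ↥(P : Subgroup G)) = p * (Nat.card Fix - 1) := by
    rw [Nat.card_prod, card_subtype_ne, hP, mul_comm]
  have hcod : Nat.card {Q : Sylow p G // Q ≠ P} = Nat.card (Sylow p G) - 1 := card_subtype_ne P
  rw [← hprod, ← hcod]
  let φ : {q : Fix // q ≠ P₀} × ↥(P : Subgroup G) → {Q : Sylow p G // Q ≠ P} := fun a =>
    ⟨(a.2 : G) • (a.1.1.1 : Sylow p G), by
      intro h
      apply a.1.2
      apply Subtype.ext
      show a.1.1.1 = P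
      have h1 : (a.2 : G) • P = P := Sylow.smul_eq_iff_mem_normalizer.mpr (le_normalizer a.2.2)
      have h2 : (a.2 : G) • (a.1.1.1 : Sylow p G) = (a.2 : G) • P := by rw [h, h1]
      exact smul_left_cancel _ h2⟩
  apply Nat.card_le_card_of_injective φ
  rintro ⟨⟨⟨Q, hQ⟩, hQne⟩, ⟨g, hg⟩⟩ ⟨⟨⟨Q', hQ'⟩, hQne'⟩, ⟨g', hg'⟩⟩ hab
  have hab' : g • Q = g' • Q' := congrArg Subtype.val hab
  have hQP : P ≠ Q := by
    intro h
    apply hQne
    apply Subtype.ext
    exact h.symm
  have h1 : (g'⁻¹ * g) • Q = Q' := by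
    rw [mul_smul, hab', ← mul_smul, inv_mul_cancel, one_smul]
  have h2 : g'⁻¹ * g = 1 := by
    apply eq_one_of_mem_normalizer_smul P Q hP hQP x hxP hcent hQ (g'⁻¹ * g)
      (Subgroup.mul_mem _ (Subgroup.inv_mem _ hg') hg)
    rw [h1]
    exact hQ'
  have h3 : g = g' := by
    have := congrArg (g' * ·) h2
    simpa using this
  subst h3
  have h4 : Q = Q' := smul_left_cancel _ hab'
  subst h4
  rfl

/-- `|C(x)| ≤ |C(x) ∩ N(P)| * #{Sylow subgroups normalized by x}` when `x` normalizes `P`. -/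
theorem card_centralizer_le_of_mem_normalizer [Finite G] {p : ℕ} [hp : Fact p.Prime]
    (P : Sylow p G) (x : G) (hxP : x ∈ normalizer ((P : Subgroup G) : Set G)) :
    Nat.card ↥(centralizer ({x} : Set G)) ≤
      Nat.card ↥(centralizer ({x} : Set G) ⊓ normalizer ((P : Subgroup G) : Set G) : Subgroup G) *
        Nat.card {Q : Sylow p G // x ∈ normalizer ((Q : Subgroup G) : Set G)} := by
  set C := centralizer ({x} : Set G) with hC
  have h1 : Nat.card ↥(MulAction.orbit ↥C P) * Nat.card ↥(MulAction.stabilizer ↥C P) =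
      Nat.card ↥C := by
    have h0 := Subgroup.card_mul_index (MulAction.stabilizer ↥C P)
    rw [MulAction.index_stabilizer, ← Nat.card_coe_set_eq] at h0
    rw [mul_comm]; exact h0
  have h2 : Nat.card ↥(MulAction.stabilizer ↥C P) =
      Nat.card ↥(C ⊓ normalizer ((P : Subgroup G) : Set G) : Subgroup G) := by
    apply Nat.card_congr
    refine ⟨fun c => ⟨c.1.1, c.1.2, ?_⟩, fun c => ⟨⟨c.1, c.2.1⟩, ?_⟩, fun c => rfl, fun c => rfl⟩
    · have := c.2
      rw [MulAction.mem_stabilizer_iff] at this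
      exact Sylow.smul_eq_iff_mem_normalizer.mp this
    · rw [MulAction.mem_stabilizer_iff]
      exact Sylow.smul_eq_iff_mem_normalizer.mpr c.2.2
  have h3 : Nat.card ↥(MulAction.orbit ↥C P) ≤
      Nat.card {Q : Sylow p G // x ∈ normalizer ((Q : Subgroup G) : Set G)} := by
    let ψ : ↥(MulAction.orbit ↥C P) → {Q : Sylow p G // x ∈ normalizer ((Q : Subgroup G) : Set G)} :=
      fun Q => ⟨Q.1, by
        obtain ⟨c, hc⟩ := Q.2
        have hc' : (c : G) • P = Q.1 := hc
        rw [← hc']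
        apply Sylow.smul_eq_iff_mem_normalizer.mp
        have hcx : (c : G) * x = x * (c : G) := by
          have := mem_centralizer_iff.mp c.2 x (Set.mem_singleton x)
          exact this.symm
        rw [← mul_smul, ← hcx, mul_smul, Sylow.smul_eq_iff_mem_normalizer.mpr hxP]⟩
    apply Nat.card_le_card_of_injective ψ
    intro a b hab
    apply Subtype.ext
    have := congrArg Subtype.val hab
    exact this
  rw [← h1, h2, mul_comm]
  exact Nat.mul_le_mul_left _ h3

/-- In a simple group, a Sylow `p`-subgroup `P` of order `p` with `|N(P)| = p * q`, `q` prime,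
is self-centralizing. -/
theorem centralizer_sylow_eq_of_card_normalizer [Finite G] [IsSimpleGroup G] {p q : ℕ}
    [hp : Fact p.Prime] (hq : q.Prime) (P : Sylow p G) (hP : Nat.card ↥(P : Subgroup G) = p)
    (hG : Nat.card G ≠ p) (hN : Nat.card ↥(normalizer ((P : Subgroup G) : Set G)) = p * q) :
    centralizer ((P : Subgroup G) : Set G) = (P : Subgroup G) := by
  have hcyc : IsCyclic ↥(P : Subgroup G) := isCyclic_of_prime_card hP
  have hPC : (P : Subgroup G) ≤ centralizer ((P : Subgroup G) : Set G) := by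
    intro a ha
    rw [mem_centralizer_iff]
    intro b hb
    have := hcyc.isMulCommutative.is_comm.comm ⟨b, hb⟩ ⟨a, ha⟩
    exact congrArg Subtype.val this
  have hCN : centralizer ((P : Subgroup G) : Set G) ≤ normalizer ((P : Subgroup G) : Set G) :=
    Subgroup.centralizer_le_normalizer _
  have h1 : Nat.card ↥(centralizer ((P : Subgroup G) : Set G)) ∣ p * q := by
    rw [← hN]; exact Subgroup.card_dvd_of_le hCN
  have h2 : p ∣ Nat.card ↥(centralizer ((P : Subgroup G) : Set G)) := by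
    have := Subgroup.card_dvd_of_le hPC
    rwa [hP] at this
  obtain ⟨d, hd⟩ := h2
  rw [hd] at h1
  have h3 : d ∣ q := Nat.dvd_of_mul_dvd_mul_left hp.out.pos h1
  have hne1 : (P : Subgroup G) ≠ ⊥ := by
    intro h
    rw [h, Subgroup.card_bot] at hP
    exact hp.out.one_lt.ne hP
  have hne2 : (P : Subgroup G) ≠ ⊤ := by
    intro h
    rw [h, Subgroup.card_top] at hP
    exact hG hP
  rcases (Nat.dvd_prime hq).mp h3 with h | h
  · symm
    apply Subgroup.eq_of_le_of_card_ge hPC
    rw [hd, h, hP, mul_one]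
  · exfalso
    apply not_normalizer_le_centralizer_of_simple P hne1 hne2
    have h4 : centralizer ((P : Subgroup G) : Set G) = normalizer ((P : Subgroup G) : Set G) := by
      apply Subgroup.eq_of_le_of_card_ge hCN
      rw [hd, h, hN]
    rw [h4]

/-- If `C(P) = P` for a Sylow subgroup of prime order and `x ∉ P`, then `C_P(x) = 1`. -/
theorem eq_one_of_commute_of_centralizer_eq [Finite G] {p : ℕ} [hp : Fact p.Prime] (P : Sylow p G)
    (hP : Nat.card ↥(P : Subgroup G) = p)
    (hC : centralizer ((P : Subgroup G) : Set G) = (P : Subgroup G)) (x : G)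
    (hx : x ∉ (P : Subgroup G)) : ∀ g ∈ (P : Subgroup G), g * x = x * g → g = 1 := by
  intro g hg hgx
  by_contra hg1
  apply hx
  rw [← hC, mem_centralizer_iff]
  have hz := zpowers_eq_of_mem_of_card_prime (P : Subgroup G) hP g hg hg1
  intro a ha
  rw [← hz] at ha
  have h1 : zpowers g ≤ centralizer ({x} : Set G) := by
    rw [zpowers_le, mem_centralizer_iff]
    intro y hy
    rw [Set.mem_singleton_iff] at hy
    rw [hy]
    exact hgx.symm
  have h2 := mem_centralizer_iff.mp (h1 ha) x (Set.mem_singleton x)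
  exact h2.symm

end Cfsg.Agent.Lib.Helper17
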