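import Mathlib
import Cfsg.Agent.Lib.Helper17.CosetTools
import Cfsg.Agent.Lib.Helper17.MiscTools
import Cfsg.Agent.Lib.Helper17.PGroupNorm
import Cfsg.Agent.Lib.Helper17.SylowTools
import Cfsg.Agent.Lib.Helper35.FusionControl

set_option autoImplicit false

namespace Cfsg.Agent.Lib.Helper17

open Subgroup MulAction

section

variable {G : Type*} [Group G]

theorem exists_central_ne_one' [Finite G] {p : ℕ} [Fact p.Prime]
    (S : Subgroup G) (hS : IsPGroup p ↥S) (hc : 1 < Nat.card ↥S) :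
    ∃ z ∈ S, z ≠ 1 ∧ ∀ x ∈ S, z * x = x * z := by
  haveI : Nontrivial ↥S := by
    rw [← Finite.one_lt_card_iff_nontrivial]; exact hc
  haveI := hS.center_nontrivial
  obtain ⟨z', hz'⟩ := exists_ne (1 : ↥(center ↥S))
  refine ⟨((z' : ↥S) : G), (z' : ↥S).2, ?_, ?_⟩
  · intro h1
    apply hz'
    apply Subtype.ext
    apply Subtype.ext
    exact h1
  · intro x hx
    have := Subgroup.mem_center_iff.mp z'.2 ⟨x, hx⟩
    exact (congrArg Subtype.val this).symm

/-- In a group `P` of order `p ^ a`, `a ≥ 2`, every nonidentity element has a centralizer of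
order divisible by `p ^ 2`. -/
theorem sq_dvd_card_inf_centralizer [Finite G] {p a : ℕ} [hp : Fact p.Prime] (P : Subgroup G)
    (hP : Nat.card ↥P = p ^ a) (ha : 2 ≤ a) (y : G) (hy : y ∈ P) (hy1 : y ≠ 1) :
    p ^ 2 ∣ Nat.card ↥(P ⊓ centralizer ({y} : Set G) : Subgroup G) := by
  have hKP : P ⊓ centralizer ({y} : Set G) ≤ P := inf_le_left
  have hyK : y ∈ P ⊓ centralizer ({y} : Set G) :=
    Subgroup.mem_inf.mpr ⟨hy, by rw [mem_centralizer_singleton_iff]⟩
  have hdvd : Nat.card ↥(P ⊓ centralizer ({y} : Set G) : Subgroup G) ∣ p ^ a :=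
    hP ▸ Subgroup.card_dvd_of_le hKP
  obtain ⟨j, hja, hj⟩ := (Nat.dvd_prime_pow hp.out).mp hdvd
  by_contra hcon
  have hj1 : j ≤ 1 := by
    by_contra h
    push Not at h
    exact hcon (hj ▸ pow_dvd_pow p h)
  have hjne0 : j ≠ 0 := by
    rintro rfl
    rw [pow_zero] at hj
    have hbot : P ⊓ centralizer ({y} : Set G) = ⊥ := Subgroup.card_eq_one.mp hj
    rw [hbot] at hyK
    exact hy1 (Subgroup.mem_bot.mp hyK)
  have hj' : j = 1 := by omega
  rw [hj', pow_one] at hj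
  have hPpg : IsPGroup p ↥P := IsPGroup.of_card hP
  have hP1 : 1 < Nat.card ↥P := by
    rw [hP]; exact Nat.one_lt_pow (by omega) hp.out.one_lt
  obtain ⟨z, hzP, hz1, hzc⟩ := exists_central_ne_one' P hPpg hP1
  have hzK : z ∈ P ⊓ centralizer ({y} : Set G) :=
    Subgroup.mem_inf.mpr ⟨hzP, by rw [mem_centralizer_singleton_iff]; exact (hzc y hy).symm⟩
  have h1 := zpowers_eq_of_mem_of_card_prime _ hj z hzK hz1
  have hyz : y ∈ zpowers z := by rw [h1]; exact hyK
  obtain ⟨k, hk⟩ := mem_zpowers_iff.mp hyz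
  have hall : P ≤ centralizer ({y} : Set G) := by
    intro x hx
    rw [mem_centralizer_singleton_iff, ← hk]
    have : Commute z x := hzc x hx
    exact (this.zpow_left k).eq
  rw [inf_of_le_left hall, hP] at hj
  have h2 : p ^ 2 ≤ p ^ a := Nat.pow_le_pow_right hp.out.pos ha
  have h3 : p < p ^ 2 := by nlinarith [hp.out.two_le]
  omega

/-- Sylow conjugacy inside a subgroup, in elementwise form. -/
theorem exists_conj_of_card_eq_sylow [Finite G] {p k m : ℕ} [hp : Fact p.Prime]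
    (N K₁ K₂ : Subgroup G) (hN : Nat.card ↥N = p ^ k * m) (hm : ¬ p ∣ m) (h1 : K₁ ≤ N)
    (h2 : K₂ ≤ N) (hc1 : Nat.card ↥K₁ = p ^ k) (hc2 : Nat.card ↥K₂ = p ^ k) :
    ∃ c ∈ N, ∀ x ∈ K₂, c * x * c⁻¹ ∈ K₁ := by
  have hpg1 : IsPGroup p ↥K₁ := IsPGroup.of_card hc1
  have hpg2 : IsPGroup p ↥K₂ := IsPGroup.of_card hc2
  obtain ⟨S₁, hS₁⟩ := exists_sylow_map_ge N K₁ hpg1 h1
  obtain ⟨S₂, hS₂⟩ := exists_sylow_map_ge N K₂ hpg2 h2
  have hS₁c : Nat.card ↥((S₁ : Subgroup ↥N).map N.subtype) = p ^ k := by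
    rw [card_map_subtype]; exact card_sylow_of_card_eq S₁ hN hm
  have hS₂c : Nat.card ↥((S₂ : Subgroup ↥N).map N.subtype) = p ^ k := by
    rw [card_map_subtype]; exact card_sylow_of_card_eq S₂ hN hm
  have e1 : K₁ = (S₁ : Subgroup ↥N).map N.subtype :=
    Subgroup.eq_of_le_of_card_ge hS₁ (by rw [hS₁c, hc1])
  have e2 : K₂ = (S₂ : Subgroup ↥N).map N.subtype :=
    Subgroup.eq_of_le_of_card_ge hS₂ (by rw [hS₂c, hc2])
  obtain ⟨c, hc⟩ := MulAction.exists_smul_eq ↥N S₂ S₁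
  refine ⟨(c : G), c.2, ?_⟩
  intro x hx
  rw [e2] at hx
  obtain ⟨x', hx', rfl⟩ := Subgroup.mem_map.mp hx
  rw [e1]
  refine Subgroup.mem_map.mpr ⟨c * x' * c⁻¹, ?_, by simp⟩
  have h3 : c * x' * c⁻¹ ∈ ((c • S₂ : Sylow p ↥N) : Subgroup ↥N) := by
    rw [mem_smul_sylow_iff]
    have : c⁻¹ * (c * x' * c⁻¹) * c = x' := by group
    rw [this]
    exact hx'
  rw [hc] at h3
  exact h3

/-- A simple group has no Sylow subgroup (other than trivial ones) controlling its own fusion. -/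
theorem not_selfFusion_of_simple [Finite G] [IsSimpleGroup G] {p : ℕ} [hp : Fact p.Prime]
    (P : Sylow p G) (h1 : (P : Subgroup G) ≠ ⊥) (h2 : (P : Subgroup G) ≠ ⊤) :
    ¬ Cfsg.Agent.Lib.Helper35.SelfFusion (P : Subgroup G) := by
  intro hF
  obtain ⟨N, hNn, hNc⟩ := Cfsg.Agent.Lib.Helper35.exists_normal_complement_of_selfFusion P hF
  rcases hNn.eq_bot_or_eq_top with h | h
  · rw [h] at hNc
    exact h2 (Subgroup.isComplement'_bot_left.mp hNc)
  · rw [h] at hNc
    exact h1 (Subgroup.isComplement'_top_left.mp hNc)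

/-- A subgroup of small index is impossible in a noncommutative simple group. -/
theorem false_of_index_le [Finite G] [IsSimpleGroup G] (hnc : ¬ IsMulCommutative G) (k : ℕ)
    (hk : ¬ 2 * Nat.card G ∣ k.factorial) (H : Subgroup G) (h1 : 1 < H.index)
    (hle : H.index ≤ k) : False := by
  have hne : H ≠ ⊤ := by
    intro h
    rw [h, Subgroup.index_top] at h1
    omega
  have h2 := two_mul_card_dvd_factorial_of_simple hnc H hne
  exact hk (h2.trans (Nat.factorial_dvd_factorial hle))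

end

end Cfsg.Agent.Lib.Helper17
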