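import Mathlib
import Cfsg.Agent.Lib.Helper17.InvolTools
import Cfsg.Agent.Lib.Helper17.PGroupNorm
import Cfsg.Agent.Lib.Helper17.NormCent

set_option autoImplicit false

namespace Cfsg.Agent.Lib.Helper17

open Subgroup

variable {G : Type*} [Group G]

/-- Membership of products for a subgroup `V` of index two in `S₂`. -/
theorem mul_mem_iff_of_card_two_mul [Finite G] (S₂ V : Subgroup G) (hV : V ≤ S₂)
    (hidx : Nat.card ↥S₂ = 2 * Nat.card ↥V) (x y : G) (hx : x ∈ S₂) (hy : y ∈ S₂) :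
    x * y ∈ V ↔ (x ∈ V ↔ y ∈ V) := by
  have h1 := card_inf_mul_relIndex V S₂
  rw [inf_of_le_left hV, hidx] at h1
  have hVpos : 0 < Nat.card ↥V := Nat.card_pos
  have h2 : V.relIndex S₂ = 2 := by
    have : Nat.card ↥V * V.relIndex S₂ = Nat.card ↥V * 2 := by rw [h1]; ring
    exact Nat.eq_of_mul_eq_mul_left hVpos this
  have h3 : (V.subgroupOf S₂).index = 2 := h2
  have h4 := mul_mem_iff_of_index_two h3 (a := (⟨x, hx⟩ : ↥S₂)) (b := ⟨y, hy⟩)
  simpa [mem_subgroupOf] using h4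

/-- In a `2`-group `S`, a proper subgroup `S₂` is normalized by some `s ∈ S \ S₂` with
`s * s ∈ S₂`. -/
theorem exists_normalizing_sq_mem [Finite G] (S S₂ : Subgroup G) (hS : IsPGroup 2 ↥S)
    (hlt : S₂ < S) :
    ∃ s ∈ S, s ∈ normalizer (S₂ : Set G) ∧ s ∉ S₂ ∧ s * s ∈ S₂ := by
  classical
  haveI : Fact (Nat.Prime 2) := ⟨Nat.prime_two⟩
  have h1 := lt_inf_normalizer_of_lt S S₂ hS hlt
  obtain ⟨s, hs, hsn⟩ := SetLike.exists_of_lt h1
  have hsS : s ∈ S := (Subgroup.mem_inf.mp hs).1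
  have hsN : s ∈ normalizer (S₂ : Set G) := (Subgroup.mem_inf.mp hs).2
  -- the order of s is a power of two
  obtain ⟨m, hm⟩ := hS ⟨s, hsS⟩
  have hm' : s ^ 2 ^ m = 1 := by
    have := congrArg Subtype.val hm
    simpa using this
  have hex : ∃ k : ℕ, s ^ 2 ^ k ∈ S₂ := ⟨m, by rw [hm']; exact one_mem _⟩
  set k₀ := Nat.find hex with hk₀
  have hk₀spec : s ^ 2 ^ k₀ ∈ S₂ := Nat.find_spec hex
  have hk₀pos : k₀ ≠ 0 := by
    intro h0
    rw [h0, pow_zero, pow_one] at hk₀spec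
    exact hsn hk₀spec
  obtain ⟨j, hj⟩ := Nat.exists_eq_succ_of_ne_zero hk₀pos
  have hjlt : j < k₀ := by omega
  have hjn : ¬ s ^ 2 ^ j ∈ S₂ := Nat.find_min hex hjlt
  refine ⟨s ^ 2 ^ j, Subgroup.pow_mem _ hsS _, Subgroup.pow_mem _ hsN _, hjn, ?_⟩
  have hpow : 2 ^ j + 2 ^ j = 2 ^ k₀ := by rw [hj, pow_succ]; ring
  rw [← pow_add, hpow]
  exact hk₀spec

/-- **Two-local lemma.** Let `S` be a `2`-group, `S₂ < S` abelian of order `8`, `V ≤ S₂` of
order `4`, and suppose every `s ∈ S` commuting with a non-identity element of `V` lies in `S₂`.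
Then we have a contradiction. -/
theorem false_of_two_local [Finite G] (S S₂ V : Subgroup G) (hS : IsPGroup 2 ↥S) (hlt : S₂ < S)
    (hab : ∀ x ∈ S₂, ∀ y ∈ S₂, x * y = y * x) (hV : V ≤ S₂) (hS₂ : Nat.card ↥S₂ = 8)
    (hV4 : Nat.card ↥V = 4)
    (hcent : ∀ t ∈ V, t ≠ 1 → ∀ s ∈ S, s * t = t * s → s ∈ S₂) : False := by
  classical
  obtain ⟨s, hsS, hsN, hsn, hss⟩ := exists_normalizing_sq_mem S S₂ hS hlt
  have hidx : Nat.card ↥S₂ = 2 * Nat.card ↥V := by rw [hS₂, hV4]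
  have hmul := mul_mem_iff_of_card_two_mul S₂ V hV hidx
  -- conjugation by s on S₂
  have hσ : ∀ x ∈ S₂, s * x * s⁻¹ ∈ S₂ := fun x hx => (mem_normalizer_iff.mp hsN x).mp hx
  have hσσ : ∀ x ∈ S₂, s * (s * x * s⁻¹) * s⁻¹ = x := by
    intro x hx
    have h1 : s * (s * x * s⁻¹) * s⁻¹ = (s * s) * x * (s * s)⁻¹ := by group
    rw [h1, hab (s * s) hss x hx]
    group
  have hfix : ∀ t ∈ V, t ≠ 1 → s * t * s⁻¹ ≠ t := by
    intro t ht ht1 heq
    apply hsn
    apply hcent t ht ht1 s hsS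
    calc s * t = s * t * s⁻¹ * s := by group
      _ = t * s := by rw [heq]
  by_cases hA : ∃ v ∈ V, v * v ≠ 1
  · -- V cyclic of order four
    obtain ⟨v, hvV, hv2⟩ := hA
    have hv4 : v ^ 4 = 1 := by
      have := pow_card_eq_one' (G := ↥V) (x := ⟨v, hvV⟩)
      rw [hV4] at this
      have := congrArg Subtype.val this
      simpa using this
    have hvo : orderOf v = 4 := by
      have hd : orderOf v ∣ 4 := orderOf_dvd_of_pow_eq_one hv4
      have hn2 : ¬ orderOf v ∣ 2 := by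
        intro h2
        apply hv2
        have := orderOf_dvd_iff_pow_eq_one.mp h2
        rwa [pow_two] at this
      have hd' : orderOf v ∣ 2 ^ 2 := by norm_num; exact hd
      obtain ⟨i, hi, hio⟩ := (Nat.dvd_prime_pow Nat.prime_two).mp hd'
      interval_cases i
      · exfalso; apply hn2; rw [hio]; norm_num
      · exfalso; apply hn2; rw [hio]; norm_num
      · rw [hio]; norm_num
    have hzV : zpowers v = V := by
      apply Subgroup.eq_of_le_of_card_ge
      · rw [zpowers_le]; exact hvV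
      · rw [Nat.card_zpowers, hvo, hV4]
    set t := v * v with ht
    have htV : t ∈ V := V.mul_mem hvV hvV
    -- σ(t) is an involution of V
    have hy : s * v * s⁻¹ ∈ S₂ := hσ v (hV hvV)
    have hσt : s * t * s⁻¹ = (s * v * s⁻¹) * (s * v * s⁻¹) := by rw [ht]; group
    have hσtV : s * t * s⁻¹ ∈ V := by
      rw [hσt, hmul _ _ hy hy]
    have hσt1 : s * t * s⁻¹ ≠ 1 := by
      intro h1
      apply hv2
      have : t = s⁻¹ * (s * t * s⁻¹) * s := by group
      rw [this, h1]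
      group
    have hσt2 : (s * t * s⁻¹) * (s * t * s⁻¹) = 1 := by
      have h1 : (s * t * s⁻¹) * (s * t * s⁻¹) = s * (t * t) * s⁻¹ := by group
      have h2 : t * t = 1 := by
        rw [ht, ← hv4]
        simp only [pow_succ, pow_zero, one_mul, mul_assoc]
      rw [h1, h2]
      group
    -- the only involution of ⟨v⟩ is v²
    have hfin : IsOfFinOrder v := isOfFinOrder_of_finite v
    rw [← hzV, hfin.mem_zpowers_iff_mem_range_orderOf, hvo] at hσtV
    simp only [Finset.mem_image, Finset.mem_range] at hσtV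
    obtain ⟨k, hk, hkw⟩ := hσtV
    have hcontra : s * t * s⁻¹ = t := by
      interval_cases k
      · rw [pow_zero] at hkw
        exact absurd hkw.symm hσt1
      · exfalso
        rw [pow_one] at hkw
        rw [← hkw] at hσt2
        exact hv2 hσt2
      · rw [← hkw, ht, pow_two]
      · exfalso
        rw [← hkw] at hσt2
        apply hv2
        have h3 : v ^ 3 * v ^ 3 = v ^ 4 * (v * v) := by
          simp only [pow_succ, pow_zero, one_mul, mul_assoc]
        rw [h3, hv4, one_mul] at hσt2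
        exact hσt2
    exact hfix t htV hv2 hcontra
  · -- V elementary abelian
    push Not at hA
    -- elements of V
    obtain ⟨t₁, ht₁V, ht₁⟩ : ∃ t₁ ∈ V, t₁ ≠ 1 := by
      by_contra hcon
      push Not at hcon
      have : V = ⊥ := by
        rw [Subgroup.eq_bot_iff_forall]
        exact hcon
      rw [this, Subgroup.card_bot] at hV4
      omega
    obtain ⟨t₂, ht₂V, ht₂A⟩ : ∃ t₂ ∈ V, t₂ ∉ zpowers t₁ := by
      by_contra hcon
      push Not at hcon
      have hle : V ≤ zpowers t₁ := hcon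
      have := Subgroup.card_le_of_le hle
      have ho : orderOf t₁ = 2 := orderOf_eq_prime (by rw [pow_two]; exact hA t₁ ht₁V) ht₁
      rw [Nat.card_zpowers, ho, hV4] at this
      omega
    have ht₂ : t₂ ≠ 1 := fun h1 => ht₂A (h1 ▸ one_mem _)
    have ht₁₂ : t₁ * t₂ ≠ 1 := by
      intro h1
      apply ht₂A
      have : t₂ = t₁⁻¹ := (eq_inv_of_mul_eq_one_right h1)
      rw [this]
      exact Subgroup.inv_mem _ (mem_zpowers t₁)
    have key : ∀ t ∈ V, t ≠ 1 → t * (s * t * s⁻¹) ∉ V := by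
      intro t htV ht1 hyV
      have htS₂ : t ∈ S₂ := hV htV
      have hσtS₂ := hσ t htS₂
      have hy1 : t * (s * t * s⁻¹) ≠ 1 := by
        intro h1
        apply hfix t htV ht1
        have h2 : s * t * s⁻¹ = t⁻¹ := eq_inv_of_mul_eq_one_right h1
        rw [h2]
        exact inv_eq_of_mul_eq_one_right (hA t htV)
      have hyfix : s * (t * (s * t * s⁻¹)) * s⁻¹ = t * (s * t * s⁻¹) := by
        have h1 : s * (t * (s * t * s⁻¹)) * s⁻¹ = (s * t * s⁻¹) * (s * (s * t * s⁻¹) * s⁻¹) := by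
          group
        rw [h1, hσσ t htS₂]
        exact hab _ hσtS₂ _ htS₂
      exact hfix _ hyV hy1 hyfix
    have h1 := key t₁ ht₁V ht₁
    have h2 := key t₂ ht₂V ht₂
    have h3 := key (t₁ * t₂) (V.mul_mem ht₁V ht₂V) ht₁₂
    apply h3
    have ht₁S := hV ht₁V
    have ht₂S := hV ht₂V
    have hσ₁ := hσ t₁ ht₁S
    have hσ₂ := hσ t₂ ht₂S
    have hprod : t₁ * t₂ * (s * (t₁ * t₂) * s⁻¹) =
        (t₁ * (s * t₁ * s⁻¹)) * (t₂ * (s * t₂ * s⁻¹)) := by
      have e1 : s * (t₁ * t₂) * s⁻¹ = (s * t₁ * s⁻¹) * (s * t₂ * s⁻¹) := by group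
      rw [e1]
      have e2 : t₂ * (s * t₁ * s⁻¹) = (s * t₁ * s⁻¹) * t₂ := hab _ ht₂S _ hσ₁
      calc t₁ * t₂ * ((s * t₁ * s⁻¹) * (s * t₂ * s⁻¹))
          = t₁ * (t₂ * (s * t₁ * s⁻¹)) * (s * t₂ * s⁻¹) := by group
        _ = t₁ * ((s * t₁ * s⁻¹) * t₂) * (s * t₂ * s⁻¹) := by rw [e2]
        _ = (t₁ * (s * t₁ * s⁻¹)) * (t₂ * (s * t₂ * s⁻¹)) := by group
    rw [hprod, hmul _ _ (S₂.mul_mem ht₁S hσ₁) (S₂.mul_mem ht₂S hσ₂)]
    exact ⟨fun h => absurd h h1, fun h => absurd h h2⟩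

end Cfsg.Agent.Lib.Helper17
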