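import Mathlib
import Cfsg.Agent.Lib.Helper17.ActionCounts
import Cfsg.Agent.Lib.Helper17.TwoLocal
import Cfsg.Agent.Lib.Helper17.CosetTools

set_option autoImplicit false

namespace Cfsg.Agent.Lib.Helper17

open Subgroup MulAction
open scoped commutatorElement

section

variable {G : Type*} [Group G]

/-- An involution normalizing a commutative subgroup and centralizing no nontrivial element of
it inverts the subgroup. -/
theorem inverts_of_fpf (P : Subgroup G) (hcomm : ∀ a ∈ P, ∀ b ∈ P, a * b = b * a) (τ : G)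
    (hτN : τ ∈ normalizer (P : Set G)) (hτ : τ * τ = 1)
    (hfpf : ∀ x ∈ P, x * τ = τ * x → x = 1) : ∀ x ∈ P, τ * x * τ⁻¹ = x⁻¹ := by
  intro x hx
  have hx' : τ * x * τ⁻¹ ∈ P := (mem_normalizer_iff.mp hτN x).mp hx
  have hτinv : τ⁻¹ = τ := inv_eq_of_mul_eq_one_left hτ
  have hz : x * (τ * x * τ⁻¹) ∈ P := P.mul_mem hx hx'
  have h1 : τ * (x * (τ * x * τ⁻¹)) * τ⁻¹ = x * (τ * x * τ⁻¹) := by
    calc τ * (x * (τ * x * τ⁻¹)) * τ⁻¹ = (τ * x * τ⁻¹) * ((τ * τ) * x * (τ⁻¹ * τ⁻¹)) := by group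
      _ = (τ * x * τ⁻¹) * x := by rw [hτinv, hτ]; group
      _ = x * (τ * x * τ⁻¹) := hcomm _ hx' _ hx
  have h2 : x * (τ * x * τ⁻¹) * τ = τ * (x * (τ * x * τ⁻¹)) := by
    calc x * (τ * x * τ⁻¹) * τ = (τ * (x * (τ * x * τ⁻¹)) * τ⁻¹) * τ := by rw [h1]
      _ = τ * (x * (τ * x * τ⁻¹)) := by group
  have h3 := hfpf _ hz h2
  exact (eq_inv_of_mul_eq_one_right h3)

/-- **T6**: in a noncommutative simple group, if a commutative Sylow subgroup `P` has
`|N(P)| = 2 |P|`, an involution of `N(P)` outside `P` inverts `P`. -/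
theorem inverts_of_card_normalizer [Finite G] [IsSimpleGroup G] (hnc : ¬ IsMulCommutative G)
    {p : ℕ} [hp : Fact p.Prime] (P : Sylow p G)
    (hcomm : ∀ a ∈ (P : Subgroup G), ∀ b ∈ (P : Subgroup G), a * b = b * a)
    (hN : Nat.card ↥(normalizer ((P : Subgroup G) : Set G)) = 2 * Nat.card ↥(P : Subgroup G))
    (w : G) (hwN : w ∈ normalizer ((P : Subgroup G) : Set G)) (hw : w * w = 1)
    (hwP : w ∉ (P : Subgroup G)) : ∀ x ∈ (P : Subgroup G), w * x * w⁻¹ = x⁻¹ := by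
  have hwinv : w⁻¹ = w := inv_eq_of_mul_eq_one_left hw
  have hcomm_top : commutator G = ⊤ := by
    have hn : (commutator G).Normal := inferInstance
    rcases hn.eq_bot_or_eq_top with h | h
    · exfalso
      apply hnc
      refine ⟨⟨fun a b => ?_⟩⟩
      have h1 : ⁅a, b⁆ ∈ commutator G :=
        Subgroup.commutator_mem_commutator (mem_top a) (mem_top b)
      rw [h, Subgroup.mem_bot, commutatorElement_def] at h1
      calc a * b = (a * b * a⁻¹ * b⁻¹) * b * a := by group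
        _ = b * a := by rw [h1, one_mul]
    · exact h
  have hfocal : (P : Subgroup G).focalSubgroup = (P : Subgroup G) := by
    rw [← Subgroup.commutator_inf_eq_focalSubgroup P, hcomm_top, top_inf_eq]
  let M : Subgroup G :=
    { carrier := {x | x ∈ (P : Subgroup G) ∧ w * x * w⁻¹ = x⁻¹}
      mul_mem' := by
        rintro a b ⟨ha, ha'⟩ ⟨hb, hb'⟩
        refine ⟨mul_mem ha hb, ?_⟩
        calc w * (a * b) * w⁻¹ = (w * a * w⁻¹) * (w * b * w⁻¹) := by group
          _ = a⁻¹ * b⁻¹ := by rw [ha', hb']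
          _ = (b * a)⁻¹ := by group
          _ = (a * b)⁻¹ := by rw [hcomm b hb a ha]
      one_mem' := ⟨one_mem _, by group⟩
      inv_mem' := by
        rintro a ⟨ha, ha'⟩
        refine ⟨inv_mem ha, ?_⟩
        calc w * a⁻¹ * w⁻¹ = (w * a * w⁻¹)⁻¹ := by group
          _ = (a⁻¹)⁻¹ := by rw [ha'] }
  have hle : (P : Subgroup G).focalSubgroup ≤ M := by
    rw [Subgroup.focalSubgroup_def, Subgroup.closure_le]
    rintro g ⟨hgP, x, hxP, u, rfl⟩
    refine ⟨hgP, ?_⟩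
    have hx' : u * x * u⁻¹ ∈ (P : Subgroup G) := by
      have : u * x * u⁻¹ = (x⁻¹ * ⁅x, u⁆)⁻¹ := by
        rw [commutatorElement_def]; group
      rw [this]
      exact inv_mem (mul_mem (inv_mem hxP) hgP)
    haveI : IsMulCommutative ↥(P : Subgroup G) :=
      ⟨⟨fun a b => Subtype.ext (hcomm a a.2 b b.2)⟩⟩
    have hx'' : u⁻¹⁻¹ * x * u⁻¹ ∈ P := by
      rw [inv_inv]
      exact hx'
    obtain ⟨n, hn, hnx⟩ := P.conj_eq_normalizer_conj_of_mem x u⁻¹ hxP hx''
    have hnx' : u * x * u⁻¹ = n⁻¹ * x * n := by simpa using hnx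
    have hnN : n⁻¹ ∈ normalizer ((P : Subgroup G) : Set G) := inv_mem hn
    by_cases hnP : n⁻¹ ∈ (P : Subgroup G)
    · have h1 : n⁻¹ * x * n = x := by
        have := hcomm _ hnP x hxP
        calc n⁻¹ * x * n = (n⁻¹ * x) * n := rfl
          _ = (x * n⁻¹) * n := by rw [this]
          _ = x := by group
      have h2 : ⁅x, u⁆ = 1 := by
        rw [commutatorElement_def]
        calc x * u * x⁻¹ * u⁻¹ = x * (u * x * u⁻¹)⁻¹ := by group
          _ = 1 := by rw [hnx', h1]; group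
      rw [h2]
      group
    · have hwN' : w⁻¹ ∈ normalizer ((P : Subgroup G) : Set G) := inv_mem hwN
      have hwP' : w⁻¹ ∉ (P : Subgroup G) := by rw [hwinv]; exact hwP
      have hmul := mul_mem_iff_of_card_two_mul _ (P : Subgroup G) Subgroup.le_normalizer hN
        w⁻¹ n⁻¹ hwN' hnN
      have ha : w⁻¹ * n⁻¹ ∈ (P : Subgroup G) :=
        hmul.mpr ⟨fun h => absurd h hwP', fun h => absurd h hnP⟩
      have h1 : n⁻¹ * x * n = w * x * w⁻¹ := by
        have hc := hcomm _ ha x hxP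
        calc n⁻¹ * x * n = w * ((w⁻¹ * n⁻¹) * x) * (w⁻¹ * n⁻¹)⁻¹ * w⁻¹ := by group
          _ = w * (x * (w⁻¹ * n⁻¹)) * (w⁻¹ * n⁻¹)⁻¹ * w⁻¹ := by rw [hc]
          _ = w * x * w⁻¹ := by group
      have h2 : ⁅x, u⁆ = x * (w * x⁻¹ * w⁻¹) := by
        rw [commutatorElement_def]
        calc x * u * x⁻¹ * u⁻¹ = x * (u * x * u⁻¹)⁻¹ := by group
          _ = x * (w * x * w⁻¹)⁻¹ := by rw [hnx', h1]
          _ = x * (w * x⁻¹ * w⁻¹) := by group
      rw [h2]
      calc w * (x * (w * x⁻¹ * w⁻¹)) * w⁻¹ = (w * x * w⁻¹) * ((w * w) * x⁻¹ * (w⁻¹ * w⁻¹)) := by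
            group
        _ = (w * x * w⁻¹) * x⁻¹ := by rw [hwinv, hw]; group
        _ = (x * (w * x⁻¹ * w⁻¹))⁻¹ := by group
  intro x hx
  have : x ∈ M := hle (by rw [hfocal]; exact hx)
  exact this.2

/-- A `p`-group acting by conjugation on a finite set of size prime to `p` has a fixed point. -/
theorem exists_fixed_of_conj_invariant {p : ℕ} [Fact p.Prime] (H : Subgroup G)
    (hH : IsPGroup p ↥H) (S : Set G) [Finite S]
    (hS : ∀ a ∈ H, ∀ x ∈ S, a * x * a⁻¹ ∈ S) (hcard : ¬ p ∣ Nat.card S) :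
    ∃ w ∈ S, ∀ a ∈ H, a * w = w * a := by
  set A : Subgroup (ConjAct G) := H.map (ConjAct.toConjAct (G := G)).toMonoidHom with hAdef
  have hA : IsPGroup p A := hH.map _
  have hS' : ∀ a : ↥A, ∀ x ∈ S, a • x ∈ S := by
    intro a x hx
    obtain ⟨h, hh, hha⟩ := Subgroup.mem_map.mp a.2
    have h1 : (a : ConjAct G) = ConjAct.toConjAct h := hha.symm
    show (a : ConjAct G) • x ∈ S
    rw [h1, ConjAct.toConjAct_smul]
    exact hS h hh x hx
  have h := card_invariant_modEq hA S hS'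
  have hne : Nat.card (S ∩ fixedPoints ↥A G : Set G) ≠ 0 := by
    intro h0
    rw [h0] at h
    apply hcard
    exact (Nat.modEq_zero_iff_dvd).mp h
  obtain ⟨⟨w, hwS, hwf⟩⟩ := (Nat.card_pos_iff.mp (Nat.pos_of_ne_zero hne)).1
  refine ⟨w, hwS, ?_⟩
  intro a ha
  have := hwf ⟨ConjAct.toConjAct a, Subgroup.mem_map.mpr ⟨a, ha, rfl⟩⟩
  have h3 : a * w * a⁻¹ = w := by
    simpa [ConjAct.toConjAct_smul] using this
  calc a * w = a * w * a⁻¹ * a := by group
    _ = w * a := by rw [h3]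

end

end Cfsg.Agent.Lib.Helper17
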