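import Mathlib
import Cfsg.Prelude.Def_ClassicalGeometry
import Cfsg.Agent.Lib.Helper4.NdDefs
import Cfsg.Agent.Lib.Helper68.NdA10

/-! # ND-A10 (S5956 hive of helper4), complement (helper17)

`exists_glue` itself, `a10_glue`, `a10_glue_left/right`, `a10_pow_left/right` are helper68's
(`Cfsg.Agent.Lib.Helper68.NdA10`, landed first; this file re-exports it by importing it).  This file only adds
`a10_skew` and `a10_isom` (the glued map is an isometry, with no nilpotency hypothesis), for the gluing in ND-D7. -/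

set_option autoImplicit false
open Matrix
open Cfsg.Agent.Lib.Helper99 (Nd dker sympB)

namespace Cfsg.Agent.Lib.Helper4.NdH

universe u v

variable {F : Type u} [Field F] {V : Type v} [AddCommGroup V] [Module F V]

/-- an alternating form is skew-symmetric -/
theorem a10_skew (B : V →ₗ[F] V →ₗ[F] F) (hB : Alt B) (a b : V) : B a b = - B b a := by
  have h := hB (a + b)
  simp only [map_add, LinearMap.add_apply] at h
  linear_combination h - hB a - hB b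

/-- the glued map is an isometry -/
theorem a10_isom (B : V →ₗ[F] V →ₗ[F] F) (hB : Alt B)
    (X X' : Submodule F V) (hc : IsCompl X X') (hperp : Perp B X X')
    (u₁ : X →ₗ[F] X) (u₂ : X' →ₗ[F] X')
    (h₁ : ∀ a b : X, B (u₁ a : V) (u₁ b : V) = B (a : V) (b : V))
    (h₂ : ∀ a b : X', B (u₂ a : V) (u₂ b : V) = B (a : V) (b : V)) :
    Isom B (a10_glue X X' hc u₁ u₂) := by
  have hperp' : ∀ x' ∈ X', ∀ x ∈ X, B x' x = 0 := by
    intro x' hx' x hx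
    rw [a10_skew B hB, hperp x hx x' hx', neg_zero]
  intro v w
  obtain ⟨x, hx, x', hx', rfl⟩ := Submodule.mem_sup.mp
    (show v ∈ X ⊔ X' by rw [hc.sup_eq_top]; trivial)
  obtain ⟨y, hy, y', hy', rfl⟩ := Submodule.mem_sup.mp
    (show w ∈ X ⊔ X' by rw [hc.sup_eq_top]; trivial)
  have e1 : a10_glue X X' hc u₁ u₂ x = (u₁ ⟨x, hx⟩ : V) := a10_glue_left X X' hc u₁ u₂ ⟨x, hx⟩
  have e2 : a10_glue X X' hc u₁ u₂ x' = (u₂ ⟨x', hx'⟩ : V) := a10_glue_right X X' hc u₁ u₂ ⟨x', hx'⟩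
  have e3 : a10_glue X X' hc u₁ u₂ y = (u₁ ⟨y, hy⟩ : V) := a10_glue_left X X' hc u₁ u₂ ⟨y, hy⟩
  have e4 : a10_glue X X' hc u₁ u₂ y' = (u₂ ⟨y', hy'⟩ : V) := a10_glue_right X X' hc u₁ u₂ ⟨y', hy'⟩
  have ev : a10_glue X X' hc u₁ u₂ (x + x') = (u₁ ⟨x, hx⟩ : V) + (u₂ ⟨x', hx'⟩ : V) := by
    rw [map_add, e1, e2]
  have ew : a10_glue X X' hc u₁ u₂ (y + y') = (u₁ ⟨y, hy⟩ : V) + (u₂ ⟨y', hy'⟩ : V) := by
    rw [map_add, e3, e4]
  have k1 : B (u₁ ⟨x, hx⟩ : V) (u₁ ⟨y, hy⟩ : V) = B x y := h₁ ⟨x, hx⟩ ⟨y, hy⟩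
  have k2 : B (u₂ ⟨x', hx'⟩ : V) (u₂ ⟨y', hy'⟩ : V) = B x' y' := h₂ ⟨x', hx'⟩ ⟨y', hy'⟩
  have k3 := hperp _ (u₁ ⟨x, hx⟩).2 _ (u₂ ⟨y', hy'⟩).2
  have k4 := hperp' _ (u₂ ⟨x', hx'⟩).2 _ (u₁ ⟨y, hy⟩).2
  have k5 := hperp x hx y' hy'
  have k6 := hperp' x' hx' y hy
  rw [ev, ew]
  simp only [map_add, LinearMap.add_apply]
  linear_combination k1 + k2 + k3 + k4 - k5 - k6

end Cfsg.Agent.Lib.Helper4.NdH
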