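import Mathlib
import Cfsg.Prelude.Def_GeometricClasses

/-! # S5981 hive (helper44), leaf OF-DIAG2: an element diagonalisable with eigenvalues of constant square
is conjugate into the similarity group of any nondegenerate quadratic form (odd characteristic). -/

set_option autoImplicit false
open scoped MatrixGroups
open Matrix

namespace Cfsg.Agent.Lib.Helper44.Of

universe v

variable {F : Type v} [Field F]

/-- In characteristic `≠ 2`, `Q v = polar Q v v / 2`. -/
theorem diag2_Q_eq (h2 : (2 : F) ≠ 0) {n : ℕ} (Q : (Fin n → F) → F)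
    (hQ : Cfsg.Geo.IsNondegenerateQuadraticForm Q) (v : Fin n → F) :
    Q v = 2⁻¹ * QuadraticMap.polar Q v v := by
  have h1 : Q (v + v) = 2 ^ 2 * Q v := by
    have := hQ.smul 2 v
    rwa [two_smul] at this
  unfold QuadraticMap.polar
  rw [h1]
  field_simp
  ring

/-- The polar form as a Mathlib bilinear form. -/
noncomputable def diag2_B {n : ℕ} (Q : (Fin n → F) → F) (hQ : Cfsg.Geo.IsNondegenerateQuadraticForm Q) :
    LinearMap.BilinForm F (Fin n → F) :=
  LinearMap.mk₂ F (QuadraticMap.polar Q) hQ.polar_bilinear.add_left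
    (fun c m k => by rw [hQ.polar_bilinear.smul_left, smul_eq_mul])
    hQ.polar_bilinear.add_right
    (fun c m k => by rw [hQ.polar_bilinear.smul_right, smul_eq_mul])

theorem diag2_B_apply {n : ℕ} (Q : (Fin n → F) → F) (hQ : Cfsg.Geo.IsNondegenerateQuadraticForm Q)
    (u w : Fin n → F) : diag2_B Q hQ u w = QuadraticMap.polar Q u w := rfl

/-- The value of `Q` on a combination of pairwise orthogonal vectors. -/
theorem diag2_core (h2 : (2 : F) ≠ 0) {n : ℕ} (Q : (Fin n → F) → F)
    (hQ : Cfsg.Geo.IsNondegenerateQuadraticForm Q) {J : Type*} [Fintype J] [DecidableEq J]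
    (e : J → (Fin n → F)) (horth : ∀ j k, j ≠ k → QuadraticMap.polar Q (e j) (e k) = 0) (a : J → F) :
    Q (∑ j, a j • e j) = ∑ j, a j ^ 2 * Q (e j) := by
  rw [diag2_Q_eq h2 Q hQ, ← diag2_B_apply Q hQ]
  have hL : ∀ W : Fin n → F, diag2_B Q hQ (∑ j, a j • e j) W = ∑ j, a j * diag2_B Q hQ (e j) W := by
    intro W
    rw [map_sum, LinearMap.sum_apply]
    refine Finset.sum_congr rfl (fun j _ => ?_)
    rw [map_smul, LinearMap.smul_apply, smul_eq_mul]
  have hRt : ∀ u : Fin n → F, diag2_B Q hQ u (∑ k, a k • e k) = ∑ k, a k * diag2_B Q hQ u (e k) := by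
    intro u
    rw [map_sum]
    refine Finset.sum_congr rfl (fun k _ => ?_)
    rw [map_smul, smul_eq_mul]
  have h1 : diag2_B Q hQ (∑ j, a j • e j) (∑ k, a k • e k) =
      ∑ j, ∑ k, a j * (a k * QuadraticMap.polar Q (e j) (e k)) := by
    rw [hL]
    refine Finset.sum_congr rfl (fun j _ => ?_)
    rw [hRt, Finset.mul_sum]
    refine Finset.sum_congr rfl (fun k _ => ?_)
    rw [diag2_B_apply]
  rw [h1, Finset.mul_sum]
  refine Finset.sum_congr rfl (fun j _ => ?_)
  rw [Finset.sum_eq_single j]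
  · rw [diag2_Q_eq h2 Q hQ (e j)]
    ring
  · intro k _ hkj
    rw [horth j k (Ne.symm hkj)]
    ring
  · intro hj
    exact absurd (Finset.mem_univ j) hj

/-- OF-DIAG2 : an orthogonal basis `eⱼ` of `Q` (`LinearMap.BilinForm.exists_orthogonal_basis`), `T : bᵢ ↦ e_{σ i}`;
in the basis `eⱼ` the form is `Σ aⱼ vⱼ²` and `T x T⁻¹` is diagonal with entries `dᵢ`, `dᵢ² = c` -/
theorem exists_conj_mem_of_eigenbasis_sq (h2 : (2 : F) ≠ 0) {n : ℕ}
    (Q : (Fin n → F) → F) (hQ : Cfsg.Geo.IsNondegenerateQuadraticForm Q)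
    {I : Type} [Fintype I] [DecidableEq I] (b : Module.Basis I F (Fin n → F)) (d : I → F)
    (c : F) (hc : c ≠ 0) (hd : ∀ i, d i * d i = c) (x : GL (Fin n) F)
    (hx : ∀ i, (x : Matrix (Fin n) (Fin n) F) *ᵥ b i = d i • b i) :
    ∃ R : GL (Fin n) F, R * x * R⁻¹ ∈ Cfsg.Geo.quadSimilarityGroup Q := by
  classical
  have : Invertible (2 : F) := invertibleOfNonzero h2
  have hsymm : LinearMap.IsSymm (diag2_B Q hQ) := by
    refine ⟨fun u w => ?_⟩
    simp only [diag2_B_apply, RingHom.id_apply]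
    exact QuadraticMap.polar_comm Q u w
  obtain ⟨e, he⟩ := LinearMap.BilinForm.exists_orthogonal_basis hsymm
  have he' : ∀ j k, j ≠ k → QuadraticMap.polar Q (e j) (e k) = 0 := by
    intro j k hjk
    have := he hjk
    exact this
  let σ : I ≃ Fin (Module.finrank F (Fin n → F)) := b.indexEquiv e
  let T : (Fin n → F) ≃ₗ[F] (Fin n → F) := b.equiv e σ
  have hT : ∀ i, T (b i) = e (σ i) := fun i => Module.Basis.equiv_apply b i e σ
  -- the orthogonal family indexed by `I`
  have horth : ∀ i k : I, i ≠ k → QuadraticMap.polar Q (e (σ i)) (e (σ k)) = 0 := by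
    intro i k hik
    exact he' _ _ (fun h => hik (σ.injective h))
  -- the matrix of `T`
  have hTT : LinearMap.toMatrix' T.toLinearMap * LinearMap.toMatrix' T.symm.toLinearMap = 1 := by
    rw [← LinearMap.toMatrix'_comp]
    have : T.toLinearMap ∘ₗ T.symm.toLinearMap = LinearMap.id := by
      ext v : 1
      simp
    rw [this, LinearMap.toMatrix'_id]
  have hTT' : LinearMap.toMatrix' T.symm.toLinearMap * LinearMap.toMatrix' T.toLinearMap = 1 := by
    rw [← LinearMap.toMatrix'_comp]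
    have : T.symm.toLinearMap ∘ₗ T.toLinearMap = LinearMap.id := by
      ext v : 1
      simp
    rw [this, LinearMap.toMatrix'_id]
  let R : GL (Fin n) F :=
    ⟨LinearMap.toMatrix' T.toLinearMap, LinearMap.toMatrix' T.symm.toLinearMap, hTT, hTT'⟩
  refine ⟨R, Units.mk0 c hc, fun v => ?_⟩
  have hR : ((R * x * R⁻¹ : GL (Fin n) F) : Matrix (Fin n) (Fin n) F) =
      LinearMap.toMatrix' T.toLinearMap * (x : Matrix (Fin n) (Fin n) F) *
        LinearMap.toMatrix' T.symm.toLinearMap := rfl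
  rw [hR, ← Matrix.mulVec_mulVec, ← Matrix.mulVec_mulVec, LinearMap.toMatrix'_mulVec,
    LinearMap.toMatrix'_mulVec, Units.val_mk0]
  set w : Fin n → F := T.symm v with hw
  have hv : v = T w := by simp [hw]
  -- coordinates
  have hw_sum : w = ∑ i, b.repr w i • b i := (b.sum_repr w).symm
  have h1 : T w = ∑ i, b.repr w i • e (σ i) := by
    conv_lhs => rw [hw_sum]
    rw [map_sum]
    refine Finset.sum_congr rfl (fun i _ => ?_)
    rw [map_smul, hT]
  have h2' : (x : Matrix (Fin n) (Fin n) F) *ᵥ w = ∑ i, (b.repr w i * d i) • b i := by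
    conv_lhs => rw [hw_sum]
    rw [← Matrix.mulVecLin_apply, map_sum]
    refine Finset.sum_congr rfl (fun i _ => ?_)
    rw [map_smul, Matrix.mulVecLin_apply, hx i, smul_smul]
  have h3 : T ((x : Matrix (Fin n) (Fin n) F) *ᵥ w) = ∑ i, (b.repr w i * d i) • e (σ i) := by
    rw [h2', map_sum]
    refine Finset.sum_congr rfl (fun i _ => ?_)
    rw [map_smul, hT]
  change Q (T ((x : Matrix (Fin n) (Fin n) F) *ᵥ w)) = c * Q v
  rw [h3, hv, h1, diag2_core h2 Q hQ (fun i => e (σ i)) horth,
    diag2_core h2 Q hQ (fun i => e (σ i)) horth, Finset.mul_sum]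
  refine Finset.sum_congr rfl (fun i _ => ?_)
  have := hd i
  rw [← this]
  ring

end Cfsg.Agent.Lib.Helper44.Of
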