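import Mathlib
import Cfsg.Agent.Lib.Helper17.CosetTools
import Cfsg.Agent.Lib.Helper17.PGroupNorm
import Cfsg.Agent.Lib.Helper17.SylowTools
import Cfsg.Agent.S0111

set_option autoImplicit false

namespace Cfsg.Agent.Lib.Helper17

open Subgroup MulAction

/-- A subgroup of order 8 with three distinct central elements is commutative. -/
theorem comm_of_card_eight_of_central {S : Type*} [Group S] [Finite S] (C : Subgroup S)
    (hC : Nat.card ↥C = 8) (z n : S) (hz : z ∈ C) (hn : n ∈ C)
    (hzc : ∀ g ∈ C, g * z = z * g) (hnc : ∀ g ∈ C, g * n = n * g)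
    (hz1 : z ≠ 1) (hn1 : n ≠ 1) (hnz : n ≠ z) : ∀ a ∈ C, ∀ b ∈ C, a * b = b * a := by
  have h3 : 3 ≤ Nat.card ↥(center ↥C) := by
    have hzm : (⟨z, hz⟩ : ↥C) ∈ center ↥C := by
      rw [Subgroup.mem_center_iff]
      intro g
      exact Subtype.ext (hzc g g.2)
    have hnm : (⟨n, hn⟩ : ↥C) ∈ center ↥C := by
      rw [Subgroup.mem_center_iff]
      intro g
      exact Subtype.ext (hnc g g.2)
    apply three_le_card (1 : ↥(center ↥C)) ⟨⟨z, hz⟩, hzm⟩ ⟨⟨n, hn⟩, hnm⟩
    · intro h
      apply hz1
      have := congrArg (fun w : ↥(center ↥C) => ((w : ↥C) : S)) h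
      simpa using this.symm
    · intro h
      apply hn1
      have := congrArg (fun w : ↥(center ↥C) => ((w : ↥C) : S)) h
      simpa using this.symm
    · intro h
      apply hnz
      have := congrArg (fun w : ↥(center ↥C) => ((w : ↥C) : S)) h
      simpa using this.symm
  have hmul := (center ↥C).card_mul_index
  rw [hC] at hmul
  have hpos : 0 < (center ↥C).index := by
    rcases Nat.eq_zero_or_pos (center ↥C).index with h | h
    · rw [h] at hmul; omega
    · exact h
  have hle : (center ↥C).index ≤ 2 := by
    by_contra hcon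
    push Not at hcon
    have : 3 * 3 ≤ Nat.card ↥(center ↥C) * (center ↥C).index := Nat.mul_le_mul h3 hcon
    omega
  haveI : IsCyclic (↥C ⧸ center ↥C) := by
    have hq : Nat.card (↥C ⧸ center ↥C) = (center ↥C).index := rfl
    have hidx : (center ↥C).index = 1 ∨ (center ↥C).index = 2 := by omega
    rcases hidx with h | h
    · rw [h] at hq
      haveI : Subsingleton (↥C ⧸ center ↥C) := (Nat.card_eq_one_iff_unique.mp hq).1
      exact isCyclic_of_subsingleton
    · rw [h] at hq
      haveI : Fact (Nat.Prime 2) := ⟨Nat.prime_two⟩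
      exact isCyclic_of_prime_card hq
  have hcomm : IsMulCommutative ↥C := isMulCommutative_of_isCyclic_quotient_center_self ↥C
  intro a ha b hb
  exact congrArg Subtype.val (hcomm.is_comm.comm ⟨a, ha⟩ ⟨b, hb⟩)

theorem card_dvd_sixteen_cases {d : ℕ} (h : d ∣ 16) : d = 1 ∨ d = 2 ∨ d = 4 ∨ d = 8 ∨ d = 16 := by
  have h1 : d ≤ 16 := Nat.le_of_dvd (by norm_num) h
  interval_cases d <;> omega

/-- Every group of order 16 has a commutative subgroup of order 8. -/
theorem exists_abelian_of_card_sixteen {S : Type*} [Group S] [Finite S] (hS : Nat.card S = 16) :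
    ∃ A : Subgroup S, Nat.card ↥A = 8 ∧ ∀ a ∈ A, ∀ b ∈ A, a * b = b * a := by
  classical
  haveI : Fact (Nat.Prime 2) := ⟨Nat.prime_two⟩
  have hpg : IsPGroup 2 S := IsPGroup.of_card (n := 4) (by rw [hS]; norm_num)
  by_cases hab : ∀ a b : S, a * b = b * a
  · obtain ⟨K, hK⟩ := Sylow.exists_subgroup_card_pow_prime 2 (n := 3)
      (by rw [hS]; norm_num : 2 ^ 3 ∣ Nat.card S)
    exact ⟨K, by simpa using hK, fun a _ b _ => hab a b⟩
  · push Not at hab
    obtain ⟨a₀, b₀, hab₀⟩ := hab
    haveI : Nontrivial S := by
      rw [← Finite.one_lt_card_iff_nontrivial, hS]; norm_num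
    haveI := hpg.center_nontrivial
    -- a central involution
    have hZdvd : 2 ∣ Nat.card ↥(center S) := by
      have h1 : Nat.card ↥(center S) ∣ 16 := hS ▸ Subgroup.card_subgroup_dvd_card _
      have h2 : 1 < Nat.card ↥(center S) := Finite.one_lt_card
      rcases card_dvd_sixteen_cases h1 with h | h | h | h | h <;> omega
    obtain ⟨z, hzZ, hzord⟩ := exists_mem_orderOf_eq (center S) hZdvd
    have hzc : ∀ g : S, g * z = z * g := fun g => Subgroup.mem_center_iff.mp hzZ g
    have hz1 : z ≠ 1 := by
      intro h
      rw [h, orderOf_one] at hzord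
      omega
    -- the quotient by ⟨z⟩
    set K : Subgroup S := zpowers z with hK
    have hKcard : Nat.card ↥K = 2 := by rw [hK, Nat.card_zpowers, hzord]
    have hKle : K ≤ center S := by rw [hK, zpowers_le]; exact hzZ
    haveI hKn : K.Normal := by
      refine ⟨fun x hx g => ?_⟩
      have hxc := Subgroup.mem_center_iff.mp (hKle hx) g
      have : g * x * g⁻¹ = x := by rw [hxc]; group
      rw [this]; exact hx
    have hKmem : ∀ w ∈ K, w = 1 ∨ w = z := by
      intro w hw
      rw [hK, mem_zpowers_iff_mem_range_orderOf, hzord] at hw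
      simp only [Finset.mem_image, Finset.mem_range] at hw
      obtain ⟨k, hk, rfl⟩ := hw
      interval_cases k
      · left; simp
      · right; simp
    have hQcard : Nat.card (S ⧸ K) = 8 := by
      have := K.card_mul_index
      rw [hKcard, hS] at this
      have h2 : K.index = 8 := by omega
      exact h2
    have hQpg : IsPGroup 2 (S ⧸ K) := hpg.to_quotient K
    haveI : Nontrivial (S ⧸ K) := by
      rw [← Finite.one_lt_card_iff_nontrivial, hQcard]; norm_num
    haveI := hQpg.center_nontrivial
    obtain ⟨c, hc⟩ := exists_ne (1 : ↥(center (S ⧸ K)))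
    obtain ⟨n, hn⟩ := QuotientGroup.mk_surjective (c : S ⧸ K)
    have hnK : n ∉ K := by
      intro h
      apply hc
      apply Subtype.ext
      rw [← hn]
      exact (QuotientGroup.eq_one_iff n).mpr h
    have hn1 : n ≠ 1 := fun h => hnK (h ▸ K.one_mem)
    have hnz : n ≠ z := fun h => hnK (h ▸ mem_zpowers z)
    -- conjugates of n
    have hconj : ∀ g : S, g * n * g⁻¹ = n ∨ g * n * g⁻¹ = z * n := by
      intro g
      have h1 : g * n * g⁻¹ * n⁻¹ ∈ K := by
        rw [← QuotientGroup.eq_one_iff]
        have hcc := Subgroup.mem_center_iff.mp c.2 (QuotientGroup.mk g : S ⧸ K)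
        simp only [QuotientGroup.mk_mul, QuotientGroup.mk_inv, hn]
        rw [hcc]
        group
      rcases hKmem _ h1 with h | h
      · left
        calc g * n * g⁻¹ = g * n * g⁻¹ * n⁻¹ * n := by group
          _ = n := by rw [h, one_mul]
      · right
        calc g * n * g⁻¹ = g * n * g⁻¹ * n⁻¹ * n := by group
          _ = z * n := by rw [h]
    -- class of n has at most two elements
    have hclass : Nat.card {h : S // IsConj n h} ≤ 2 := by
      have hsub : {h : S | IsConj n h} ⊆ {n, z * n} := by
        intro h hh
        obtain ⟨g, rfl⟩ := isConj_iff.mp hh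
        rcases hconj g with h1 | h1
        · rw [h1]; simp
        · rw [h1]; simp
      have h1 : Nat.card {h : S // IsConj n h} = {h : S | IsConj n h}.ncard := by
        rw [← Nat.card_coe_set_eq]; rfl
      rw [h1]
      calc {h : S | IsConj n h}.ncard ≤ ({n, z * n} : Set S).ncard :=
            Set.ncard_le_ncard hsub (Set.toFinite _)
        _ ≤ 2 := by
            have := Set.ncard_insert_le n ({z * n} : Set S)
            rw [Set.ncard_singleton] at this
            exact this
    have hidx := index_centralizer_eq_card_isConj n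
    have hmul := (centralizer ({n} : Set S)).card_mul_index
    rw [hidx, hS] at hmul
    have hdvd : Nat.card ↥(centralizer ({n} : Set S)) ∣ 16 := Dvd.intro _ hmul
    have hcases : Nat.card ↥(centralizer ({n} : Set S)) = 8 ∨
        Nat.card ↥(centralizer ({n} : Set S)) = 16 := by
      have hpos : 0 < Nat.card {h : S // IsConj n h} := by
        rcases Nat.eq_zero_or_pos (Nat.card {h : S // IsConj n h}) with h | h
        · rw [h] at hmul; omega
        · exact h
      have h12 : Nat.card {h : S // IsConj n h} = 1 ∨ Nat.card {h : S // IsConj n h} = 2 := by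
        omega
      rcases h12 with h | h <;> rw [h] at hmul <;> omega
    rcases hcases with h8 | h16
    · -- x = n
      refine ⟨centralizer ({n} : Set S), h8, ?_⟩
      apply comm_of_card_eight_of_central _ h8 z n
      · rw [mem_centralizer_singleton_iff]; exact (hzc n)
      · rw [mem_centralizer_singleton_iff]
      · intro g _; exact hzc g
      · intro g hg; exact (mem_centralizer_singleton_iff.mp hg).symm
      · exact hz1
      · exact hn1
      · exact hnz
    · -- n is central
      have htop : centralizer ({n} : Set S) = ⊤ := by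
        apply Subgroup.eq_top_of_card_eq
        rw [h16, hS]
      have hncen : ∀ g : S, g * n = n * g := by
        intro g
        have hg : g ∈ centralizer ({n} : Set S) := by rw [htop]; exact mem_top g
        exact (mem_centralizer_singleton_iff.mp hg).symm
      have hnZ : n ∈ center S := Subgroup.mem_center_iff.mpr hncen
      -- the center has at least 4 elements
      have hZ3 : 3 ≤ Nat.card ↥(center S) := by
        apply three_le_card (1 : ↥(center S)) ⟨z, hzZ⟩ ⟨n, hnZ⟩
        · intro h; apply hz1; exact (congrArg Subtype.val h).symm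
        · intro h; apply hn1; exact (congrArg Subtype.val h).symm
        · intro h; apply hnz; exact (congrArg Subtype.val h).symm
      have hZdvd16 : Nat.card ↥(center S) ∣ 16 := hS ▸ Subgroup.card_subgroup_dvd_card _
      -- the centralizer of a₀
      set C := centralizer ({a₀} : Set S) with hCdef
      have hZC : center S ≤ C := Subgroup.center_le_centralizer _
      have haC : a₀ ∈ C := by rw [hCdef, mem_centralizer_singleton_iff]
      have haZ : a₀ ∉ center S := by
        intro h
        exact hab₀ ((Subgroup.mem_center_iff.mp h b₀).symm)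
      have hbC : b₀ ∉ C := by
        intro h
        exact hab₀ (mem_centralizer_singleton_iff.mp h)
      have hCdvd : Nat.card ↥C ∣ 16 := hS ▸ Subgroup.card_subgroup_dvd_card _
      have hZCdvd : Nat.card ↥(center S) ∣ Nat.card ↥C := Subgroup.card_dvd_of_le hZC
      have hCne16 : Nat.card ↥C ≠ 16 := by
        intro h
        apply hbC
        have : C = ⊤ := Subgroup.eq_top_of_card_eq _ (by rw [h, hS])
        rw [this]; exact mem_top _
      have hZneC : Nat.card ↥(center S) ≠ Nat.card ↥C := by
        intro h
        apply haZ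
        have : center S = C := Subgroup.eq_of_le_of_card_ge hZC (le_of_eq h.symm)
        rw [this]; exact haC
      have hC8 : Nat.card ↥C = 8 := by
        have hle := Nat.le_of_dvd Nat.card_pos hZCdvd
        rcases card_dvd_sixteen_cases hCdvd with h | h | h | h | h <;>
          rcases card_dvd_sixteen_cases hZdvd16 with h' | h' | h' | h' | h' <;> omega
      refine ⟨C, hC8, ?_⟩
      apply comm_of_card_eight_of_central _ hC8 z n (hZC hzZ) (hZC hnZ)
      · intro g _; exact hzc g
      · intro g _; exact hncen g
      · exact hz1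
      · exact hn1
      · exact hnz

/-- **L16**: in a noncommutative simple group of order `16 * odd`, the centralizer of an
involution has order divisible by `8`. -/
theorem eight_dvd_card_centralizer_of_involution {G : Type*} [Group G] [Finite G]
    [IsSimpleGroup G] (hnc : ¬ IsMulCommutative G) {m : ℕ} (hG : Nat.card G = 2 ^ 4 * m)
    (hm : ¬ 2 ∣ m) (t : G) (ht : t * t = 1) (ht1 : t ≠ 1) :
    8 ∣ Nat.card ↥(centralizer ({t} : Set G)) := by
  haveI : Fact (Nat.Prime 2) := ⟨Nat.prime_two⟩
  have hord : orderOf t = 2 := orderOf_eq_two_of_involution ht ht1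
  have hpg : IsPGroup 2 (zpowers t) :=
    IsPGroup.of_card (n := 1) (by rw [Nat.card_zpowers, hord, pow_one])
  obtain ⟨S, hS⟩ := hpg.exists_le_sylow
  have htS : t ∈ (S : Subgroup G) := hS (mem_zpowers t)
  have hScard : Nat.card ↥(S : Subgroup G) = 16 := by
    have := card_sylow_of_card_eq S hG hm
    rw [this]; norm_num
  obtain ⟨A', hA'card, hA'comm⟩ := exists_abelian_of_card_sixteen hScard
  set A : Subgroup G := A'.map (S : Subgroup G).subtype with hA
  have hAcard : Nat.card ↥A = 8 := by rw [hA, card_map_subtype, hA'card]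
  have hAS : A ≤ (S : Subgroup G) := Subgroup.map_subtype_le _
  have hAcomm : ∀ a ∈ A, ∀ b ∈ A, a * b = b * a := by
    rintro a ⟨a', ha', rfl⟩ b ⟨b', hb', rfl⟩
    exact congrArg Subtype.val (hA'comm a' ha' b' hb')
  have key : ∀ s : G, s ∈ A → 8 ∣ Nat.card ↥(centralizer ({s} : Set G)) := by
    intro s hs
    rw [← hAcard]
    apply Subgroup.card_dvd_of_le
    intro a ha
    rw [mem_centralizer_singleton_iff]
    exact hAcomm s hs a ha
  by_cases htA : t ∈ A
  · exact key t htA
  · have hrel : A.relIndex (S : Subgroup G) = 2 := by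
      have := card_inf_mul_relIndex A (S : Subgroup G)
      rw [inf_of_le_left hAS, hAcard, hScard] at this
      omega
    rcases Cfsg.Agent.S0111.result S A hAS hrel t hord htS htA with ⟨M, hMn, hMi, _⟩ | ⟨g, hg⟩
    · exfalso
      rcases hMn.eq_bot_or_eq_top with h | h
      · rw [h, Subgroup.index_bot, hG] at hMi
        omega
      · rw [h, Subgroup.index_top] at hMi
        omega
    · have := key _ hg
      rwa [card_centralizer_conj] at this

end Cfsg.Agent.Lib.Helper17
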