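import Mathlib
import Cfsg.Agent.Lib.Helper17.EngineLemmas
import Cfsg.Agent.Lib.Helper17.CosetTools
import Cfsg.Agent.Lib.Helper17.MiscTools
import Cfsg.Agent.Lib.Helper17.DvdTools
import Cfsg.Agent.Lib.Helper17.Order16
import Cfsg.Agent.S1017

set_option autoImplicit false

namespace Cfsg.Agent.Lib.Helper17

open Subgroup MulAction

section

variable {G : Type*} [Group G] [Finite G] [IsSimpleGroup G]

/-- A subgroup of index at most `6` is impossible in a simple group of order `> 360`. -/
theorem false_of_index_le_six (hnc : ¬ IsMulCommutative G) (hG : 360 < Nat.card G)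
    (H : Subgroup G) (h1 : 1 < H.index) (h6 : H.index ≤ 6) : False := by
  have hne : H ≠ ⊤ := by
    intro h
    rw [h, Subgroup.index_top] at h1
    omega
  have h2 := two_mul_card_dvd_factorial_of_simple hnc H hne
  have h3 : (H.index).factorial ∣ (6 : ℕ).factorial := Nat.factorial_dvd_factorial h6
  have h4 := Nat.le_of_dvd (by decide) (h2.trans h3)
  have h5 : (6 : ℕ).factorial = 720 := by decide
  omega

theorem not_simple_1008 (hnc : ¬ IsMulCommutative G) (hG : Nat.card G = 1008) : False := by
  haveI : Fact (Nat.Prime 7) := ⟨by norm_num⟩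
  haveI : Fact (Nat.Prime 2) := ⟨Nat.prime_two⟩
  have hG7 : Nat.card G = 7 ^ 1 * 144 := by rw [hG]; norm_num
  have hG2 : Nat.card G = 2 ^ 4 * 63 := by rw [hG]; norm_num
  obtain ⟨P⟩ : Nonempty (Sylow 7 G) := inferInstance
  obtain ⟨hP, hdvd, hmod, hgt, hN⟩ := sylow_basic hG7 (by norm_num) le_rfl (by norm_num) P
  rw [pow_one] at hP hN
  have hcases := forall_dvd_of_allLt 144 (fun d => d % 7 = 1 → d = 1 ∨ d = 8 ∨ d = 36)
    (by decide +kernel) (by norm_num)
  rcases hcases _ hdvd hmod with h | h | h
  · omega
  · apply dtest_toolN hnc (by norm_num : (7 : ℕ) ≠ 2) hG hG7 (by norm_num) (by norm_num) h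
    rw [h]
    decide
  · rw [h] at hN
    have hN28 : Nat.card ↥(normalizer ((P : Subgroup G) : Set G)) = 7 * 4 := by
      rw [hN]
    obtain ⟨r, hr6, hr4, hr1, hCr, hPC, hCN⟩ :=
      card_centralizer_sylow_mul P hP (by rw [hG]; norm_num) hN28
    have hr2 : r = 2 := by
      have h2 : r ∣ Nat.gcd (7 - 1) 4 := Nat.dvd_gcd hr6 hr4
      norm_num at h2
      have := Nat.le_of_dvd (by norm_num) h2
      interval_cases r
      · simp at h2
      · exact absurd rfl hr1
      · rfl
    subst hr2
    set N := normalizer ((P : Subgroup G) : Set G) with hNdef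
    set C := centralizer ((P : Subgroup G) : Set G) with hCdef
    have hC14 : Nat.card ↥C = 14 := by omega
    obtain ⟨t, htC, ht, ht1⟩ := exists_involution_of_even C (by rw [hC14]; norm_num)
    have hcommCP : ∀ c ∈ C, ∀ a ∈ (P : Subgroup G), a * c = c * a := by
      intro c hc a ha
      exact mem_centralizer_iff.mp hc a ha
    have hCt : C ≤ centralizer ({t} : Set G) :=
      le_centralizer_of_involution C (P : Subgroup G) hPC hcommCP (e := 1) (by norm_num)
        (by rw [hC14, hP]; norm_num) (by rw [hP]; norm_num) t htC ht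
    set Ct := centralizer ({t} : Set G) with hCtdef
    have h8 := eight_dvd_card_centralizer_of_involution hnc hG2 (by norm_num) t ht ht1
    have h14 : 14 ∣ Nat.card ↥Ct := by
      have := Subgroup.card_dvd_of_le hCt
      rwa [hC14] at this
    have hCtdvd : Nat.card ↥Ct ∣ 1008 := hG ▸ Subgroup.card_subgroup_dvd_card Ct
    have hPCt : (P : Subgroup G) ≤ Ct := hPC.trans hCt
    have hmodCt := relIndex_normalizer_modEq_one P Ct hPCt
    have hmul := card_inf_mul_relIndex N Ct
    have hCle : C ≤ N ⊓ Ct := le_inf hCN hCt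
    have h14' : 14 ∣ Nat.card ↥(N ⊓ Ct : Subgroup G) := by
      have := Subgroup.card_dvd_of_le hCle
      rwa [hC14] at this
    have h28' : Nat.card ↥(N ⊓ Ct : Subgroup G) ∣ 28 := by
      have := Subgroup.card_dvd_of_le (inf_le_left : N ⊓ Ct ≤ N)
      rwa [hN28] at this
    have hcs := forall_dvd_of_allLt 1008
      (fun d => 8 ∣ d → 14 ∣ d → d = 56 ∨ d = 112 ∨ d = 168 ∨ d = 336 ∨ d = 504 ∨ d = 1008)
      (by decide +kernel) (by norm_num)
    have hidxmul := Ct.card_mul_index
    rw [hG] at hidxmul
    rcases hcs _ hCtdvd h8 h14 with h | h | h | h | h | h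
    · rw [h] at hmul
      have hmod' : N.relIndex Ct % 7 = 1 := hmodCt
      obtain ⟨j, hj⟩ := h14'
      have hle := Nat.le_of_dvd (by norm_num) h28'
      rw [hj] at hmul hle
      have hj12 : j = 1 ∨ j = 2 := by
        rcases Nat.eq_zero_or_pos j with h0 | h0
        · rw [h0] at hmul; omega
        · omega
      rcases hj12 with rfl | rfl <;> omega
    · rw [h] at hidxmul
      have hidx : Ct.index = 9 := by omega
      exact Cfsg.Agent.S1017.no_index_nine hnc (P : Subgroup G) hP t ht ht1
        (fun a ha => mem_centralizer_iff.mp htC a ha) Ct hidx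
    · rw [h] at hidxmul
      exact false_of_index_le_six hnc (by rw [hG]; norm_num) Ct (by omega) (by omega)
    · rw [h] at hidxmul
      exact false_of_index_le_six hnc (by rw [hG]; norm_num) Ct (by omega) (by omega)
    · rw [h] at hidxmul
      exact false_of_index_le_six hnc (by rw [hG]; norm_num) Ct (by omega) (by omega)
    · apply centralizer_singleton_ne_top hnc t ht1
      exact Subgroup.eq_top_of_card_eq _ (by rw [h, hG])

end

end Cfsg.Agent.Lib.Helper17
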