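import Mathlib
import Cfsg.Agent.Lib.Helper17.EngineLemmas
import Cfsg.Agent.Lib.Helper17.CosetTools
import Cfsg.Agent.Lib.Helper17.MiscTools
import Cfsg.Agent.Lib.Helper17.DvdTools
import Cfsg.Agent.Lib.Helper17.Order16
import Cfsg.Agent.Lib.Helper17.CountTools
import Cfsg.Agent.Lib.Helper17.FixSylow
import Cfsg.Agent.Lib.Helper17.TwoLocal

set_option autoImplicit false

namespace Cfsg.Agent.Lib.Helper17

open Subgroup MulAction

section

variable {G : Type*} [Group G] [Finite G] [IsSimpleGroup G]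

theorem o1040_sylow13 (hG : Nat.card G = 1040) (Q : Sylow 13 G) :
    Nat.card ↥(Q : Subgroup G) = 13 ∧ Nat.card (Sylow 13 G) = 40 ∧
      Nat.card ↥(normalizer ((Q : Subgroup G) : Set G)) = 26 ∧
      centralizer ((Q : Subgroup G) : Set G) = (Q : Subgroup G) := by
  haveI : Fact (Nat.Prime 13) := ⟨by norm_num⟩
  have hG13 : Nat.card G = 13 ^ 1 * 80 := by rw [hG]; norm_num
  obtain ⟨hQ, hdvd, hmod, hgt, hN⟩ := sylow_basic hG13 (by norm_num) le_rfl (by norm_num) Q
  rw [pow_one] at hQ hN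
  have hcases := forall_dvd_of_allLt 80 (fun d => d % 13 = 1 → d = 1 ∨ d = 40)
    (by decide +kernel) (by norm_num)
  have hn : Nat.card (Sylow 13 G) = 40 := by
    rcases hcases _ hdvd hmod with h | h
    · omega
    · exact h
  rw [hn] at hN
  have hN' : Nat.card ↥(normalizer ((Q : Subgroup G) : Set G)) = 13 * 2 := by rw [hN]
  exact ⟨hQ, hn, by rw [hN'],
    centralizer_sylow_eq_of_card_normalizer Nat.prime_two Q hQ (by rw [hG]; norm_num) hN'⟩

theorem o1040_inv (hnc : ¬ IsMulCommutative G) (hG : Nat.card G = 1040) (w : G)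
    (hw : w * w = 1) (hw1 : w ≠ 1) :
    8 ∣ Nat.card ↥(centralizer ({w} : Set G)) ∧
      ¬ 13 ∣ Nat.card ↥(centralizer ({w} : Set G)) := by
  haveI : Fact (Nat.Prime 13) := ⟨by norm_num⟩
  refine ⟨eight_dvd_card_centralizer_of_involution hnc
    (by rw [hG]; norm_num : Nat.card G = 2 ^ 4 * 65) (by norm_num) w hw hw1, ?_⟩
  intro h
  obtain ⟨Q⟩ : Nonempty (Sylow 13 G) := inferInstance
  obtain ⟨hQ, _, _, hCQ⟩ := o1040_sylow13 hG Q
  have h1 := pow_eq_one_of_dvd_card_centralizer Q hQ (by rw [hCQ, hQ]) w h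
  have h2 := orderOf_dvd_of_pow_eq_one h1
  rw [orderOf_eq_two_of_involution hw hw1] at h2
  omega

theorem o1040_exists_s (hnc : ¬ IsMulCommutative G) (hG : Nat.card G = 1040) :
    ∃ s : G, s * s = 1 ∧ s ≠ 1 ∧ Nat.card ↥(centralizer ({s} : Set G)) = 8 := by
  haveI : Fact (Nat.Prime 13) := ⟨by norm_num⟩
  obtain ⟨Q⟩ : Nonempty (Sylow 13 G) := inferInstance
  obtain ⟨hQ, hn, hNQ, hCQ⟩ := o1040_sylow13 hG Q
  obtain ⟨s, hsN, hs, hs1⟩ := exists_involution_of_even
    (normalizer ((Q : Subgroup G) : Set G)) (by rw [hNQ]; norm_num)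
  refine ⟨s, hs, hs1, ?_⟩
  have h2ord := orderOf_eq_two_of_involution hs hs1
  have hsQ : s ∉ (Q : Subgroup G) := by
    intro h
    have h1 := orderOf_eq_of_mem_of_card_prime (Q : Subgroup G) hQ s h hs1
    omega
  have hcent := eq_one_of_commute_of_centralizer_eq Q hQ hCQ s hsQ
  have hle := card_fixed_sylow_le Q hQ s hsN hcent
  have hfixeq : Nat.card {Q' : Sylow 13 G // s ∈ normalizer ((Q' : Subgroup G) : Set G)} =
      Nat.card (fixedBy (Sylow 13 G) s) := by
    apply Nat.card_congr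
    exact (Equiv.subtypeEquivRight (fun Q' => (mem_fixedBy_sylow_iff s Q'))).symm
  rw [hfixeq, hn] at hle
  have hpar := card_fixedBy_modEq_four hnc (X := Sylow 13 G) s hs
  rw [hn] at hpar
  have hpar' : Nat.card (fixedBy (Sylow 13 G) s) % 4 = 0 := by
    have : Nat.card (fixedBy (Sylow 13 G) s) % 4 = 40 % 4 := hpar
    omega
  have hpos : 0 < Nat.card (fixedBy (Sylow 13 G) s) := by
    haveI : Nonempty (fixedBy (Sylow 13 G) s) := ⟨⟨Q, (mem_fixedBy_sylow_iff s Q).mpr hsN⟩⟩
    exact Nat.card_pos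
  have hfix4 : Nat.card (fixedBy (Sylow 13 G) s) = 4 := by omega
  have hdc := dc_sylow Q s
  rw [hn, hfix4, hG] at hdc
  obtain ⟨h8, h13⟩ := o1040_inv hnc hG s hs hs1
  set c := Nat.card ↥(centralizer ({s} : Set G)) with hc
  set k := Nat.card {w : G // IsConj s w ∧ w ∈ normalizer ((Q : Subgroup G) : Set G)} with hk
  have hkc : k * c = 104 := Nat.eq_of_mul_eq_mul_right (by norm_num : 0 < 40) (by rw [hdc])
  have hc104 : c ∣ 104 := Dvd.intro_left k hkc
  have hcop : Nat.Coprime c 13 := by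
    rw [Nat.coprime_comm]
    exact (Nat.Prime.coprime_iff_not_dvd (by norm_num)).mpr h13
  have hc8 : c ∣ 8 := by
    have : c ∣ 8 * 13 := by simpa using hc104
    exact hcop.dvd_of_dvd_mul_right this
  exact Nat.dvd_antisymm hc8 h8

theorem o1040_sylow5 (hnc : ¬ IsMulCommutative G) (hG : Nat.card G = 1040) (P : Sylow 5 G) :
    Nat.card ↥(P : Subgroup G) = 5 ∧ Nat.card (Sylow 5 G) = 26 ∧
      Nat.card ↥(normalizer ((P : Subgroup G) : Set G)) = 40 ∧
      (Nat.card ↥(centralizer ((P : Subgroup G) : Set G)) = 10 ∨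
        Nat.card ↥(centralizer ((P : Subgroup G) : Set G)) = 20) ∧
      (P : Subgroup G) ≤ centralizer ((P : Subgroup G) : Set G) ∧
      centralizer ((P : Subgroup G) : Set G) ≤ normalizer ((P : Subgroup G) : Set G) := by
  haveI : Fact (Nat.Prime 5) := ⟨by norm_num⟩
  have hG5 : Nat.card G = 5 ^ 1 * 208 := by rw [hG]; norm_num
  obtain ⟨hP, hdvd, hmod, hgt, hN⟩ := sylow_basic hG5 (by norm_num) le_rfl (by norm_num) P
  rw [pow_one] at hP hN
  have hcases := forall_dvd_of_allLt 208 (fun d => d % 5 = 1 → d = 1 ∨ d = 16 ∨ d = 26)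
    (by decide +kernel) (by norm_num)
  have hn : Nat.card (Sylow 5 G) = 26 := by
    rcases hcases _ hdvd hmod with h | h | h
    · omega
    · exfalso
      apply dtest_nc1 hG5 (by norm_num) (by norm_num)
      rw [h]
      norm_num
    · exact h
  rw [hn] at hN
  have hN' : Nat.card ↥(normalizer ((P : Subgroup G) : Set G)) = 5 * 8 := by rw [hN]
  obtain ⟨r, hr4, hr8, hr1, hCr, hPC, hCN⟩ :=
    card_centralizer_sylow_mul P hP (by rw [hG]; norm_num) hN'
  refine ⟨hP, hn, by rw [hN'], ?_, hPC, hCN⟩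
  have hr : r = 2 ∨ r = 4 := by
    have h4 : r ∣ 4 := by simpa using hr4
    have := Nat.le_of_dvd (by norm_num) h4
    interval_cases r
    · simp at h4
    · exact absurd rfl hr1
    · left; rfl
    · exact absurd h4 (by decide)
    · right; rfl
  rcases hr with rfl | rfl
  · right; omega
  · left; omega

theorem o1040_F5 (hnc : ¬ IsMulCommutative G) (hG : Nat.card G = 1040) (P : Sylow 5 G) (t : G)
    (htC : t ∈ centralizer ((P : Subgroup G) : Set G)) (ht : t * t = 1) (ht1 : t ≠ 1) :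
    centralizer ({t} : Set G) = normalizer ((P : Subgroup G) : Set G) := by
  haveI : Fact (Nat.Prime 5) := ⟨by norm_num⟩
  haveI : Fact (Nat.Prime 2) := ⟨Nat.prime_two⟩
  obtain ⟨hP, hn, hN, hC, hPC, hCN⟩ := o1040_sylow5 hnc hG P
  obtain ⟨h8, h13⟩ := o1040_inv hnc hG t ht ht1
  set N := normalizer ((P : Subgroup G) : Set G) with hNdef
  set C := centralizer ((P : Subgroup G) : Set G) with hCdef
  set Ct := centralizer ({t} : Set G) with hCtdef
  have hcommCP : ∀ c ∈ C, ∀ a ∈ (P : Subgroup G), a * c = c * a :=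
    fun c hc a ha => mem_centralizer_iff.mp hc a ha
  have hCt : C ≤ Ct := by
    rcases hC with h | h
    · exact le_centralizer_of_involution C (P : Subgroup G) hPC hcommCP (e := 1) (by norm_num)
        (by rw [h, hP]; norm_num) (by rw [hP]; norm_num) t htC ht
    · exact le_centralizer_of_involution C (P : Subgroup G) hPC hcommCP (e := 2) le_rfl
        (by rw [h, hP]; norm_num) (by rw [hP]; norm_num) t htC ht
  have h10 : 10 ∣ Nat.card ↥C := by
    rcases hC with h | h <;> rw [h] <;> norm_num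
  have h10t : 10 ∣ Nat.card ↥Ct := h10.trans (Subgroup.card_dvd_of_le hCt)
  have hCtdvd : Nat.card ↥Ct ∣ 1040 := hG ▸ Subgroup.card_subgroup_dvd_card Ct
  have hcs := forall_dvd_of_allLt 1040
    (fun d => 8 ∣ d → 10 ∣ d → ¬ 13 ∣ d → d = 40 ∨ d = 80) (by decide +kernel) (by norm_num)
  have hPCt : (P : Subgroup G) ≤ Ct := hPC.trans hCt
  have hmod := relIndex_normalizer_modEq_one P Ct hPCt
  have hmul := card_inf_mul_relIndex N Ct
  have hCle : C ≤ N ⊓ Ct := le_inf hCN hCt
  have h10' : 10 ∣ Nat.card ↥(N ⊓ Ct : Subgroup G) := h10.trans (Subgroup.card_dvd_of_le hCle)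
  have h40' : Nat.card ↥(N ⊓ Ct : Subgroup G) ∣ 40 := by
    have := Subgroup.card_dvd_of_le (inf_le_left : N ⊓ Ct ≤ N)
    rwa [hN] at this
  have key : Nat.card ↥(N ⊓ Ct : Subgroup G) = 40 ∧ Nat.card ↥Ct = 40 := by
    have hmod' : N.relIndex Ct % 5 = 1 := hmod
    obtain ⟨j, hj⟩ := h10'
    have hle := Nat.le_of_dvd (by norm_num) h40'
    rw [hj] at hmul hle h40' ⊢
    have hjpos : 0 < j := by
      rcases Nat.eq_zero_or_pos j with h0 | h0
      · rw [h0] at h40'; simp at h40'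
      · exact h0
    have hj4 : j ≤ 4 := by omega
    rcases hcs _ hCtdvd h8 h10t h13 with h | h
    · rw [h] at hmul ⊢
      interval_cases j
      · omega
      · omega
      · omega
      · exact ⟨rfl, rfl⟩
    · rw [h] at hmul
      exfalso
      interval_cases j
      · omega
      · omega
      · omega
      · omega
  have e1 : N ⊓ Ct = N := Subgroup.eq_of_le_of_card_ge inf_le_left (by rw [key.1, hN])
  have e2 : N ⊓ Ct = Ct := Subgroup.eq_of_le_of_card_ge inf_le_right (by rw [key.1, key.2])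
  rw [← e2, e1]

theorem o1040_unique_conj (hnc : ¬ IsMulCommutative G) (hG : Nat.card G = 1040) (P : Sylow 5 G)
    (t : G) (htC : t ∈ centralizer ((P : Subgroup G) : Set G)) (ht : t * t = 1) (ht1 : t ≠ 1)
    (w : G) (hw : IsConj t w) (hwC : w ∈ centralizer ((P : Subgroup G) : Set G)) : w = t := by
  haveI : Fact (Nat.Prime 5) := ⟨by norm_num⟩
  obtain ⟨g, rfl⟩ := isConj_iff.mp hw
  have hw2 : (g * t * g⁻¹) * (g * t * g⁻¹) = 1 := by
    calc (g * t * g⁻¹) * (g * t * g⁻¹) = g * (t * t) * g⁻¹ := by group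
      _ = 1 := by rw [ht]; group
  have hw1 : g * t * g⁻¹ ≠ 1 := by
    intro h
    apply ht1
    have : t = g⁻¹ * (g * t * g⁻¹) * g := by group
    rw [this, h]
    group
  have e1 := o1040_F5 hnc hG P (g * t * g⁻¹) hwC hw2 hw1
  have e2 := o1040_F5 hnc hG (g • P) (g * t * g⁻¹) (conj_mem_centralizer_smul P g t htC) hw2 hw1
  have e3 := o1040_F5 hnc hG P t htC ht ht1
  have hle : ((g • P : Sylow 5 G) : Subgroup G) ≤ normalizer ((P : Subgroup G) : Set G) := by
    rw [← e1, e2]
    exact Subgroup.le_normalizer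
  have hgP : g • P = P := sylow_eq_of_le_normalizer P (g • P) hle
  have hgN : g ∈ normalizer ((P : Subgroup G) : Set G) :=
    Sylow.smul_eq_iff_mem_normalizer.mp hgP
  rw [← e3, mem_centralizer_singleton_iff] at hgN
  rw [← hgN]
  group

theorem not_simple_1040 (hnc : ¬ IsMulCommutative G) (hG : Nat.card G = 1040) : False := by
  haveI : Fact (Nat.Prime 5) := ⟨by norm_num⟩
  haveI : Fact (Nat.Prime 2) := ⟨Nat.prime_two⟩
  obtain ⟨P⟩ : Nonempty (Sylow 5 G) := inferInstance
  obtain ⟨hP, hn, hN, hC, hPC, hCN⟩ := o1040_sylow5 hnc hG P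
  set N := normalizer ((P : Subgroup G) : Set G) with hNdef
  set C := centralizer ((P : Subgroup G) : Set G) with hCdef
  have hw_inv : ∀ w : G, w * w = 1 → w⁻¹ = w := fun w h => inv_eq_of_mul_eq_one_left h
  obtain ⟨t, htC, ht, ht1⟩ := exists_involution_of_even C
    (by rcases hC with h | h <;> rw [h] <;> norm_num)
  have hCt := o1040_F5 hnc hG P t htC ht ht1
  have hcomm : ∀ a ∈ (P : Subgroup G), a * t = t * a :=
    fun a ha => mem_centralizer_iff.mp htC a ha
  obtain ⟨c1, c2, c3, c4⟩ := involution_sylow_count hnc P (by rw [hn]; norm_num) t ht ht1 hcomm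
  rw [hn] at c2 c3 c4
  have hfix6 : Nat.card (fixedBy (Sylow 5 G) t) = 6 := by omega
  rw [hfix6, hG, hCt, hN] at c4
  have c4' : Nat.card {w : G // IsConj t w ∧ w ∈ N} * 40 * 26 = 6 * 1040 := c4
  have hk6 : Nat.card {w : G // IsConj t w ∧ w ∈ N} = 6 := by omega
  -- conjugates of t in N outside C
  have hA1 : Nat.card {w : G // IsConj t w ∧ w ∈ N ∧ w ∉ C} = 5 := by
    have htK : IsConj t t ∧ t ∈ N := ⟨IsConj.refl t, hCN htC⟩
    have e : {w : G // IsConj t w ∧ w ∈ N ∧ w ∉ C} ≃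
        {x : {w : G // IsConj t w ∧ w ∈ N} // x ≠ ⟨t, htK⟩} :=
      { toFun := fun w => ⟨⟨w.1, w.2.1, w.2.2.1⟩, fun h => w.2.2.2 (by
          have := congrArg Subtype.val h
          simp only at this
          rw [this]
          exact htC)⟩
        invFun := fun x => ⟨x.1.1, x.1.2.1, x.1.2.2, fun hxC => x.2 (Subtype.ext
          (o1040_unique_conj hnc hG P t htC ht ht1 x.1.1 x.1.2.1 hxC))⟩
        left_inv := fun w => rfl
        right_inv := fun x => rfl }
    rw [Nat.card_congr e, card_subtype_ne, hk6]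
  -- the class of s
  obtain ⟨s, hs, hs1, hs8⟩ := o1040_exists_s hnc hG
  have hB : 10 ≤ Nat.card {w : G // IsConj s w ∧ w ∈ N} := by
    have hdc := dc_sylow P s
    rw [hn, hG, hs8] at hdc
    have hpar := card_fixedBy_modEq_four hnc (X := Sylow 5 G) s hs
    rw [hn] at hpar
    have hpar' : Nat.card (fixedBy (Sylow 5 G) s) % 4 = 2 := by
      have : Nat.card (fixedBy (Sylow 5 G) s) % 4 = 26 % 4 := hpar
      omega
    have hdc' : Nat.card {w : G // IsConj s w ∧ w ∈ N} * 8 * 26 =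
        Nat.card (fixedBy (Sylow 5 G) s) * 1040 := hdc
    omega
  have hBprop : ∀ w : G, IsConj s w → w ∈ N → (w * w = 1 ∧ w ≠ 1 ∧ w ∉ C) := by
    intro w hw hwN
    have hw2 := mul_self_eq_one_of_isConj hw hs
    have hw1 := ne_one_of_isConj hw hs1
    refine ⟨hw2, hw1, ?_⟩
    intro hwC
    have e1 := o1040_F5 hnc hG P w hwC hw2 hw1
    have := card_centralizer_of_isConj hw
    rw [e1, hN, hs8] at this
    omega
  have hAprop : ∀ w : G, IsConj t w → (w * w = 1 ∧ w ≠ 1) :=
    fun w hw => ⟨mul_self_eq_one_of_isConj hw ht, ne_one_of_isConj hw ht1⟩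
  have hI15 : 15 ≤ Nat.card {w : G // w * w = 1 ∧ w ≠ 1 ∧ w ∈ N ∧ w ∉ C} := by
    have hdisj := card_add_card_le_of_disjoint
      (α := {w : G // w * w = 1 ∧ w ≠ 1 ∧ w ∈ N ∧ w ∉ C})
      (fun w => IsConj t w.1) (fun w => IsConj s w.1) (by
        intro w h1 h2
        have e1 := card_centralizer_of_isConj h1
        have e2 := card_centralizer_of_isConj h2
        rw [e1, hCt, hN, hs8] at e2
        omega)
    have eA : Nat.card {w : {w : G // w * w = 1 ∧ w ≠ 1 ∧ w ∈ N ∧ w ∉ C} // IsConj t w.1} =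
        Nat.card {w : G // IsConj t w ∧ w ∈ N ∧ w ∉ C} := by
      apply Nat.card_congr
      exact
        { toFun := fun w => ⟨w.1.1, w.2, w.1.2.2.2.1, w.1.2.2.2.2⟩
          invFun := fun w => ⟨⟨w.1, (hAprop w.1 w.2.1).1, (hAprop w.1 w.2.1).2, w.2.2.1,
            w.2.2.2⟩, w.2.1⟩
          left_inv := fun w => rfl
          right_inv := fun w => rfl }
    have eB : Nat.card {w : {w : G // w * w = 1 ∧ w ≠ 1 ∧ w ∈ N ∧ w ∉ C} // IsConj s w.1} =
        Nat.card {w : G // IsConj s w ∧ w ∈ N} := by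
      apply Nat.card_congr
      exact
        { toFun := fun w => ⟨w.1.1, w.2, w.1.2.2.2.1⟩
          invFun := fun w => ⟨⟨w.1, (hBprop w.1 w.2.1 w.2.2).1, (hBprop w.1 w.2.1 w.2.2).2.1,
            w.2.2, (hBprop w.1 w.2.1 w.2.2).2.2⟩, w.2.1⟩
          left_inv := fun w => rfl
          right_inv := fun w => rfl }
    rw [eA, eB, hA1] at hdisj
    omega
  -- a conjugate t' of t in N outside C
  obtain ⟨⟨t', ht'conj, ht'N, ht'C⟩⟩ : Nonempty {w : G // IsConj t w ∧ w ∈ N ∧ w ∉ C} :=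
    (Nat.card_pos_iff.mp (by rw [hA1]; norm_num)).1
  have ht'2 := mul_self_eq_one_of_isConj ht'conj ht
  have ht'1 := ne_one_of_isConj ht'conj ht1
  have hinj : ∀ w : G, w * w = 1 → w ∈ N → w ∉ C → t'⁻¹ * w ∈ C := by
    intro w hw2 hwN hwC
    exact inv_mul_mem_centralizer_of_sq (by norm_num : Nat.Prime 5) (P : Subgroup G) hP t' w
      ht'N hwN ht'2 hw2 ht'C hwC
  have hIC : Nat.card {w : G // w * w = 1 ∧ w ≠ 1 ∧ w ∈ N ∧ w ∉ C} ≤ Nat.card ↥C := by
    apply Nat.card_le_card_of_injective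
      (fun w : {w : G // w * w = 1 ∧ w ≠ 1 ∧ w ∈ N ∧ w ∉ C} =>
        (⟨t'⁻¹ * w.1, hinj w.1 w.2.1 w.2.2.2.1 w.2.2.2.2⟩ : ↥C))
    intro a b hab
    have := congrArg Subtype.val hab
    simp only [mul_right_inj] at this
    exact Subtype.ext this
  have hC20 : Nat.card ↥C = 20 := by
    rcases hC with h | h
    · rw [h] at hIC; omega
    · exact h
  have hCcomm : ∀ a ∈ C, ∀ b ∈ C, a * b = b * a := by
    apply comm_of_center_large C (P : Subgroup G) hPC hP (by norm_num) (by rw [hC20])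
      (fun a ha c hc => (mem_centralizer_iff.mp hc a ha)) t htC ht ht1
    intro c hc
    have : c ∈ centralizer ({t} : Set G) := by rw [hCt]; exact hCN hc
    exact mem_centralizer_singleton_iff.mp this
  -- the subgroup inverted by t'
  let J : Subgroup G :=
    { carrier := {c | c ∈ C ∧ t' * c * t'⁻¹ = c⁻¹}
      mul_mem' := by
        rintro a b ⟨ha, ha'⟩ ⟨hb, hb'⟩
        refine ⟨C.mul_mem ha hb, ?_⟩
        calc t' * (a * b) * t'⁻¹ = (t' * a * t'⁻¹) * (t' * b * t'⁻¹) := by group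
          _ = a⁻¹ * b⁻¹ := by rw [ha', hb']
          _ = (b * a)⁻¹ := by group
          _ = (a * b)⁻¹ := by rw [hCcomm b hb a ha]
      one_mem' := ⟨C.one_mem, by group⟩
      inv_mem' := by
        rintro a ⟨ha, ha'⟩
        refine ⟨C.inv_mem ha, ?_⟩
        calc t' * a⁻¹ * t'⁻¹ = (t' * a * t'⁻¹)⁻¹ := by group
          _ = (a⁻¹)⁻¹ := by rw [ha'] }
  have hJC : J ≤ C := fun c hc => hc.1
  have hJmem : ∀ w : G, w * w = 1 → t' * (t'⁻¹ * w) * t'⁻¹ = (t'⁻¹ * w)⁻¹ := by
    intro w hw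
    have h1 := hw_inv w hw
    have h2 := hw_inv t' ht'2
    rw [mul_inv_rev, inv_inv, h1, mul_inv_cancel_left, h2]
  have hIJ : Nat.card {w : G // w * w = 1 ∧ w ≠ 1 ∧ w ∈ N ∧ w ∉ C} ≤ Nat.card ↥J := by
    apply Nat.card_le_card_of_injective
      (fun w : {w : G // w * w = 1 ∧ w ≠ 1 ∧ w ∈ N ∧ w ∉ C} =>
        (⟨t'⁻¹ * w.1, ⟨hinj w.1 w.2.1 w.2.2.2.1 w.2.2.2.2, hJmem w.1 w.2.1⟩⟩ : ↥J))
    intro a b hab
    have := congrArg Subtype.val hab
    simp only [mul_right_inj] at this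
    exact Subtype.ext this
  have hJ20 : J = C := by
    have h1 : Nat.card ↥J ∣ 20 := hC20 ▸ Subgroup.card_dvd_of_le hJC
    have h2 : 15 ≤ Nat.card ↥J := hI15.trans hIJ
    have hcs := forall_dvd_of_allLt 20 (fun d => 15 ≤ d → d = 20) (by decide +kernel)
      (by norm_num)
    exact Subgroup.eq_of_le_of_card_ge hJC (by rw [hcs _ h1 h2, hC20])
  have hinvC : ∀ c ∈ C, t' * c * t'⁻¹ = c⁻¹ := by
    intro c hc
    have : c ∈ J := by rw [hJ20]; exact hc
    exact this.2
  -- t is the unique involution of C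
  have huniq : ∀ e ∈ C, e * e = 1 → e ≠ 1 → e = t := by
    intro e heC he he1
    by_contra hne
    obtain ⟨g, hg⟩ := isConj_iff.mp ht'conj
    obtain ⟨P', hP'⟩ : ∃ P' : Sylow 5 G, P' = g • P := ⟨_, rfl⟩
    have ht'C' : t' ∈ centralizer ((P' : Subgroup G) : Set G) := by
      rw [← hg, hP']
      exact conj_mem_centralizer_smul P g t htC
    have hCt' := o1040_F5 hnc hG P' t' ht'C' ht'2 ht'1
    obtain ⟨hP'5, _, hN'40, hC', hP'C', hC'N'⟩ := o1040_sylow5 hnc hG P'
    have hC'20 : Nat.card ↥(centralizer ((P' : Subgroup G) : Set G)) = 20 := by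
      rw [card_centralizer_sylow_eq P P']
      exact hC20
    have hmemN' : ∀ x ∈ C, x * x = 1 → x ≠ 1 →
        x ∈ normalizer ((P' : Subgroup G) : Set G) := by
      intro x hxC hx hx1
      have e1 := o1040_F5 hnc hG P x hxC hx hx1
      rw [← hCt', mem_centralizer_singleton_iff]
      have : t' ∈ centralizer ({x} : Set G) := by rw [e1]; exact ht'N
      exact (mem_centralizer_singleton_iff.mp this).symm
    have hkey : ∀ x ∈ C, x * x = 1 → x ≠ 1 →
        x ∉ centralizer ((P' : Subgroup G) : Set G) := by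
      intro x hxC hx hx1 hxC'
      have e1 := o1040_F5 hnc hG P x hxC hx hx1
      have e2 := o1040_F5 hnc hG P' x hxC' hx hx1
      have hle : ((P' : Sylow 5 G) : Subgroup G) ≤ normalizer ((P : Subgroup G) : Set G) := by
        rw [← e1, e2]
        exact Subgroup.le_normalizer
      have hPP' : P' = P := sylow_eq_of_le_normalizer P P' hle
      apply ht'C
      rw [hPP'] at ht'C'
      exact ht'C'
    have het_comm : e * t = t * e := hCcomm e heC t htC
    have het2 : (e * t) * (e * t) = 1 := by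
      calc (e * t) * (e * t) = e * (t * e) * t := by group
        _ = e * (e * t) * t := by rw [het_comm]
        _ = (e * e) * (t * t) := by group
        _ = 1 := by rw [he, ht, one_mul]
    have het1 : e * t ≠ 1 := by
      intro h
      apply hne
      have : e = t⁻¹ := eq_inv_of_mul_eq_one_left h
      rw [this, hw_inv t ht]
    have hetC : e * t ∈ C := C.mul_mem heC htC
    have hidx : Nat.card ↥(normalizer ((P' : Subgroup G) : Set G)) =
        2 * Nat.card ↥(centralizer ((P' : Subgroup G) : Set G)) := by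
      rw [hN'40, hC'20]
    have hmul := mul_mem_iff_of_card_two_mul _ _ hC'N' hidx e t (hmemN' e heC he he1)
      (hmemN' t htC ht ht1)
    have h1 := hkey e heC he he1
    have h2 := hkey t htC ht ht1
    have h3 := hkey (e * t) hetC het2 het1
    exact h3 (hmul.mpr ⟨fun h => absurd h h1, fun h => absurd h h2⟩)
  -- fibre bound
  have hfmem : ∀ d ∈ C, IsConj t (d * t' * d⁻¹) ∧ d * t' * d⁻¹ ∈ N := by
    intro d hd
    refine ⟨ht'conj.trans (isConj_iff.mpr ⟨d, rfl⟩), ?_⟩
    exact N.mul_mem (N.mul_mem (hCN hd) ht'N) (N.inv_mem (hCN hd))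
  have hfib := card_le_mul_of_fibers_le
    (fun d : ↥C => (⟨d.1 * t' * d.1⁻¹, hfmem d.1 d.2⟩ : {w : G // IsConj t w ∧ w ∈ N})) 2 (by
      intro b
      by_cases hne : Nonempty {d : ↥C //
          (⟨d.1 * t' * d.1⁻¹, hfmem d.1 d.2⟩ : {w : G // IsConj t w ∧ w ∈ N}) = b}
      · obtain ⟨⟨d₀, hd₀⟩⟩ := hne
        apply card_le_two_of_forall d₀ (d₀ * ⟨t, htC⟩)
        intro d hd
        have h1 : d.1 * t' * d.1⁻¹ = d₀.1 * t' * d₀.1⁻¹ :=
          congrArg Subtype.val (hd.trans hd₀.symm)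
        obtain ⟨c, hc⟩ : ∃ c : G, c = d₀.1⁻¹ * d.1 := ⟨_, rfl⟩
        have hcC : c ∈ C := by rw [hc]; exact C.mul_mem (C.inv_mem d₀.2) d.2
        have h2 : c * t' * c⁻¹ = t' := by
          calc c * t' * c⁻¹ = d₀.1⁻¹ * (d.1 * t' * d.1⁻¹) * d₀.1 := by rw [hc]; group
            _ = d₀.1⁻¹ * (d₀.1 * t' * d₀.1⁻¹) * d₀.1 := by rw [h1]
            _ = t' := by group
        have h3 : c * t' = t' * c := by
          have := congrArg (· * c) h2
          simpa [mul_assoc] using this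
        have hcomm' : t' * c * t'⁻¹ = c := by rw [← h3]; group
        have hcinv : c⁻¹ = c := by rw [← hinvC c hcC]; exact hcomm'
        have hc2 : c * c = 1 := by
          have := inv_mul_cancel c
          rwa [hcinv] at this
        have hd' : d.1 = d₀.1 * c := by rw [hc]; group
        by_cases hc1 : c = 1
        · left
          apply Subtype.ext
          rw [hd', hc1, mul_one]
        · right
          have := huniq c hcC hc2 hc1
          apply Subtype.ext
          rw [hd', this]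
          rfl
      · have : IsEmpty {d : ↥C //
            (⟨d.1 * t' * d.1⁻¹, hfmem d.1 d.2⟩ : {w : G // IsConj t w ∧ w ∈ N}) = b} :=
          not_nonempty_iff.mp hne
        rw [Nat.card_of_isEmpty]
        omega)
  rw [hC20, hk6] at hfib
  omega

end

end Cfsg.Agent.Lib.Helper17
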