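import Mathlib
import Cfsg.Agent.Lib.Helper17.EngineLemmas
import Cfsg.Agent.Lib.Helper17.CosetTools
import Cfsg.Agent.Lib.Helper17.MiscTools
import Cfsg.Agent.Lib.Helper17.DvdTools

set_option autoImplicit false

namespace Cfsg.Agent.Lib.Helper17

open Subgroup MulAction

section

variable {G : Type*} [Group G] [Finite G] [IsSimpleGroup G]

theorem not_simple_1080 (hnc : ¬ IsMulCommutative G) (hG : Nat.card G = 1080) : False := by
  haveI : Fact (Nat.Prime 5) := ⟨by norm_num⟩
  haveI : Fact (Nat.Prime 3) := ⟨by norm_num⟩
  have hG5 : Nat.card G = 5 ^ 1 * 216 := by rw [hG]; norm_num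
  have hG3 : Nat.card G = 3 ^ 3 * 40 := by rw [hG]; norm_num
  obtain ⟨P⟩ : Nonempty (Sylow 5 G) := inferInstance
  obtain ⟨hP, hdvd, hmod, hgt, hN⟩ := sylow_basic hG5 (by norm_num) le_rfl (by norm_num) P
  rw [pow_one] at hP hN
  have hcases := forall_dvd_of_allLt 216 (fun d => d % 5 = 1 → d = 1 ∨ d = 6 ∨ d = 36 ∨ d = 216)
    (by decide +kernel) (by norm_num)
  rcases hcases _ hdvd hmod with h | h | h | h
  · omega
  · apply dtest_fact hnc hG hG5 (by norm_num) le_rfl (by norm_num)
    rw [h]
    decide
  · -- the main case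
    rw [h] at hN
    have hN30 : Nat.card ↥(normalizer ((P : Subgroup G) : Set G)) = 5 * 6 := by
      rw [hN]
    obtain ⟨r, hr4, hr6, hr1, hCr, hPC, hCN⟩ :=
      card_centralizer_sylow_mul P hP (by rw [hG]; norm_num) hN30
    have hr2 : r = 2 := by
      have h2 : r ∣ Nat.gcd (5 - 1) 6 := Nat.dvd_gcd hr4 hr6
      norm_num at h2
      have := Nat.le_of_dvd (by norm_num) h2
      interval_cases r
      · simp at h2
      · exact absurd rfl hr1
      · rfl
    subst hr2
    set N := normalizer ((P : Subgroup G) : Set G) with hNdef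
    set C := centralizer ((P : Subgroup G) : Set G) with hCdef
    have hC15 : Nat.card ↥C = 15 := by omega
    have hC15' : Nat.card ↥C = 3 ^ 1 * 5 := by rw [hC15]; norm_num
    obtain ⟨T'⟩ : Nonempty (Sylow 3 ↥C) := inferInstance
    have hT' : Nat.card ↥(T' : Subgroup ↥C) = 3 := by
      have := card_sylow_of_card_eq T' hC15' (by norm_num)
      simpa using this
    have hn3C : Nat.card (Sylow 3 ↥C) = 1 := by
      have h1 := card_sylow_modEq_one 3 ↥C
      have h2 := T'.card_dvd_index
      have hidx : (T' : Subgroup ↥C).index = 5 := index_sylow_of_card_eq T' hC15' (by norm_num)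
      rw [hidx] at h2
      rcases (Nat.dvd_prime (by norm_num : Nat.Prime 5)).mp h2 with h3 | h3
      · exact h3
      · rw [h3] at h1
        exact absurd h1 (by decide)
    obtain ⟨T, hTC, hTcard, hTmem, hTnorm⟩ := exists_unique_sylow_subgroup (p := 3) C hn3C
    have hT3 : Nat.card ↥T = 3 := by
      rw [hTcard, ← T'.card_eq_multiplicity, hT']
    have hNT : N ≤ normalizer (T : Set G) :=
      (normalizer_le_normalizer_centralizer (P : Subgroup G)).trans hTnorm
    set M := normalizer (T : Set G) with hMdef
    have h30 : 30 ∣ Nat.card ↥M := by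
      have := Subgroup.card_dvd_of_le hNT
      rwa [hN30] at this
    have h9 : 9 ∣ Nat.card ↥M := by
      have hTpg : IsPGroup 3 T := IsPGroup.of_card (n := 1) (by rw [hT3]; norm_num)
      obtain ⟨S, hS⟩ := hTpg.exists_le_sylow
      have hS27 : Nat.card ↥(S : Subgroup G) = 27 := by
        have := card_sylow_of_card_eq S hG3 (by norm_num)
        rw [this]; norm_num
      have hlt : T < (S : Subgroup G) := by
        refine lt_of_le_of_ne hS ?_
        intro h
        rw [h, hS27] at hT3
        omega
      have hgrow := card_lt_card_inf_normalizer (S : Subgroup G) T S.2 hlt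
      have hdvd27 : Nat.card ↥((S : Subgroup G) ⊓ M : Subgroup G) ∣ 27 := by
        rw [← hS27]; exact Subgroup.card_dvd_of_le inf_le_left
      have hdvdM : Nat.card ↥((S : Subgroup G) ⊓ M : Subgroup G) ∣ Nat.card ↥M :=
        Subgroup.card_dvd_of_le inf_le_right
      have hcs := forall_dvd_of_allLt 27 (fun d => 3 < d → 9 ∣ d) (by decide +kernel)
        (by norm_num)
      rw [hT3] at hgrow
      exact (hcs _ hdvd27 hgrow).trans hdvdM
    have hMdvd : Nat.card ↥M ∣ 1080 := hG ▸ Subgroup.card_subgroup_dvd_card M
    have hPM : (P : Subgroup G) ≤ M := (Subgroup.le_normalizer).trans hNT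
    have hmodM := relIndex_normalizer_modEq_one P M hPM
    have hmul := card_inf_mul_relIndex N M
    rw [inf_of_le_left hNT, hN30] at hmul
    have hrel : (Nat.card ↥M / 30) % 5 = 1 := by
      rw [← hmul]
      norm_num
      exact hmodM
    have hcsM := forall_dvd_of_allLt 1080
      (fun d => 30 ∣ d → 9 ∣ d → (d / 30) % 5 = 1 → d = 180 ∨ d = 1080)
      (by decide +kernel) (by norm_num)
    rcases hcsM _ hMdvd h30 h9 hrel with h180 | h1080
    · have hidx : M.index = 6 := by
        have := M.card_mul_index
        rw [h180, hG] at this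
        omega
      have := two_mul_card_dvd_factorial_of_simple hnc M (by
        intro h
        rw [h, Subgroup.index_top] at hidx
        omega)
      rw [hidx, hG] at this
      revert this
      decide
    · have htopM : M = ⊤ := Subgroup.eq_top_of_card_eq _ (by rw [h1080, hG])
      have hTn : T.Normal := normalizer_eq_top_iff.mp htopM
      rcases hTn.eq_bot_or_eq_top with h | h
      · rw [h, Subgroup.card_bot] at hT3
        omega
      · rw [h, Subgroup.card_top, hG] at hT3
        omega
  · apply dtest_nc1 hG5 (by norm_num) (by norm_num)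
    rw [h]
    norm_num

end

end Cfsg.Agent.Lib.Helper17
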