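import Mathlib
import Cfsg.Agent.Lib.Helper17.Basic

set_option autoImplicit false

namespace Cfsg.Agent.Lib.Helper17

open Equiv Equiv.Perm

section

variable {α : Type*} [Fintype α] [DecidableEq α]

theorem sign_eq_mul_subtypePerm (σ : Perm α) (p : α → Prop) [DecidablePred p]
    (h : ∀ x, p (σ x) ↔ p x) :
    sign σ = sign (σ.subtypePerm h) *
      sign (σ.subtypePerm (p := fun x => ¬ p x) (fun x => not_congr (h x))) := by
  rw [← sign_subtypeCongr]
  congr 1
  ext x
  by_cases hx : p x
  · rw [Perm.subtypeCongr.left_apply _ _ hx]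
    rfl
  · rw [Perm.subtypeCongr.right_apply _ _ hx]
    rfl

theorem cycleType_eq_of_pow_fpf (τ : Perm α) (k : ℕ) (h1 : τ ^ (2 ^ (k + 1)) = 1)
    (h2 : ∀ x, (τ ^ (2 ^ k)) x ≠ x) : ∀ n ∈ τ.cycleType, n = 2 ^ (k + 1) := by
  intro n hn
  have hdvd : n ∣ 2 ^ (k + 1) := (dvd_of_mem_cycleType hn).trans (orderOf_dvd_of_pow_eq_one h1)
  obtain ⟨j, hj, rfl⟩ := (Nat.dvd_prime_pow Nat.prime_two).mp hdvd
  by_contra hne
  have hjk : j ≤ k := by
    have : j ≠ k + 1 := fun h => hne (by rw [h])
    omega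
  obtain ⟨c, τ', rfl, hdisj, hc, hcard⟩ := mem_cycleType_iff.mp hn
  have hcord : orderOf c = 2 ^ j := by rw [hc.orderOf, hcard]
  have hcpow : c ^ (2 ^ k) = 1 := by
    apply orderOf_dvd_iff_pow_eq_one.mp
    rw [hcord]
    exact pow_dvd_pow 2 hjk
  have hne_supp : c.support.Nonempty := by
    rw [← Finset.card_pos, hcard]
    positivity
  obtain ⟨x, hx⟩ := hne_supp
  apply h2 x
  rw [hdisj.commute.mul_pow, hcpow, one_mul]
  have hx' : τ' x = x := by
    rcases hdisj x with h | h
    · exact absurd h (mem_support.mp hx)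
    · exact h
  exact pow_apply_eq_self_of_apply_eq_self hx' _

theorem sign_of_pow_fpf (τ : Perm α) (k : ℕ) (h1 : τ ^ (2 ^ (k + 1)) = 1)
    (h2 : ∀ x, (τ ^ (2 ^ k)) x ≠ x) :
    sign τ = (-1) ^ (Fintype.card α / 2 ^ (k + 1)) := by
  have hall := cycleType_eq_of_pow_fpf τ k h1 h2
  have hrep : τ.cycleType = Multiset.replicate (Multiset.card τ.cycleType) (2 ^ (k + 1)) :=
    Multiset.eq_replicate_card.mpr hall
  rw [sign_of_cycleType_eq_replicate (by positivity) hrep]
  have hnotodd : ¬ Odd (2 ^ (k + 1)) := by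
    rw [Nat.not_odd_iff_even]
    exact (Nat.even_pow.mpr ⟨even_two, by omega⟩)
  rw [if_neg hnotodd]
  have hfix : Fintype.card (Function.fixedPoints τ) = 0 := by
    rw [Fintype.card_eq_zero_iff]
    constructor
    rintro ⟨x, hx⟩
    apply h2 x
    exact pow_apply_eq_self_of_apply_eq_self hx _
  rw [hfix, Nat.sub_zero]

theorem pow_apply_comm (σ : Perm α) (j : ℕ) (x : α) : (σ ^ j) (σ x) = σ ((σ ^ j) x) := by
  rw [← Perm.mul_apply, ← Perm.mul_apply, ← pow_succ, ← pow_succ']

theorem pow_fixed_invariant (σ : Perm α) (j : ℕ) (x : α) :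
    (σ ^ j) (σ x) = σ x ↔ (σ ^ j) x = x := by
  rw [pow_apply_comm]
  exact σ.injective.eq_iff

theorem sign_of_pow_four (σ : Perm α) (h : σ ^ 4 = 1) :
    sign σ = (-1) ^ ((Fintype.card {x // (σ ^ 2) x = x} - Fintype.card {x // σ x = x}) / 2 +
      (Fintype.card α - Fintype.card {x // (σ ^ 2) x = x}) / 4) := by
  have hinv := pow_fixed_invariant σ 2
  rw [sign_eq_mul_subtypePerm σ (fun x => (σ ^ 2) x = x) hinv, pow_add]
  congr 1
  · have hρ2 : (σ.subtypePerm (p := fun x => (σ ^ 2) x = x) hinv) ^ 2 = 1 := by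
      ext x
      rw [subtypePerm_pow]
      simp only [subtypePerm_apply, Perm.coe_one, id_eq]
      exact x.2
    rw [sign_of_pow_two_eq_one hρ2]
    congr 2
    have : Fintype.card (Function.fixedPoints (σ.subtypePerm (p := fun x => (σ ^ 2) x = x) hinv)) =
        Fintype.card {x // σ x = x} := by
      apply Fintype.card_congr
      refine ⟨fun y => ⟨y.1.1, ?_⟩, fun x => ⟨⟨x.1, ?_⟩, ?_⟩, fun y => ?_, fun x => ?_⟩
      · have := y.2
        have h3 := congrArg Subtype.val this
        simpa using h3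
      · show (σ ^ 2) x.1 = x.1
        rw [pow_two, Perm.mul_apply, x.2, x.2]
      · show (σ.subtypePerm (p := fun x => (σ ^ 2) x = x) hinv) _ = _
        apply Subtype.ext
        simp only [subtypePerm_apply]
        exact x.2
      · rfl
      · rfl
    rw [this]
  · have h1 : (σ.subtypePerm (p := fun x => ¬ (σ ^ 2) x = x) (fun x => not_congr (hinv x))) ^
        (2 ^ (1 + 1)) = 1 := by
      ext x
      rw [subtypePerm_pow]
      simp only [subtypePerm_apply, Perm.coe_one, id_eq]
      norm_num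
      rw [h]
      rfl
    have h2 : ∀ x, ((σ.subtypePerm (p := fun x => ¬ (σ ^ 2) x = x)
        (fun x => not_congr (hinv x))) ^ (2 ^ 1)) x ≠ x := by
      intro x hx
      apply x.2
      rw [subtypePerm_pow] at hx
      have := congrArg Subtype.val hx
      simpa using this
    rw [sign_of_pow_fpf _ 1 h1 h2]
    congr 1
    rw [Fintype.card_subtype_compl]
    norm_num

theorem sign_of_pow_eight (σ : Perm α) (h : σ ^ 8 = 1) :
    sign σ = (-1) ^ ((Fintype.card {x // (σ ^ 2) x = x} - Fintype.card {x // σ x = x}) / 2 +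
      (Fintype.card {x // (σ ^ 4) x = x} - Fintype.card {x // (σ ^ 2) x = x}) / 4 +
      (Fintype.card α - Fintype.card {x // (σ ^ 4) x = x}) / 8) := by
  have hinv := pow_fixed_invariant σ 4
  rw [sign_eq_mul_subtypePerm σ (fun x => (σ ^ 4) x = x) hinv, pow_add]
  congr 1
  · obtain ⟨ρ, hρ⟩ : ∃ ρ : Perm {x // (σ ^ 4) x = x},
        ρ = σ.subtypePerm (p := fun x => (σ ^ 4) x = x) hinv := ⟨_, rfl⟩
    rw [← hρ]
    have hρ4 : ρ ^ 4 = 1 := by
      ext x
      rw [hρ, subtypePerm_pow]
      simp only [subtypePerm_apply, Perm.coe_one, id_eq]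
      exact x.2
    rw [sign_of_pow_four ρ hρ4]
    have hρ_apply : ∀ z, (ρ z).1 = σ z.1 := by
      intro z
      rw [hρ]
      rfl
    have hρ2_apply : ∀ z, ((ρ ^ 2) z).1 = (σ ^ 2) z.1 := by
      intro z
      rw [hρ, subtypePerm_pow]
      rfl
    have e1 : Fintype.card {y : {x // (σ ^ 4) x = x} // ρ y = y} =
        Fintype.card {x // σ x = x} := by
      apply Fintype.card_congr
      refine ⟨fun y => ⟨y.1.1, ?_⟩, fun x => ⟨⟨x.1, ?_⟩, ?_⟩, fun y => ?_, fun x => ?_⟩
      · have h3 := congrArg Subtype.val y.2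
        rw [hρ_apply] at h3
        exact h3
      · show (σ ^ 4) x.1 = x.1
        exact pow_apply_eq_self_of_apply_eq_self x.2 4
      · apply Subtype.ext
        rw [hρ_apply]
        exact x.2
      · rfl
      · rfl
    have e2 : Fintype.card {y : {x // (σ ^ 4) x = x} // (ρ ^ 2) y = y} =
        Fintype.card {x // (σ ^ 2) x = x} := by
      apply Fintype.card_congr
      refine ⟨fun y => ⟨y.1.1, ?_⟩, fun x => ⟨⟨x.1, ?_⟩, ?_⟩, fun y => ?_, fun x => ?_⟩
      · have h3 := congrArg Subtype.val y.2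
        rw [hρ2_apply] at h3
        exact h3
      · show (σ ^ 4) x.1 = x.1
        have h5 : σ ^ 4 = (σ ^ 2) ^ 2 := by rw [← pow_mul]
        rw [h5]
        exact pow_apply_eq_self_of_apply_eq_self x.2 2
      · apply Subtype.ext
        rw [hρ2_apply]
        exact x.2
      · rfl
      · rfl
    rw [e1, e2]
  · have h1 : (σ.subtypePerm (p := fun x => ¬ (σ ^ 4) x = x) (fun x => not_congr (hinv x))) ^
        (2 ^ (2 + 1)) = 1 := by
      ext x
      rw [subtypePerm_pow]
      simp only [subtypePerm_apply, Perm.coe_one, id_eq]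
      norm_num
      rw [h]
      rfl
    have h2 : ∀ x, ((σ.subtypePerm (p := fun x => ¬ (σ ^ 4) x = x)
        (fun x => not_congr (hinv x))) ^ (2 ^ 2)) x ≠ x := by
      intro x hx
      apply x.2
      rw [subtypePerm_pow] at hx
      have := congrArg Subtype.val hx
      simpa using this
    rw [sign_of_pow_fpf _ 2 h1 h2]
    congr 1
    rw [Fintype.card_subtype_compl]
    norm_num

end

section

open MulAction

variable {G X : Type*} [Group G] [MulAction G X]

theorem card_fixedBy_pow_eq_fintype_card [Fintype X] [DecidableEq X] (g : G) (j : ℕ) :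
    Nat.card (fixedBy X (g ^ j)) =
      Fintype.card {x // ((MulAction.toPermHom G X g) ^ j) x = x} := by
  rw [← Nat.card_eq_fintype_card]
  apply Nat.card_congr
  refine Equiv.subtypeEquivRight ?_
  intro x
  rw [← map_pow]
  simp [mem_fixedBy]

theorem card_fixedBy_eq_fintype_card' [Fintype X] [DecidableEq X] (g : G) :
    Nat.card (fixedBy X g) = Fintype.card {x // (MulAction.toPermHom G X g) x = x} := by
  rw [← Nat.card_eq_fintype_card]
  apply Nat.card_congr
  refine Equiv.subtypeEquivRight ?_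
  intro x
  simp [mem_fixedBy]

variable [IsSimpleGroup G] [Finite X]

/-- Sign lemma for an element with `g ^ 4 = 1` in a noncommutative simple group. -/
theorem even_of_pow_four_eq_one (hnc : ¬ IsMulCommutative G) (g : G) (hg : g ^ 4 = 1) :
    Even ((Nat.card (fixedBy X (g ^ 2)) - Nat.card (fixedBy X g)) / 2 +
      (Nat.card X - Nat.card (fixedBy X (g ^ 2))) / 4) := by
  classical
  letI : Fintype X := Fintype.ofFinite X
  have hσ4 : (MulAction.toPermHom G X g) ^ 4 = 1 := by rw [← map_pow, hg, map_one]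
  have hsign : Equiv.Perm.sign (MulAction.toPermHom G X g) = 1 :=
    sign_eq_one_of_simple hnc (MulAction.toPermHom G X) g
  have h1 := sign_of_pow_four _ hσ4
  rw [hsign] at h1
  rw [card_fixedBy_eq_fintype_card' (X := X) g, card_fixedBy_pow_eq_fintype_card (X := X) g 2,
    Nat.card_eq_fintype_card, ← neg_one_pow_eq_one_iff_even (R := ℤˣ) (by decide)]
  exact h1.symm

/-- Sign lemma for an element with `g ^ 8 = 1` in a noncommutative simple group. -/
theorem even_of_pow_eight_eq_one (hnc : ¬ IsMulCommutative G) (g : G) (hg : g ^ 8 = 1) :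
    Even ((Nat.card (fixedBy X (g ^ 2)) - Nat.card (fixedBy X g)) / 2 +
      (Nat.card (fixedBy X (g ^ 4)) - Nat.card (fixedBy X (g ^ 2))) / 4 +
      (Nat.card X - Nat.card (fixedBy X (g ^ 4))) / 8) := by
  classical
  letI : Fintype X := Fintype.ofFinite X
  have hσ8 : (MulAction.toPermHom G X g) ^ 8 = 1 := by rw [← map_pow, hg, map_one]
  have hsign : Equiv.Perm.sign (MulAction.toPermHom G X g) = 1 :=
    sign_eq_one_of_simple hnc (MulAction.toPermHom G X) g
  have h1 := sign_of_pow_eight _ hσ8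
  rw [hsign] at h1
  rw [card_fixedBy_eq_fintype_card' (X := X) g, card_fixedBy_pow_eq_fintype_card (X := X) g 2,
    card_fixedBy_pow_eq_fintype_card (X := X) g 4,
    Nat.card_eq_fintype_card, ← neg_one_pow_eq_one_iff_even (R := ℤˣ) (by decide)]
  exact h1.symm

end

end Cfsg.Agent.Lib.Helper17
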