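import Mathlib
import Cfsg.Agent.Lib.Helper17.EngineLemmas
import Cfsg.Agent.Lib.Helper17.CosetTools
import Cfsg.Agent.Lib.Helper17.MiscTools
import Cfsg.Agent.Lib.Helper17.DvdTools
import Cfsg.Agent.Lib.Helper17.Order16
import Cfsg.Agent.Lib.Helper17.CountTools
import Cfsg.Agent.Lib.Helper17.FixSylow
import Cfsg.Agent.Lib.Helper17.TwoLocal
import Cfsg.Agent.Lib.Helper17.SignTools
import Cfsg.Agent.Lib.Helper17.InvertTools
import Cfsg.Agent.Lib.Helper17.FusionTools
import Cfsg.Agent.Lib.Helper17.ActionCounts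
import Cfsg.Agent.Lib.Helper17.FixedPoints
import Cfsg.Agent.Lib.Helper17.SylowConj
import Cfsg.Agent.Lib.Helper17.InvolTools
import Cfsg.Agent.Lib.Helper17.ElementCount
import Cfsg.Agent.Lib.Helper17.SylowInter
import Cfsg.Agent.Lib.Helper17.PGroupNorm

set_option autoImplicit false

namespace Cfsg.Agent.Lib.Helper17

open Subgroup MulAction

section General

variable {G : Type*} [Group G]

theorem set_eq_of_subset_of_card_le {α : Type*} [Finite α] (A B : Set α) (h : A ⊆ B)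
    (hc : Nat.card ↥B ≤ Nat.card ↥A) : A = B := by
  have hc' : B.ncard ≤ A.ncard := hc
  exact Set.eq_of_subset_of_ncard_le h hc' (Set.toFinite B)

theorem orderOf_dvd_card_of_mem [Finite G] (H : Subgroup G) {x : G} (hx : x ∈ H) :
    orderOf x ∣ Nat.card ↥H := by
  have h1 : orderOf (⟨x, hx⟩ : ↥H) ∣ Nat.card ↥H := orderOf_dvd_natCard _
  rwa [Subgroup.orderOf_mk] at h1

theorem pow_card_of_mem [Finite G] (H : Subgroup G) {x : G} (hx : x ∈ H) :
    x ^ Nat.card ↥H = 1 :=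
  orderOf_dvd_iff_pow_eq_one.mp (orderOf_dvd_card_of_mem H hx)

theorem eq_one_of_pow_coprime {x : G} {a b : ℕ} (ha : x ^ a = 1) (hb : x ^ b = 1)
    (hab : Nat.gcd a b = 1) : x = 1 := by
  have h1 : orderOf x ∣ Nat.gcd a b :=
    Nat.dvd_gcd (orderOf_dvd_of_pow_eq_one ha) (orderOf_dvd_of_pow_eq_one hb)
  rw [hab] at h1
  exact orderOf_eq_one_iff.mp (Nat.dvd_one.mp h1)

theorem isPGroup_zpowers_of_pow_eq_one {p k : ℕ} [hp : Fact p.Prime] {g : G}
    (hg : g ^ (p ^ k) = 1) : IsPGroup p ↥(zpowers g) := by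
  obtain ⟨j, _, hj⟩ := (Nat.dvd_prime_pow hp.out).mp (orderOf_dvd_of_pow_eq_one hg)
  exact IsPGroup.of_card (n := j) (by rw [Nat.card_zpowers, hj])

theorem orderOf_eq_four {s : G} (hs4 : s ^ 4 = 1) (hs2 : s ^ 2 ≠ 1) : orderOf s = 4 := by
  haveI : Fact (Nat.Prime 2) := ⟨Nat.prime_two⟩
  have h1 : ¬ s ^ 2 ^ 1 = 1 := by rwa [pow_one]
  have h2 : s ^ 2 ^ (1 + 1) = 1 := by
    have : (2 : ℕ) ^ (1 + 1) = 4 := by norm_num
    rw [this]; exact hs4
  have := orderOf_eq_prime_pow h1 h2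
  rw [this]; norm_num

theorem orderOf_eq_eight {e : G} (he8 : e ^ 8 = 1) (he4 : e ^ 4 ≠ 1) : orderOf e = 8 := by
  haveI : Fact (Nat.Prime 2) := ⟨Nat.prime_two⟩
  have h1 : ¬ e ^ 2 ^ 2 = 1 := by
    have : (2 : ℕ) ^ 2 = 4 := by norm_num
    rw [this]; exact he4
  have h2 : e ^ 2 ^ (2 + 1) = 1 := by
    have : (2 : ℕ) ^ (2 + 1) = 8 := by norm_num
    rw [this]; exact he8
  have := orderOf_eq_prime_pow h1 h2
  rw [this]; norm_num

/-- A `p`-element normalizing a Sylow `p`-subgroup lies in it. -/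
theorem mem_sylow_of_mem_normalizer {p : ℕ} [Fact p.Prime] (R : Sylow p G) (y : G)
    (hy : y ∈ normalizer ((R : Subgroup G) : Set G)) (hyp : IsPGroup p ↥(zpowers y)) :
    y ∈ (R : Subgroup G) := by
  have hle : zpowers y ≤ normalizer ((R : Subgroup G) : Set G) := by
    rw [zpowers_le]; exact hy
  have h1 : IsPGroup p ↥(zpowers y ⊔ (R : Subgroup G) : Subgroup G) :=
    IsPGroup.to_sup_of_normal_right' hyp R.2 hle
  have h2 : zpowers y ⊔ (R : Subgroup G) = (R : Subgroup G) := R.3 h1 le_sup_right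
  have h3 : y ∈ zpowers y ⊔ (R : Subgroup G) :=
    (le_sup_left : zpowers y ≤ zpowers y ⊔ (R : Subgroup G)) (mem_zpowers y)
  rwa [h2] at h3

theorem conj_mem_normalizer_smul {p : ℕ} [Fact p.Prime] (P : Sylow p G) (c s : G)
    (hs : s ∈ normalizer ((P : Subgroup G) : Set G)) :
    c * s * c⁻¹ ∈ normalizer (((c • P : Sylow p G) : Subgroup G) : Set G) := by
  have h1 : s • P = P := Sylow.smul_eq_iff_mem_normalizer.mpr hs
  have h2 : (c * s * c⁻¹) • (c • P) = c • P := by
    rw [mul_smul, mul_smul, inv_smul_smul, h1]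
  have h3 : c * s * c⁻¹ ∈ normalizer (((c • P : Sylow p G) : Subgroup G) : Set G) :=
    Sylow.smul_eq_iff_mem_normalizer.mp h2
  exact h3

/-- `Fix(g ^ 2) ≡ Fix(g)` mod `2` for a `2`-element `g`. -/
theorem card_fixedBy_sq_modEq_two {X : Type*} [MulAction G X] [Finite X] (g : G) (k : ℕ)
    (hg : g ^ (2 ^ k) = 1) :
    Nat.card (fixedBy X (g ^ 2)) ≡ Nat.card (fixedBy X g) [MOD 2] := by
  haveI : Fact (Nat.Prime 2) := ⟨Nat.prime_two⟩
  have hA : IsPGroup 2 ↥(zpowers g) := isPGroup_zpowers_of_pow_eq_one hg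
  have hinv : ∀ a : ↥(zpowers g), ∀ x ∈ fixedBy X (g ^ 2), a • x ∈ fixedBy X (g ^ 2) := by
    intro a x hx
    obtain ⟨i, hi⟩ := mem_zpowers_iff.mp a.2
    have hcomm : (a : G) * g ^ 2 = g ^ 2 * (a : G) := by
      rw [← hi]
      exact (((Commute.refl g).zpow_left i).pow_right 2).eq
    show ((a : G) • x) ∈ fixedBy X (g ^ 2)
    exact smul_mem_fixedBy_of_commute hcomm hx
  have h := card_invariant_modEq hA (fixedBy X (g ^ 2)) hinv
  have hset : (fixedBy X (g ^ 2) ∩ fixedPoints ↥(zpowers g) X : Set X) = fixedBy X g := by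
    rw [fixedPoints_zpowers_eq]
    apply Set.inter_eq_right.mpr
    intro x hx
    rw [mem_fixedBy] at hx ⊢
    rw [pow_two, mul_smul, hx, hx]
  rw [hset] at h
  exact h

end General

section O720

variable {G : Type*} [Group G] [Finite G] [IsSimpleGroup G]

theorem o720_sylow5_basic (hnc : ¬ IsMulCommutative G) (hG : Nat.card G = 720) (P : Sylow 5 G) :
    Nat.card ↥(P : Subgroup G) = 5 ∧ Nat.card (Sylow 5 G) = 36 ∧
      Nat.card ↥(normalizer ((P : Subgroup G) : Set G)) = 20 ∧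
      (Nat.card ↥(centralizer ((P : Subgroup G) : Set G)) = 5 ∨
        Nat.card ↥(centralizer ((P : Subgroup G) : Set G)) = 10) ∧
      (P : Subgroup G) ≤ centralizer ((P : Subgroup G) : Set G) ∧
      centralizer ((P : Subgroup G) : Set G) ≤ normalizer ((P : Subgroup G) : Set G) := by
  haveI : Fact (Nat.Prime 5) := ⟨by norm_num⟩
  have hG5 : Nat.card G = 5 ^ 1 * 144 := by rw [hG]; norm_num
  obtain ⟨hP, hdvd, hmod, hgt, hN⟩ := sylow_basic hG5 (by norm_num) le_rfl (by norm_num) P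
  rw [pow_one] at hP hN
  have hcases := forall_dvd_of_allLt 144
    (fun d => d % 5 = 1 → d = 1 ∨ d = 6 ∨ d = 16 ∨ d = 36) (by decide +kernel) (by norm_num)
  have hn : Nat.card (Sylow 5 G) = 36 := by
    rcases hcases _ hdvd hmod with h | h | h | h
    · omega
    · exfalso
      apply dtest_fact hnc hG hG5 (by norm_num) le_rfl (by norm_num)
      rw [h]
      decide
    · exfalso
      apply dtest_nc1 hG5 (by norm_num) (by norm_num)
      rw [h]
      norm_num
    · exact h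
  rw [hn] at hN
  have hN' : Nat.card ↥(normalizer ((P : Subgroup G) : Set G)) = 5 * 4 := by rw [hN]
  obtain ⟨r, hr4, hr4', hr1, hCr, hPC, hCN⟩ :=
    card_centralizer_sylow_mul P hP (by rw [hG]; norm_num) hN'
  refine ⟨hP, hn, by rw [hN'], ?_, hPC, hCN⟩
  have hr : r = 2 ∨ r = 4 := by
    have h4 : r ∣ 4 := by simpa using hr4
    have := Nat.le_of_dvd (by norm_num) h4
    interval_cases r
    · simp at h4
    · exact absurd rfl hr1
    · left; rfl
    · exact absurd h4 (by decide)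
    · right; rfl
  rcases hr with rfl | rfl
  · right; omega
  · left; omega

theorem o720_sylow5 (hnc : ¬ IsMulCommutative G) (hG : Nat.card G = 720) (P : Sylow 5 G) :
    Nat.card ↥(P : Subgroup G) = 5 ∧ Nat.card (Sylow 5 G) = 36 ∧
      Nat.card ↥(normalizer ((P : Subgroup G) : Set G)) = 20 ∧
      centralizer ((P : Subgroup G) : Set G) = (P : Subgroup G) := by
  haveI : Fact (Nat.Prime 5) := ⟨by norm_num⟩
  haveI : Fact (Nat.Prime 2) := ⟨Nat.prime_two⟩
  obtain ⟨hP, hn, hN, hC, hPC, hCN⟩ := o720_sylow5_basic hnc hG P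
  refine ⟨hP, hn, hN, ?_⟩
  rcases hC with hC5 | hC10
  · exact (Subgroup.eq_of_le_of_card_ge hPC (by rw [hC5, hP])).symm
  exfalso
  set N := normalizer ((P : Subgroup G) : Set G) with hNdef
  set C := centralizer ((P : Subgroup G) : Set G) with hCdef
  obtain ⟨t, htC, ht, ht1⟩ := exists_involution_of_even C (by rw [hC10]; norm_num)
  set Ct := centralizer ({t} : Set G) with hCtdef
  have h8 : 8 ∣ Nat.card ↥Ct := eight_dvd_card_centralizer_of_involution hnc
    (by rw [hG]; norm_num : Nat.card G = 2 ^ 4 * 45) (by norm_num) t ht ht1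
  have hcommCP : ∀ c ∈ C, ∀ a ∈ (P : Subgroup G), a * c = c * a :=
    fun c hc a ha => mem_centralizer_iff.mp hc a ha
  have hCt : C ≤ Ct :=
    le_centralizer_of_involution C (P : Subgroup G) hPC hcommCP (e := 1) (by norm_num)
      (by rw [hC10, hP]; norm_num) (by rw [hP]; norm_num) t htC ht
  have h10 : 10 ∣ Nat.card ↥C := by rw [hC10]
  have h10t : 10 ∣ Nat.card ↥Ct := h10.trans (Subgroup.card_dvd_of_le hCt)
  have hCtdvd : Nat.card ↥Ct ∣ 720 := hG ▸ Subgroup.card_subgroup_dvd_card Ct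
  have hcs := forall_dvd_of_allLt 720
    (fun d => 8 ∣ d → 10 ∣ d → d = 40 ∨ d = 80 ∨ d = 120 ∨ d = 240 ∨ d = 360 ∨ d = 720)
    (by decide +kernel) (by norm_num)
  have hPCt : (P : Subgroup G) ≤ Ct := hPC.trans hCt
  have hmod := relIndex_normalizer_modEq_one P Ct hPCt
  have hmul := card_inf_mul_relIndex N Ct
  have hCle : C ≤ N ⊓ Ct := le_inf hCN hCt
  have h10' : 10 ∣ Nat.card ↥(N ⊓ Ct : Subgroup G) := h10.trans (Subgroup.card_dvd_of_le hCle)
  have h20' : Nat.card ↥(N ⊓ Ct : Subgroup G) ∣ 20 := by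
    have := Subgroup.card_dvd_of_le (inf_le_left : N ⊓ Ct ≤ N)
    rwa [hN] at this
  have hidx := Ct.card_mul_index
  rw [hG] at hidx
  have hne_top : Ct ≠ ⊤ := centralizer_singleton_ne_top hnc t ht1
  have hidx1 : Ct.index ≠ 1 := fun h => hne_top (Subgroup.index_eq_one.mp h)
  have hmod' : N.relIndex Ct % 5 = 1 := hmod
  obtain ⟨j, hj⟩ := h10'
  have hle := Nat.le_of_dvd (by norm_num) h20'
  rw [hj] at hmul hle
  have hj2 : j ≤ 2 := by omega
  have hsmall : ∀ k : ℕ, k ≤ 6 → Ct.index = k → False := by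
    intro k hk hik
    have h1 : 1 < Ct.index := by
      have : Ct.index ≠ 0 := Subgroup.index_ne_zero_of_finite
      omega
    exact false_of_index_le hnc 6 (by rw [hG]; decide) Ct h1 (by omega)
  rcases hcs _ hCtdvd h8 h10t with h | h | h | h | h | h
  · rw [h] at hmul
    interval_cases j
    · omega
    · omega
    · omega
  · rw [h] at hmul
    interval_cases j
    · omega
    · omega
    · omega
  · rw [h] at hidx
    exact hsmall 6 le_rfl (by omega)
  · rw [h] at hidx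
    exact hsmall 3 (by norm_num) (by omega)
  · rw [h] at hidx
    exact hsmall 2 (by norm_num) (by omega)
  · rw [h] at hidx
    exact hidx1 (by omega)

theorem o720_pow_five (hnc : ¬ IsMulCommutative G) (hG : Nat.card G = 720) (x : G)
    (h : 5 ∣ Nat.card ↥(centralizer ({x} : Set G))) : x ^ 5 = 1 := by
  haveI : Fact (Nat.Prime 5) := ⟨by norm_num⟩
  obtain ⟨P⟩ : Nonempty (Sylow 5 G) := inferInstance
  obtain ⟨hP, _, _, hC⟩ := o720_sylow5 hnc hG P
  exact pow_eq_one_of_dvd_card_centralizer P hP (by rw [hC, hP]) x h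

theorem o720_inv (hnc : ¬ IsMulCommutative G) (hG : Nat.card G = 720) (t : G)
    (ht : t * t = 1) (ht1 : t ≠ 1) :
    8 ∣ Nat.card ↥(centralizer ({t} : Set G)) ∧
      ¬ 5 ∣ Nat.card ↥(centralizer ({t} : Set G)) := by
  refine ⟨eight_dvd_card_centralizer_of_involution hnc
    (by rw [hG]; norm_num : Nat.card G = 2 ^ 4 * 45) (by norm_num) t ht ht1, ?_⟩
  intro h
  have h1 := o720_pow_five hnc hG t h
  have h2 : t ^ 2 = 1 := by rw [pow_two]; exact ht
  exact ht1 (eq_one_of_pow_coprime h1 h2 (by norm_num))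

theorem o720_exists_s (hnc : ¬ IsMulCommutative G) (hG : Nat.card G = 720) :
    ∃ (P : Sylow 5 G) (s : G), s ∈ normalizer ((P : Subgroup G) : Set G) ∧ s ^ 4 = 1 ∧
      s ^ 2 ≠ 1 := by
  haveI : Fact (Nat.Prime 5) := ⟨by norm_num⟩
  haveI : Fact (Nat.Prime 2) := ⟨Nat.prime_two⟩
  obtain ⟨P⟩ : Nonempty (Sylow 5 G) := inferInstance
  obtain ⟨hP, hn, hN, hC⟩ := o720_sylow5 hnc hG P
  obtain ⟨K, hK⟩ := Sylow.exists_subgroup_card_pow_prime 2 (n := 2)
    (by rw [hN]; norm_num : 2 ^ 2 ∣ Nat.card ↥(normalizer ((P : Subgroup G) : Set G)))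
  obtain ⟨T, hTdef⟩ : ∃ T : Subgroup G,
      T = K.map (normalizer ((P : Subgroup G) : Set G)).subtype := ⟨_, rfl⟩
  have hT4 : Nat.card ↥T = 4 := by
    rw [hTdef, card_map_subtype, hK]; norm_num
  have hTN : T ≤ normalizer ((P : Subgroup G) : Set G) := by
    rw [hTdef]; exact Subgroup.map_subtype_le _
  have hpow4 : ∀ x ∈ T, x ^ 4 = 1 := by
    intro x hx
    have := pow_card_of_mem T hx
    rwa [hT4] at this
  by_cases hall : ∀ x ∈ T, x * x = 1
  · exfalso
    obtain ⟨a, haT, ha, ha1⟩ := exists_involution_of_even T (by rw [hT4]; norm_num)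
    have hza : Nat.card ↥(zpowers a) = 2 := by
      rw [Nat.card_zpowers, orderOf_eq_two_of_involution ha ha1]
    have hzle : zpowers a ≤ T := by rw [zpowers_le]; exact haT
    have hzne : zpowers a ≠ T := by
      intro h
      rw [h, hT4] at hza
      omega
    obtain ⟨b, hbT, hbz⟩ := SetLike.exists_of_lt (lt_of_le_of_ne hzle hzne)
    have hb := hall b hbT
    have hb1 : b ≠ 1 := by
      intro h
      exact hbz (h ▸ one_mem _)
    have hnotC : ∀ w : G, w * w = 1 → w ≠ 1 → w ∉ centralizer ((P : Subgroup G) : Set G) := by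
      intro w hw hw1 hwC
      rw [hC] at hwC
      have h1 := orderOf_eq_of_mem_of_card_prime (P : Subgroup G) hP w hwC hw1
      have h2 := orderOf_eq_two_of_involution hw hw1
      omega
    have hmem := inv_mul_mem_centralizer_of_sq (by norm_num : Nat.Prime 5) (P : Subgroup G) hP
      a b (hTN haT) (hTN hbT) ha hb (hnotC a ha ha1) (hnotC b hb hb1)
    rw [hC] at hmem
    have hcT : a⁻¹ * b ∈ T := T.mul_mem (T.inv_mem haT) hbT
    have h5 : (a⁻¹ * b) ^ 5 = 1 := by
      have := pow_card_of_mem (P : Subgroup G) hmem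
      rwa [hP] at this
    have h4 := hpow4 _ hcT
    have h1 : a⁻¹ * b = 1 := eq_one_of_pow_coprime h5 h4 (by norm_num)
    have hab : a = b := inv_mul_eq_one.mp h1
    exact hbz (hab ▸ mem_zpowers a)
  · push Not at hall
    obtain ⟨x, hxT, hx⟩ := hall
    exact ⟨P, x, hTN hxT, hpow4 x hxT, by rwa [pow_two]⟩

/-- Facts about the involution `u = s ^ 2`. -/
theorem o720_u_facts (hnc : ¬ IsMulCommutative G) (hG : Nat.card G = 720) (P : Sylow 5 G)
    (s : G) (hsN : s ∈ normalizer ((P : Subgroup G) : Set G)) (hs4 : s ^ 4 = 1)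
    (hs2 : s ^ 2 ≠ 1) :
    Nat.card ↥(centralizer ({s ^ 2} : Set G)) = 16 ∧
      Nat.card (fixedBy (Sylow 5 G) (s ^ 2)) = 4 := by
  haveI : Fact (Nat.Prime 5) := ⟨by norm_num⟩
  obtain ⟨hP, hn, hN, hC⟩ := o720_sylow5 hnc hG P
  obtain ⟨u, hu_def⟩ : ∃ u : G, u = s ^ 2 := ⟨_, rfl⟩
  rw [← hu_def]
  have hu : u * u = 1 := by rw [hu_def, ← pow_add]; exact hs4
  have hu1 : u ≠ 1 := by rw [hu_def]; exact hs2
  have huN : u ∈ normalizer ((P : Subgroup G) : Set G) := by
    rw [hu_def]; exact Subgroup.pow_mem _ hsN 2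
  have h2ord := orderOf_eq_two_of_involution hu hu1
  have hnotP : ∀ w : G, w * w = 1 → w ≠ 1 → w ∉ (P : Subgroup G) := by
    intro w hw hw1 hwP
    have h1 := orderOf_eq_of_mem_of_card_prime (P : Subgroup G) hP w hwP hw1
    have h2 := orderOf_eq_two_of_involution hw hw1
    omega
  have huP : u ∉ (P : Subgroup G) := hnotP u hu hu1
  have hcent := eq_one_of_commute_of_centralizer_eq P hP hC u huP
  have hle := card_fixed_sylow_le P hP u huN hcent
  have hfixeq : Nat.card {Q' : Sylow 5 G // u ∈ normalizer ((Q' : Subgroup G) : Set G)} =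
      Nat.card (fixedBy (Sylow 5 G) u) := by
    apply Nat.card_congr
    exact (Equiv.subtypeEquivRight (fun Q' => (mem_fixedBy_sylow_iff u Q'))).symm
  rw [hfixeq, hn] at hle
  have hpar := card_fixedBy_modEq_four hnc (X := Sylow 5 G) u hu
  rw [hn] at hpar
  have hpar' : Nat.card (fixedBy (Sylow 5 G) u) % 4 = 0 := by
    have : Nat.card (fixedBy (Sylow 5 G) u) % 4 = 36 % 4 := hpar
    omega
  have hpos : 0 < Nat.card (fixedBy (Sylow 5 G) u) := by
    haveI : Nonempty (fixedBy (Sylow 5 G) u) := ⟨⟨P, (mem_fixedBy_sylow_iff u P).mpr huN⟩⟩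
    exact Nat.card_pos
  have hdc := dc_sylow P u
  rw [hn, hG] at hdc
  obtain ⟨h8, h5⟩ := o720_inv hnc hG u hu hu1
  -- conjugates of `u` in `N(P)` lie in the coset `u P`
  have hk5 : Nat.card {w : G // IsConj u w ∧ w ∈ normalizer ((P : Subgroup G) : Set G)} ≤ 5 := by
    have hmem : ∀ w : G, IsConj u w → w ∈ normalizer ((P : Subgroup G) : Set G) →
        u⁻¹ * w ∈ (P : Subgroup G) := by
      intro w hw hwN
      have hw2 := mul_self_eq_one_of_isConj hw hu
      have hw1 := ne_one_of_isConj hw hu1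
      have := inv_mul_mem_centralizer_of_sq (by norm_num : Nat.Prime 5) (P : Subgroup G) hP
        u w huN hwN hu hw2 (by rw [hC]; exact huP) (by rw [hC]; exact hnotP w hw2 hw1)
      rwa [hC] at this
    have hinj := Nat.card_le_card_of_injective
      (fun w : {w : G // IsConj u w ∧ w ∈ normalizer ((P : Subgroup G) : Set G)} =>
        (⟨u⁻¹ * w.1, hmem w.1 w.2.1 w.2.2⟩ : ↥(P : Subgroup G))) (by
      intro a b hab
      have := congrArg Subtype.val hab
      simp only [mul_right_inj] at this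
      exact Subtype.ext this)
    rwa [hP] at hinj
  set c := Nat.card ↥(centralizer ({u} : Set G)) with hc
  set k := Nat.card {w : G // IsConj u w ∧ w ∈ normalizer ((P : Subgroup G) : Set G)} with hk
  set F := Nat.card (fixedBy (Sylow 5 G) u) with hF
  have hkc : k * c = 20 * F :=
    Nat.eq_of_mul_eq_mul_right (by norm_num : 0 < 36) (by rw [hdc]; ring)
  have hcdvd : c ∣ 720 := hG ▸ Subgroup.card_subgroup_dvd_card _
  have hcs := forall_dvd_of_allLt 720
    (fun d => 8 ∣ d → ¬ 5 ∣ d → d = 8 ∨ d = 16 ∨ d = 24 ∨ d = 48 ∨ d = 72 ∨ d = 144)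
    (by decide +kernel) (by norm_num)
  have hF48 : F = 4 ∨ F = 8 := by omega
  rcases hcs c hcdvd h8 h5 with h | h | h | h | h | h <;> rw [h] at hkc ⊢ <;> omega

/-- Facts about `s` itself. -/
theorem o720_s_facts (hnc : ¬ IsMulCommutative G) (hG : Nat.card G = 720) (P : Sylow 5 G)
    (s : G) (hsN : s ∈ normalizer ((P : Subgroup G) : Set G)) (hs4 : s ^ 4 = 1)
    (hs2 : s ^ 2 ≠ 1) :
    Nat.card (fixedBy (Sylow 5 G) s) = 4 ∧
      ∀ Q : Sylow 5 G, s ^ 2 ∈ normalizer ((Q : Subgroup G) : Set G) →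
        s ∈ normalizer ((Q : Subgroup G) : Set G) := by
  haveI : Fact (Nat.Prime 5) := ⟨by norm_num⟩
  obtain ⟨hP, hn, hN, hC⟩ := o720_sylow5 hnc hG P
  obtain ⟨hc16, hF4⟩ := o720_u_facts hnc hG P s hsN hs4 hs2
  have hsign := even_of_pow_four_eq_one hnc (X := Sylow 5 G) s hs4
  rw [hF4, hn] at hsign
  have hpar := card_fixedBy_sq_modEq_two (X := Sylow 5 G) s 2 (by
    have : (2 : ℕ) ^ 2 = 4 := by norm_num
    rw [this]; exact hs4)
  rw [hF4] at hpar
  have hpar' : 4 % 2 = Nat.card (fixedBy (Sylow 5 G) s) % 2 := hpar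
  have hsub : fixedBy (Sylow 5 G) s ⊆ fixedBy (Sylow 5 G) (s ^ 2) := by
    intro Q hQ
    rw [mem_fixedBy] at hQ ⊢
    rw [pow_two, mul_smul, hQ, hQ]
  have hle : Nat.card (fixedBy (Sylow 5 G) s) ≤ Nat.card (fixedBy (Sylow 5 G) (s ^ 2)) :=
    Nat.card_mono (Set.toFinite _) hsub
  rw [hF4] at hle
  have hpos : 0 < Nat.card (fixedBy (Sylow 5 G) s) := by
    haveI : Nonempty (fixedBy (Sylow 5 G) s) := ⟨⟨P, (mem_fixedBy_sylow_iff s P).mpr hsN⟩⟩
    exact Nat.card_pos
  have hf4 : Nat.card (fixedBy (Sylow 5 G) s) = 4 := by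
    obtain ⟨r, hr⟩ := hsign
    omega
  refine ⟨hf4, ?_⟩
  have hset := set_eq_of_subset_of_card_le _ _ hsub (by rw [hF4, hf4])
  intro Q hQ
  rw [← mem_fixedBy_sylow_iff] at hQ ⊢
  rw [hset]
  exact hQ

/-- **Lemma A**: an element with the same square as `s` normalizing some Sylow `5`-subgroup
lies in `⟨s⟩`. -/
theorem o720_mem_zpowers (hnc : ¬ IsMulCommutative G) (hG : Nat.card G = 720) (P : Sylow 5 G)
    (s : G) (hsN : s ∈ normalizer ((P : Subgroup G) : Set G)) (hs4 : s ^ 4 = 1)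
    (hs2 : s ^ 2 ≠ 1) (q : G) (hq : q ^ 2 = s ^ 2) (Q : Sylow 5 G)
    (hqQ : q ∈ normalizer ((Q : Subgroup G) : Set G)) : q ∈ zpowers s := by
  haveI : Fact (Nat.Prime 5) := ⟨by norm_num⟩
  obtain ⟨hc16, hF4⟩ := o720_u_facts hnc hG P s hsN hs4 hs2
  obtain ⟨hf4, hsQ⟩ := o720_s_facts hnc hG P s hsN hs4 hs2
  obtain ⟨_, _, hNQ, _⟩ := o720_sylow5 hnc hG Q
  have huQ : s ^ 2 ∈ normalizer ((Q : Subgroup G) : Set G) := by
    rw [← hq]; exact Subgroup.pow_mem _ hqQ 2
  have hsQ' := hsQ Q huQ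
  set M : Subgroup G :=
    centralizer ({s ^ 2} : Set G) ⊓ normalizer ((Q : Subgroup G) : Set G) with hM
  have hsM : s ∈ M := by
    refine Subgroup.mem_inf.mpr ⟨?_, hsQ'⟩
    rw [mem_centralizer_singleton_iff]
    exact pow_mul_comm' s 2
  have hqM : q ∈ M := by
    refine Subgroup.mem_inf.mpr ⟨?_, hqQ⟩
    rw [mem_centralizer_singleton_iff, ← hq]
    exact pow_mul_comm' q 2
  have h16 : Nat.card ↥M ∣ 16 := by
    have := Subgroup.card_dvd_of_le (inf_le_left : M ≤ centralizer ({s ^ 2} : Set G))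
    rwa [hc16] at this
  have h20 : Nat.card ↥M ∣ 20 := by
    have := Subgroup.card_dvd_of_le
      (inf_le_right : M ≤ normalizer ((Q : Subgroup G) : Set G))
    rwa [hNQ] at this
  have h4 : Nat.card ↥M ∣ 4 := by
    have := Nat.dvd_gcd h16 h20
    norm_num at this
    exact this
  have hz4 : Nat.card ↥(zpowers s) = 4 := by
    rw [Nat.card_zpowers, orderOf_eq_four hs4 hs2]
  have hzM : zpowers s ≤ M := by rw [zpowers_le]; exact hsM
  have hle : Nat.card ↥M ≤ Nat.card ↥(zpowers s) := by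
    rw [hz4]; exact Nat.le_of_dvd (by norm_num) h4
  have heq := Subgroup.eq_of_le_of_card_ge hzM hle
  rw [heq]
  exact hqM

/-- `⟨s⟩` is normalized by `C(s ^ 2)`. -/
theorem o720_conj_mem_zpowers (hnc : ¬ IsMulCommutative G) (hG : Nat.card G = 720)
    (P : Sylow 5 G) (s : G) (hsN : s ∈ normalizer ((P : Subgroup G) : Set G)) (hs4 : s ^ 4 = 1)
    (hs2 : s ^ 2 ≠ 1) (c : G) (hc : c ∈ centralizer ({s ^ 2} : Set G)) :
    c * s * c⁻¹ ∈ zpowers s := by
  haveI : Fact (Nat.Prime 5) := ⟨by norm_num⟩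
  have h1 : s ^ 2 * c = c * s ^ 2 := mem_centralizer_singleton_iff.mp hc
  have h2 : (c * s * c⁻¹) ^ 2 = s ^ 2 := by
    rw [conj_pow, ← h1, mul_inv_cancel_right]
  exact o720_mem_zpowers hnc hG P s hsN hs4 hs2 (c * s * c⁻¹) h2 (c • P)
    (conj_mem_normalizer_smul P c s hsN)

/-- An element with the same square as `s` outside `⟨s⟩` normalizes no Sylow `5`-subgroup. -/
theorem o720_card_fixedBy_eq_zero (hnc : ¬ IsMulCommutative G) (hG : Nat.card G = 720)
    (P : Sylow 5 G) (s : G) (hsN : s ∈ normalizer ((P : Subgroup G) : Set G)) (hs4 : s ^ 4 = 1)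
    (hs2 : s ^ 2 ≠ 1) (q : G) (hq : q ^ 2 = s ^ 2) (hqs : q ∉ zpowers s) :
    Nat.card (fixedBy (Sylow 5 G) q) = 0 := by
  haveI : Fact (Nat.Prime 5) := ⟨by norm_num⟩
  rw [Nat.card_eq_zero]
  left
  rw [← not_nonempty_iff]
  rintro ⟨⟨Q, hQ⟩⟩
  rw [mem_fixedBy_sylow_iff] at hQ
  exact hqs (o720_mem_zpowers hnc hG P s hsN hs4 hs2 q hq Q hQ)

/-- A subgroup containing no conjugate of `s ^ 2` has index divisible by `4` and different
from `20`. -/
theorem o720_no_U (hnc : ¬ IsMulCommutative G) (s : G) (hs4 : s ^ 4 = 1) (K : Subgroup G)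
    (hno : ∀ x ∈ K, ¬ IsConj (s ^ 2) x) : K.index % 4 = 0 ∧ K.index ≠ 20 := by
  have hu : s ^ 2 * s ^ 2 = 1 := by rw [← pow_add]; exact hs4
  have hnoconj : ∀ g : G, g⁻¹ * s ^ 2 * g ∉ K := by
    intro g hg
    exact hno _ hg (isConj_iff.mpr ⟨g⁻¹, by rw [inv_inv]⟩)
  constructor
  · by_contra h
    obtain ⟨g, hg⟩ := exists_conj_mem_of_index hnc K h (s ^ 2) hu
    exact hnoconj g hg
  · intro h20
    have hF2 : Nat.card (fixedBy (G ⧸ K) (s ^ 2)) = 0 := by
      rw [Nat.card_eq_zero]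
      left
      rw [← not_nonempty_iff]
      intro hne
      obtain ⟨g, hg⟩ := exists_conj_mem_of_fixedBy_coset K (s ^ 2) hne
      exact hnoconj g hg
    have hF1 : Nat.card (fixedBy (G ⧸ K) s) = 0 := by
      rw [Nat.card_eq_zero]
      left
      rw [← not_nonempty_iff]
      intro hne
      obtain ⟨g, hg⟩ := exists_conj_mem_of_fixedBy_coset K s hne
      apply hnoconj g
      have : g⁻¹ * s ^ 2 * g = (g⁻¹ * s * g) ^ 2 := by rw [pow_two, pow_two]; group
      rw [this]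
      exact K.pow_mem hg 2
    have hsign := even_of_pow_four_eq_one hnc (X := G ⧸ K) s hs4
    have hX : Nat.card (G ⧸ K) = 20 := h20
    rw [hF2, hF1, hX] at hsign
    obtain ⟨r, hr⟩ := hsign
    omega

/-- Centralizers of nontrivial `3`-elements (with order divisible by `9`) have order `9` or
`18`. -/
theorem o720_card_centralizer_three (hnc : ¬ IsMulCommutative G) (hG : Nat.card G = 720)
    (y : G) (hy1 : y ≠ 1) (hy9 : y ^ 9 = 1)
    (h9 : 9 ∣ Nat.card ↥(centralizer ({y} : Set G))) :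
    Nat.card ↥(centralizer ({y} : Set G)) = 9 ∨ Nat.card ↥(centralizer ({y} : Set G)) = 18 := by
  haveI : Fact (Nat.Prime 5) := ⟨by norm_num⟩
  obtain ⟨P5, s, hsN, hs4, hs2⟩ := o720_exists_s hnc hG
  obtain ⟨hC16, _⟩ := o720_u_facts hnc hG P5 s hsN hs4 hs2
  have hno : ∀ x ∈ centralizer ({y} : Set G), ¬ IsConj (s ^ 2) x := by
    intro x hx hconj
    have hcx : Nat.card ↥(centralizer ({x} : Set G)) = 16 := by
      rw [card_centralizer_of_isConj hconj, hC16]
    have hyx : y ∈ centralizer ({x} : Set G) := by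
      rw [mem_centralizer_singleton_iff]
      exact (mem_centralizer_singleton_iff.mp hx).symm
    have h16 := pow_card_of_mem _ hyx
    rw [hcx] at h16
    exact hy1 (eq_one_of_pow_coprime hy9 h16 (by norm_num))
  obtain ⟨hmod4, hne20⟩ := o720_no_U hnc s hs4 (centralizer ({y} : Set G)) hno
  have h5 : ¬ 5 ∣ Nat.card ↥(centralizer ({y} : Set G)) := by
    intro h
    have h5' := o720_pow_five hnc hG y h
    exact hy1 (eq_one_of_pow_coprime hy9 h5' (by norm_num))
  have hidx := (centralizer ({y} : Set G)).card_mul_index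
  rw [hG] at hidx
  have hdvd : Nat.card ↥(centralizer ({y} : Set G)) ∣ 720 := Dvd.intro _ hidx
  have hcs := forall_dvd_of_allLt 720
    (fun d => 9 ∣ d → ¬ 5 ∣ d → d = 9 ∨ d = 18 ∨ d = 36 ∨ d = 72 ∨ d = 144)
    (by decide +kernel) (by norm_num)
  rcases hcs _ hdvd h9 h5 with h | h | h | h | h
  · left; exact h
  · right; exact h
  · rw [h] at hidx
    exfalso
    apply hne20
    omega
  · rw [h] at hidx
    exfalso
    have : (centralizer ({y} : Set G)).index = 10 := by omega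
    rw [this] at hmod4
    norm_num at hmod4
  · rw [h] at hidx
    exfalso
    have : (centralizer ({y} : Set G)).index = 5 := by omega
    rw [this] at hmod4
    norm_num at hmod4

/-- **I10**: a subgroup of order `72` contains a conjugate `u'` of `u` with
`|C(u') ∩ L| = 8`. -/
theorem o720_I10 (hnc : ¬ IsMulCommutative G) (hG : Nat.card G = 720) (u : G) (hu : u * u = 1)
    (hCu : Nat.card ↥(centralizer ({u} : Set G)) = 16) (L : Subgroup G)
    (hL : Nat.card ↥L = 72) :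
    ∃ g : G, g * u * g⁻¹ ∈ L ∧
      Nat.card ↥(centralizer ({g * u * g⁻¹} : Set G) ⊓ L : Subgroup G) = 8 := by
  haveI : Fact (Nat.Prime 2) := ⟨Nat.prime_two⟩
  have hidx : L.index = 10 := by
    have := L.card_mul_index
    rw [hL, hG] at this
    omega
  have hdc := dc_coset L u
  rw [hCu, hidx, hG] at hdc
  have hpar := card_fixedBy_modEq_four hnc (X := G ⧸ L) u hu
  have hX : Nat.card (G ⧸ L) = 10 := hidx
  rw [hX] at hpar
  have hpar' : Nat.card (fixedBy (G ⧸ L) u) % 4 = 10 % 4 := hpar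
  have hodd : ¬ 2 ∣ Nat.card {x : G // IsConj u x ∧ x ∈ L} := by omega
  obtain ⟨K, hK⟩ := Sylow.exists_subgroup_card_pow_prime 2 (n := 3)
    (by rw [hL]; norm_num : 2 ^ 3 ∣ Nat.card ↥L)
  obtain ⟨T8, hT8def⟩ : ∃ T8 : Subgroup G, T8 = K.map L.subtype := ⟨_, rfl⟩
  have hT8 : Nat.card ↥T8 = 2 ^ 3 := by rw [hT8def, card_map_subtype, hK]
  have hT8L : T8 ≤ L := by rw [hT8def]; exact Subgroup.map_subtype_le _
  have hpg : IsPGroup 2 ↥T8 := IsPGroup.of_card hT8
  have hS : ∀ a ∈ T8, ∀ x ∈ ({x : G | IsConj u x ∧ x ∈ L} : Set G),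
      a * x * a⁻¹ ∈ ({x : G | IsConj u x ∧ x ∈ L} : Set G) := by
    intro a ha x hx
    exact ⟨hx.1.trans (isConj_iff.mpr ⟨a, rfl⟩),
      L.mul_mem (L.mul_mem (hT8L ha) hx.2) (L.inv_mem (hT8L ha))⟩
  obtain ⟨w, ⟨hwconj, hwL⟩, hwcomm⟩ := exists_fixed_of_conj_invariant T8 hpg
    ({x : G | IsConj u x ∧ x ∈ L} : Set G) hS hodd
  obtain ⟨g, hg⟩ := isConj_iff.mp hwconj
  refine ⟨g, hg ▸ hwL, ?_⟩
  rw [hg]
  have hle : T8 ≤ centralizer ({w} : Set G) ⊓ L := by
    intro a ha
    refine Subgroup.mem_inf.mpr ⟨?_, hT8L ha⟩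
    rw [mem_centralizer_singleton_iff]
    exact (hwcomm a ha).symm
  have h8 : 8 ∣ Nat.card ↥(centralizer ({w} : Set G) ⊓ L : Subgroup G) := by
    have := Subgroup.card_dvd_of_le hle
    rw [hT8] at this
    norm_num at this
    exact this
  have h16 : Nat.card ↥(centralizer ({w} : Set G) ⊓ L : Subgroup G) ∣ 16 := by
    have := Subgroup.card_dvd_of_le
      (inf_le_left : centralizer ({w} : Set G) ⊓ L ≤ centralizer ({w} : Set G))
    rwa [card_centralizer_of_isConj hwconj, hCu] at this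
  have h72 : Nat.card ↥(centralizer ({w} : Set G) ⊓ L : Subgroup G) ∣ 72 := by
    have := Subgroup.card_dvd_of_le (inf_le_right : centralizer ({w} : Set G) ⊓ L ≤ L)
    rwa [hL] at this
  have h8' : Nat.card ↥(centralizer ({w} : Set G) ⊓ L : Subgroup G) ∣ 8 := by
    have := Nat.dvd_gcd h16 h72
    norm_num at this
    exact this
  exact Nat.dvd_antisymm h8' h8

/-- The number of Sylow `3`-subgroups is `10` or `40`. -/
theorem o720_sylow3 (hnc : ¬ IsMulCommutative G) (hG : Nat.card G = 720) :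
    Nat.card (Sylow 3 G) = 10 ∨ Nat.card (Sylow 3 G) = 40 := by
  haveI : Fact (Nat.Prime 3) := ⟨Nat.prime_three⟩
  haveI : Fact (Nat.Prime 5) := ⟨by norm_num⟩
  obtain ⟨P⟩ : Nonempty (Sylow 3 G) := inferInstance
  have hG3 : Nat.card G = 3 ^ 2 * 80 := by rw [hG]; norm_num
  obtain ⟨hP, hdvd, hmod, hgt, hN⟩ :=
    sylow_basic hG3 (by norm_num) (by norm_num) (by norm_num) P
  have hcases := forall_dvd_of_allLt 80
    (fun d => d % 3 = 1 → d = 1 ∨ d = 4 ∨ d = 10 ∨ d = 16 ∨ d = 40)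
    (by decide +kernel) (by norm_num)
  rcases hcases _ hdvd hmod with h | h | h | h | h
  · omega
  · exfalso
    apply dtest_fact hnc hG hG3 (by norm_num) (by norm_num) (by norm_num)
    rw [h]
    decide
  · left; exact h
  · exfalso
    rw [h] at hN
    set N3 := normalizer ((P : Subgroup G) : Set G) with hN3
    have h45 : Nat.card ↥N3 = 5 ^ 1 * 9 := by rw [hN]; norm_num
    have hd9 : Nat.card (Sylow 5 ↥N3) ∣ 9 := card_sylow_dvd_of_card_eq h45 (by norm_num)
    have hm5 : Nat.card (Sylow 5 ↥N3) % 5 = 1 := card_sylow_modEq_one 5 ↥N3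
    have h1 : Nat.card (Sylow 5 ↥N3) = 1 := by
      have hcs := forall_dvd_of_allLt 9 (fun d => d % 5 = 1 → d = 1)
        (by decide +kernel) (by norm_num)
      exact hcs _ hd9 hm5
    obtain ⟨T, hTN, hTcard, -, hNT⟩ := exists_unique_sylow_subgroup N3 h1
    have hfac45 : 5 ^ (Nat.card ↥N3).factorization 5 = 5 := by
      obtain ⟨T'⟩ : Nonempty (Sylow 5 ↥N3) := inferInstance
      rw [← T'.card_eq_multiplicity, card_sylow_of_card_eq T' h45 (by norm_num)]
      norm_num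
    rw [hfac45] at hTcard
    obtain ⟨P5⟩ : Nonempty (Sylow 5 G) := inferInstance
    obtain ⟨hP5, _, _, _⟩ := o720_sylow5 hnc hG P5
    have hfacG : 5 ^ (Nat.card G).factorization 5 = 5 := by
      rw [← P5.card_eq_multiplicity, hP5]
    obtain ⟨T5, hT5⟩ : ∃ T5 : Sylow 5 G, (T5 : Subgroup G) = T :=
      ⟨Sylow.ofCard T (by rw [hTcard, hfacG]), rfl⟩
    obtain ⟨_, _, hNT5, _⟩ := o720_sylow5 hnc hG T5
    rw [hT5] at hNT5
    have hle : N3 ≤ normalizer (T : Set G) := le_normalizer.trans hNT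
    have := Subgroup.card_dvd_of_le hle
    rw [hNT5, h45] at this
    norm_num at this
  · right; exact h

/-- The case `n_3 = 40`. -/
theorem o720_case40 (hnc : ¬ IsMulCommutative G) (hG : Nat.card G = 720)
    (h40 : Nat.card (Sylow 3 G) = 40) : False := by
  haveI : Fact (Nat.Prime 3) := ⟨Nat.prime_three⟩
  have hG3 : Nat.card G = 3 ^ 2 * 80 := by rw [hG]; norm_num
  have hmod : ¬ Nat.card (Sylow 3 G) ≡ 1 [MOD 3 ^ 2] := by
    rw [h40]
    intro h
    have h' : 40 % 3 ^ 2 = 1 % 3 ^ 2 := h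
    norm_num at h'
  obtain ⟨P, R, hne, hle⟩ := exists_sylow_inter_card 3 2 hmod
  obtain ⟨hP, -, -, -, -⟩ := sylow_basic hG3 (by norm_num) (by norm_num) (by norm_num) P
  obtain ⟨hR, -, -, -, -⟩ := sylow_basic hG3 (by norm_num) (by norm_num) (by norm_num) R
  have hPR3 : 3 ∣ Nat.card ↥((P : Subgroup G) ⊓ (R : Subgroup G) : Subgroup G) := by
    have hdvd : Nat.card ↥((P : Subgroup G) ⊓ (R : Subgroup G) : Subgroup G) ∣ 3 ^ 2 := by
      have := Subgroup.card_dvd_of_le
        (inf_le_left : (P : Subgroup G) ⊓ (R : Subgroup G) ≤ (P : Subgroup G))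
      rwa [hP] at this
    obtain ⟨j, hj, hj'⟩ := (Nat.dvd_prime_pow Nat.prime_three).mp hdvd
    rw [hP, hj'] at hle
    rw [hj']
    interval_cases j
    · norm_num at hle
    · norm_num
    · norm_num
  obtain ⟨y, hyPR, hy3⟩ := exists_mem_orderOf_eq _ hPR3
  have hy1 : y ≠ 1 := by
    intro h
    rw [h, orderOf_one] at hy3
    norm_num at hy3
  have hy9 : y ^ 9 = 1 := by
    have h3 : y ^ 3 = 1 := by
      have := pow_orderOf_eq_one y
      rwa [hy3] at this
    calc y ^ 9 = (y ^ 3) ^ 3 := by rw [← pow_mul]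
      _ = 1 := by rw [h3, one_pow]
  have hcommP := comm_of_card_prime_pow_le_two (e := 2) le_rfl (P : Subgroup G) hP
  have hcommR := comm_of_card_prime_pow_le_two (e := 2) le_rfl (R : Subgroup G) hR
  have hPC : (P : Subgroup G) ≤ centralizer ({y} : Set G) := fun a ha =>
    mem_centralizer_singleton_iff.mpr (hcommP y (Subgroup.mem_inf.mp hyPR).1 a ha)
  have hRC : (R : Subgroup G) ≤ centralizer ({y} : Set G) := fun a ha =>
    mem_centralizer_singleton_iff.mpr (hcommR y (Subgroup.mem_inf.mp hyPR).2 a ha)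
  have h36 := card_ge_of_two_sylow_le P R hne _ hPC hRC
  have h9 : 9 ∣ Nat.card ↥(centralizer ({y} : Set G)) := by
    have := Subgroup.card_dvd_of_le hPC
    rw [hP] at this
    norm_num at this
    exact this
  rw [hP] at h36
  rcases o720_card_centralizer_three hnc hG y hy1 hy9 h9 with h | h <;> rw [h] at h36 <;>
    norm_num at h36

end O720

end Cfsg.Agent.Lib.Helper17
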