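import Mathlib
import Cfsg.Agent.Lib.Helper17.Counting
import Cfsg.Agent.Lib.Helper17.ElementCount
import Cfsg.Agent.Lib.Helper17.Ord720a

/-!
# Counting the elements whose order is divisible by `p` (helper17)

If the Sylow `p`-subgroups of `G` have order `p` and centralizers of order `p * k`, then the
number of elements of order divisible by `p` is `n_p * (p - 1) * k`.
-/

set_option autoImplicit false

namespace Cfsg.Agent.Lib.Helper17

open Subgroup

section PPart

variable {G : Type*} [Group G]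

theorem pow_eq_self_of_mod {p a : ℕ} {y : G} (hy : y ^ p = 1) (ha : a % p = 1) : y ^ a = y := by
  have h1 : a = p * (a / p) + 1 := by
    have := Nat.div_add_mod a p
    omega
  rw [h1, pow_succ, pow_mul, hy, one_pow, one_mul]

theorem pow_eq_one_of_mem_zpowers {p : ℕ} {x z : G} (hx : x ^ p = 1) (hz : z ∈ zpowers x) :
    z ^ p = 1 := by
  obtain ⟨n, rfl⟩ := mem_zpowers_iff.mp hz
  rw [← zpow_natCast, ← zpow_mul, mul_comm, zpow_mul, zpow_natCast, hx, one_zpow]

theorem commute_of_mem_zpowers {x z h : G} (hz : z ∈ zpowers x) (hh : h * x = x * h) :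
    z * h = h * z := by
  obtain ⟨n, rfl⟩ := mem_zpowers_iff.mp hz
  have h1 : Commute x h := hh.symm
  exact h1.zpow_left n

theorem card_add_card_le_card_or {α : Type*} [Finite α] (p q : α → Prop)
    (h : ∀ a, p a → ¬ q a) :
    Nat.card {a // p a} + Nat.card {a // q a} ≤ Nat.card {a // p a ∨ q a} := by
  rw [← Nat.card_sum]
  apply Nat.card_le_card_of_injective
    (Sum.elim (fun a : {a // p a} => (⟨a.1, Or.inl a.2⟩ : {a // p a ∨ q a}))
      (fun a : {a // q a} => (⟨a.1, Or.inr a.2⟩ : {a // p a ∨ q a})))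
  rintro (a | a) (b | b) hab
  · simp only [Sum.elim_inl] at hab
    have h0 := congrArg Subtype.val hab
    have h1 : a.1 = b.1 := h0
    rw [Subtype.ext h1]
  · simp only [Sum.elim_inl, Sum.elim_inr] at hab
    have h0 := congrArg Subtype.val hab
    have h1 : a.1 = b.1 := h0
    exact absurd b.2 (h1 ▸ h a.1 a.2)
  · simp only [Sum.elim_inl, Sum.elim_inr] at hab
    have h0 := congrArg Subtype.val hab
    have h1 : a.1 = b.1 := h0
    exact absurd a.2 (h1 ▸ h b.1 b.2)
  · simp only [Sum.elim_inr] at hab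
    have h0 := congrArg Subtype.val hab
    have h1 : a.1 = b.1 := h0
    rw [Subtype.ext h1]

/-- Fibres of the `p`-part map on the centralizer of an element of order `p`. -/
theorem card_pow_eq_of_centralizer [Finite G] {p k a : ℕ} (hp : p.Prime) {x : G}
    (hx : orderOf x = p) (H : Subgroup G) (hxH : ∀ h ∈ H, h * x = x * h)
    (hHx : ∀ g : G, g * x = x * g → g ∈ H) (hcard : Nat.card ↥H = p * k)
    (hmem : ∀ h ∈ H, h ^ p = 1 → h ∈ zpowers x) (ha1 : a % p = 1)
    (hap : ∀ g : G, (g ^ a) ^ p = 1) :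
    Nat.card {g : G // g ^ a = x} = k := by
  have hxp : x ^ p = 1 := by rw [← hx]; exact pow_orderOf_eq_one x
  have hxmem : x ∈ H := hHx x rfl
  have hzH : zpowers x ≤ H := by rw [zpowers_le]; exact hxmem
  have hcomm_of : ∀ g : G, g ^ a = x → g * x = x * g := by
    intro g hg
    have h1 : Commute g (g ^ a) := (Commute.refl g).pow_right a
    rw [hg] at h1
    exact h1
  let φ : ↥H → ↥(zpowers x) := fun h => ⟨(h : G) ^ a, hmem _ (H.pow_mem h.2 a) (hap _)⟩
  have hfib : ∀ y : ↥(zpowers x),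
      Nat.card {h : ↥H // φ h = y} = Nat.card {g : G // g ^ a = x} := by
    intro y
    have hz : x * (y : G)⁻¹ ∈ zpowers x :=
      (zpowers x).mul_mem (mem_zpowers x) ((zpowers x).inv_mem y.2)
    have hzp : (x * (y : G)⁻¹) ^ p = 1 := pow_eq_one_of_mem_zpowers hxp hz
    have hza : (x * (y : G)⁻¹) ^ a = x * (y : G)⁻¹ := pow_eq_self_of_mod hzp ha1
    have hz' : (x * (y : G)⁻¹)⁻¹ ∈ zpowers x := (zpowers x).inv_mem hz
    have hzp' : ((x * (y : G)⁻¹)⁻¹) ^ p = 1 := pow_eq_one_of_mem_zpowers hxp hz'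
    have hza' : ((x * (y : G)⁻¹)⁻¹) ^ a = (x * (y : G)⁻¹)⁻¹ := pow_eq_self_of_mod hzp' ha1
    refine Nat.card_congr
      { toFun := fun h => ⟨x * (y : G)⁻¹ * (h.1 : G), ?_⟩
        invFun := fun g => ⟨⟨(x * (y : G)⁻¹)⁻¹ * g.1, ?_⟩, ?_⟩
        left_inv := ?_
        right_inv := ?_ }
    · have h1 : ((h.1 : G)) ^ a = (y : G) := congrArg Subtype.val h.2
      have hc : Commute (x * (y : G)⁻¹) (h.1 : G) := commute_of_mem_zpowers hz (hxH _ h.1.2)
      rw [hc.mul_pow, hza, h1]
      group
    · exact H.mul_mem (hzH hz') (hHx _ (hcomm_of _ g.2))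
    · apply Subtype.ext
      show ((x * (y : G)⁻¹)⁻¹ * g.1) ^ a = (y : G)
      have hc : Commute ((x * (y : G)⁻¹)⁻¹) g.1 :=
        commute_of_mem_zpowers hz' (hcomm_of _ g.2)
      rw [hc.mul_pow, hza', g.2]
      group
    · intro h
      apply Subtype.ext
      apply Subtype.ext
      show (x * (y : G)⁻¹)⁻¹ * (x * (y : G)⁻¹ * (h.1 : G)) = h.1
      group
    · intro g
      apply Subtype.ext
      show x * (y : G)⁻¹ * ((x * (y : G)⁻¹)⁻¹ * g.1) = g.1
      group
  have h2 := card_eq_mul_of_fibers φ _ hfib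
  rw [hcard, Nat.card_zpowers, hx] at h2
  exact (Nat.eq_of_mul_eq_mul_left hp.pos h2).symm

/-- If the Sylow `p`-subgroups have order `p` and centralizers of order `p * k`, then exactly
`n_p * (p - 1) * k` elements have order divisible by `p`. -/
theorem card_dvd_orderOf_eq [Finite G] {p k m : ℕ} [hp : Fact p.Prime]
    (hG : Nat.card G = p * m) (hpm : ¬ p ∣ m)
    (hC : ∀ P : Sylow p G, Nat.card ↥(centralizer ((P : Subgroup G) : Set G)) = p * k) :
    Nat.card {g : G // p ∣ orderOf g} = Nat.card (Sylow p G) * (p - 1) * k := by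
  have hG1 : Nat.card G = p ^ 1 * m := by rw [pow_one]; exact hG
  have hcardP : ∀ P : Sylow p G, Nat.card ↥(P : Subgroup G) = p := fun P => by
    have := card_sylow_of_card_eq P hG1 hpm
    rwa [pow_one] at this
  have hfac : p ^ (Nat.card G).factorization p = p := by
    obtain ⟨P₀⟩ : Nonempty (Sylow p G) := inferInstance
    rw [← P₀.card_eq_multiplicity, hcardP]
  have hp2 := hp.out.two_le
  have hma : m ∣ m ^ (p - 1) := dvd_pow_self m (by omega)
  have ha1 : m ^ (p - 1) % p = 1 := by
    have hcop : Nat.Coprime m p := ((Nat.Prime.coprime_iff_not_dvd hp.out).mpr hpm).symm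
    have h1 := Nat.ModEq.pow_totient hcop
    rw [Nat.totient_prime hp.out] at h1
    have h2 : m ^ (p - 1) % p = 1 % p := h1
    rw [h2]
    exact Nat.mod_eq_of_lt hp.out.one_lt
  have hap : ∀ g : G, (g ^ (m ^ (p - 1))) ^ p = 1 := by
    intro g
    obtain ⟨c, hc⟩ := hma
    rw [← pow_mul, hc, show m * c * p = (p * m) * c by ring, pow_mul, ← hG, pow_card_eq_one',
      one_pow]
  rw [← card_orderOf_eq_prime hcardP]
  have hord : ∀ g : G, p ∣ orderOf g → orderOf (g ^ (m ^ (p - 1))) = p := by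
    intro g hg
    apply orderOf_eq_prime (hap g)
    intro h1
    have h2 : orderOf g ∣ m ^ (p - 1) := orderOf_dvd_of_pow_eq_one h1
    have h3 : p ∣ m ^ (p - 1) := hg.trans h2
    have := Nat.mod_eq_zero_of_dvd h3
    omega
  let f : {g : G // p ∣ orderOf g} → {x : G // orderOf x = p} :=
    fun g => ⟨g.1 ^ (m ^ (p - 1)), hord g.1 g.2⟩
  apply card_eq_mul_of_fibers f
  intro x
  have h1 : Nat.card {g' : {g : G // p ∣ orderOf g} // f g' = x} =
      Nat.card {g : G // g ^ (m ^ (p - 1)) = x.1} := by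
    refine Nat.card_congr
      { toFun := fun g' => ⟨g'.1.1, congrArg Subtype.val g'.2⟩
        invFun := fun g => ⟨⟨g.1, ?_⟩, Subtype.ext g.2⟩
        left_inv := fun g' => rfl
        right_inv := fun g => rfl }
    have h2 : orderOf (g.1 ^ (m ^ (p - 1))) ∣ orderOf g.1 := orderOf_pow_dvd _
    rw [g.2, x.2] at h2
    exact h2
  rw [h1]
  let Q : Sylow p G := Sylow.ofCard (zpowers x.1) (by rw [Nat.card_zpowers, x.2, hfac])
  have hQ : (Q : Subgroup G) = zpowers x.1 := rfl
  have hCQ := hC Q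
  apply card_pow_eq_of_centralizer hp.out x.2 (centralizer ((Q : Subgroup G) : Set G)) ?_ ?_ hCQ
    ?_ ha1 hap
  · intro h hh
    rw [mem_centralizer_iff] at hh
    exact (hh x.1 (by rw [hQ]; exact mem_zpowers x.1)).symm
  · intro g hg
    rw [mem_centralizer_iff]
    intro z hz
    rw [hQ] at hz
    exact commute_of_mem_zpowers hz hg
  · intro h hh hhp
    have h3 := mem_sylow_of_mem_normalizer Q h (centralizer_le_normalizer _ hh)
      (isPGroup_zpowers_of_pow_eq_one (k := 1) (by rwa [pow_one]))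
    rwa [hQ] at h3

/-- An element commuting with an element of order `p` lies in the centralizer of a Sylow
`p`-subgroup, when these have order `p`. -/
theorem exists_sylow_mem_centralizer_of_commute [Finite G] {p : ℕ} [hp : Fact p.Prime]
    (hcardP : ∀ P : Sylow p G, Nat.card ↥(P : Subgroup G) = p) {w t : G} (hw : orderOf w = p)
    (htw : t * w = w * t) :
    ∃ Q : Sylow p G, (Q : Subgroup G) = zpowers w ∧
      t ∈ centralizer ((Q : Subgroup G) : Set G) := by
  have hfac : p ^ (Nat.card G).factorization p = p := by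
    obtain ⟨P₀⟩ : Nonempty (Sylow p G) := inferInstance
    rw [← P₀.card_eq_multiplicity, hcardP]
  let Q : Sylow p G := Sylow.ofCard (zpowers w) (by rw [Nat.card_zpowers, hw, hfac])
  have hQ : (Q : Subgroup G) = zpowers w := rfl
  refine ⟨Q, hQ, ?_⟩
  rw [mem_centralizer_iff]
  intro z hz
  rw [hQ] at hz
  exact commute_of_mem_zpowers hz htw

end PPart

end Cfsg.Agent.Lib.Helper17
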