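import Mathlib
import Cfsg.Agent.Lib.Helper17.PPartCount
import Cfsg.Agent.Lib.Helper17.Ord720a
import Cfsg.Agent.Lib.Helper17.SylowConj

/-!
# Simple groups of order 4080 (helper17)

Local analysis: the centralizer of every involution is an elementary abelian `2`-group.
-/

set_option autoImplicit false

namespace Cfsg.Agent.Lib.Helper17

open Subgroup

section CountFive

theorem card_five_le {α : Type*} [Finite α] (p1 p2 p3 p4 p5 : α → Prop)
    (h12 : ∀ a, p1 a → ¬ p2 a) (h13 : ∀ a, p1 a → ¬ p3 a) (h14 : ∀ a, p1 a → ¬ p4 a)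
    (h15 : ∀ a, p1 a → ¬ p5 a) (h23 : ∀ a, p2 a → ¬ p3 a) (h24 : ∀ a, p2 a → ¬ p4 a)
    (h25 : ∀ a, p2 a → ¬ p5 a) (h34 : ∀ a, p3 a → ¬ p4 a) (h35 : ∀ a, p3 a → ¬ p5 a)
    (h45 : ∀ a, p4 a → ¬ p5 a) :
    Nat.card {a // p1 a} + Nat.card {a // p2 a} + Nat.card {a // p3 a} + Nat.card {a // p4 a} +
      Nat.card {a // p5 a} ≤ Nat.card α := by
  have e1 := card_add_card_le_of_disjoint p1 (fun a => p2 a ∨ (p3 a ∨ (p4 a ∨ p5 a))) (by
    intro a h1 h
    rcases h with h | h | h | h
    · exact h12 a h1 h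
    · exact h13 a h1 h
    · exact h14 a h1 h
    · exact h15 a h1 h)
  have e2 := card_add_card_le_card_or p2 (fun a => p3 a ∨ (p4 a ∨ p5 a)) (by
    intro a h2 h
    rcases h with h | h | h
    · exact h23 a h2 h
    · exact h24 a h2 h
    · exact h25 a h2 h)
  have e3 := card_add_card_le_card_or p3 (fun a => p4 a ∨ p5 a) (by
    intro a h3 h
    rcases h with h | h
    · exact h34 a h3 h
    · exact h35 a h3 h)
  have e4 := card_add_card_le_card_or p4 p5 h45
  omega

end CountFive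

section General

variable {G : Type*} [Group G] [Finite G]

/-- If the centralizers of the Sylow `p`-subgroups (of order `p`) have odd order, then no
involution commutes with an element of order divisible by `p`. -/
theorem not_dvd_orderOf_of_commute_involution {p c : ℕ} [hp : Fact p.Prime]
    (hcardP : ∀ P : Sylow p G, Nat.card ↥(P : Subgroup G) = p)
    (hC : ∀ P : Sylow p G, Nat.card ↥(centralizer ((P : Subgroup G) : Set G)) = c)
    (hc : ¬ 2 ∣ c) {t w : G} (ht : orderOf t = 2) (htw : t * w = w * t) : ¬ p ∣ orderOf w := by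
  intro hpw
  have hw0 : orderOf w ≠ 0 := (orderOf_pos w).ne'
  have h1 : orderOf (w ^ (orderOf w / p)) = p := orderOf_pow_orderOf_div hw0 hpw
  have h2 : t * w ^ (orderOf w / p) = w ^ (orderOf w / p) * t := by
    have h3 : Commute t w := htw
    exact h3.pow_right _
  obtain ⟨Q, _, hmem⟩ := exists_sylow_mem_centralizer_of_commute hcardP h1 h2
  have hd := orderOf_dvd_card_of_mem _ hmem
  rw [ht, hC Q] at hd
  exact hc hd

end General

section O4080

variable {G : Type*} [Group G] [Finite G] [IsSimpleGroup G]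

theorem o4080_sylow17 (hG : Nat.card G = 4080) (P : Sylow 17 G) :
    Nat.card ↥(P : Subgroup G) = 17 ∧ Nat.card (Sylow 17 G) = 120 ∧
      Nat.card ↥(centralizer ((P : Subgroup G) : Set G)) = 17 := by
  haveI : Fact (Nat.Prime 17) := ⟨by norm_num⟩
  have hG17 : Nat.card G = 17 ^ 1 * 240 := by rw [hG]; norm_num
  obtain ⟨hP, hdvd, hmod, hgt, hN⟩ := sylow_basic hG17 (by norm_num) le_rfl (by norm_num) P
  rw [pow_one] at hP hN
  have hcases := forall_dvd_of_allLt 240
    (fun d => d % 17 = 1 → d = 1 ∨ d = 120) (by decide +kernel) (by norm_num)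
  have hn : Nat.card (Sylow 17 G) = 120 := by
    rcases hcases _ hdvd hmod with h | h
    · omega
    · exact h
  rw [hn] at hN
  have hN' : Nat.card ↥(normalizer ((P : Subgroup G) : Set G)) = 17 * 2 := by rw [hN]
  obtain ⟨r, hr16, hr2, hr1, hCr, hPC, hCN⟩ :=
    card_centralizer_sylow_mul P hP (by rw [hG]; norm_num) hN'
  refine ⟨hP, hn, ?_⟩
  have hr : r = 2 := by
    have := Nat.le_of_dvd (by norm_num) hr2
    interval_cases r
    · simp at hr2
    · exact absurd rfl hr1
    · rfl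
  rw [hr] at hCr
  omega

theorem o4080_sylow3 (hnc : ¬ IsMulCommutative G) (hG : Nat.card G = 4080) (P : Sylow 3 G) :
    Nat.card ↥(P : Subgroup G) = 3 ∧
      ((Nat.card (Sylow 3 G) = 34 ∧
          Nat.card ↥(centralizer ((P : Subgroup G) : Set G)) = 60) ∨
        (Nat.card (Sylow 3 G) = 85 ∧
          Nat.card ↥(centralizer ((P : Subgroup G) : Set G)) = 24) ∨
        (Nat.card (Sylow 3 G) = 136 ∧
          Nat.card ↥(centralizer ((P : Subgroup G) : Set G)) = 15) ∨
        (Nat.card (Sylow 3 G) = 340 ∧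
          Nat.card ↥(centralizer ((P : Subgroup G) : Set G)) = 6)) := by
  haveI : Fact (Nat.Prime 3) := ⟨by norm_num⟩
  haveI : Fact (Nat.Prime 17) := ⟨by norm_num⟩
  have hG3 : Nat.card G = 3 ^ 1 * 1360 := by rw [hG]; norm_num
  obtain ⟨hP, hdvd, hmod, hgt, hN⟩ := sylow_basic hG3 (by norm_num) le_rfl (by norm_num) P
  rw [pow_one] at hP hN
  have hcases := forall_dvd_of_allLt 1360
    (fun d => d % 3 = 1 → d = 1 ∨ d = 4 ∨ d = 10 ∨ d = 16 ∨ d = 34 ∨ d = 40 ∨ d = 85 ∨ d = 136 ∨
      d = 340 ∨ d = 1360)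
    (by decide +kernel) (by norm_num)
  have key : ∀ e : ℕ, Nat.card ↥(normalizer ((P : Subgroup G) : Set G)) = 3 * e →
      Nat.card ↥(centralizer ((P : Subgroup G) : Set G)) * 2 = 3 * e := by
    intro e he
    obtain ⟨r, hr2, hre, hr1, hCr, hPC, hCN⟩ :=
      card_centralizer_sylow_mul P hP (by rw [hG]; norm_num) he
    have hr : r = 2 := by
      have h2 : r ∣ 2 := by simpa using hr2
      have := Nat.le_of_dvd (by norm_num) h2
      interval_cases r
      · simp at h2
      · exact absurd rfl hr1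
      · rfl
    rw [hr] at hCr
    exact hCr
  refine ⟨hP, ?_⟩
  rcases hcases _ hdvd hmod with h | h | h | h | h | h | h | h | h | h
  · omega
  · exfalso
    apply dtest_fact hnc hG hG3 (by norm_num) le_rfl (by norm_num)
    rw [h]
    decide
  · exfalso
    apply dtest_fact hnc hG hG3 (by norm_num) le_rfl (by norm_num)
    rw [h]
    decide
  · exfalso
    apply dtest_fact hnc hG hG3 (by norm_num) le_rfl (by norm_num)
    rw [h]
    decide +kernel
  · left
    rw [h] at hN
    have hC := key 40 (by rw [hN])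
    exact ⟨h, by omega⟩
  · exfalso
    rw [h] at hN
    have hC := key 34 (by rw [hN])
    have hC51 : Nat.card ↥(centralizer ((P : Subgroup G) : Set G)) = 51 := by omega
    obtain ⟨y, hyC, hy⟩ := exists_mem_orderOf_eq (p := 17)
      (centralizer ((P : Subgroup G) : Set G)) (by rw [hC51]; norm_num)
    obtain ⟨x, hxP, hx⟩ := exists_mem_orderOf_eq (p := 3) (P : Subgroup G) (by rw [hP])
    have hxy : x * y = y * x := mem_centralizer_iff.mp hyC x hxP
    have hcard17 : ∀ Q : Sylow 17 G, Nat.card ↥(Q : Subgroup G) = 17 :=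
      fun Q => (o4080_sylow17 hG Q).1
    obtain ⟨Q, hQ, hxQ⟩ := exists_sylow_mem_centralizer_of_commute hcard17 hy hxy
    have hd := orderOf_dvd_card_of_mem _ hxQ
    rw [hx, (o4080_sylow17 hG Q).2.2] at hd
    omega
  · right; left
    rw [h] at hN
    have hC := key 16 (by rw [hN])
    exact ⟨h, by omega⟩
  · right; right; left
    rw [h] at hN
    have hC := key 10 (by rw [hN])
    exact ⟨h, by omega⟩
  · right; right; right
    rw [h] at hN
    have hC := key 4 (by rw [hN])
    exact ⟨h, by omega⟩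
  · exfalso
    apply dtest_nc1 hG3 (by norm_num) (by norm_num)
    rw [h]
    norm_num

theorem o4080_sylow5 (hnc : ¬ IsMulCommutative G) (hG : Nat.card G = 4080) (P : Sylow 5 G) :
    Nat.card ↥(P : Subgroup G) = 5 ∧
      ((Nat.card (Sylow 5 G) = 51 ∧
          (Nat.card ↥(centralizer ((P : Subgroup G) : Set G)) = 20 ∨
            Nat.card ↥(centralizer ((P : Subgroup G) : Set G)) = 40)) ∨
        (Nat.card (Sylow 5 G) = 136 ∧
          Nat.card ↥(centralizer ((P : Subgroup G) : Set G)) = 15)) := by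
  haveI : Fact (Nat.Prime 5) := ⟨by norm_num⟩
  have hG5 : Nat.card G = 5 ^ 1 * 816 := by rw [hG]; norm_num
  obtain ⟨hP, hdvd, hmod, hgt, hN⟩ := sylow_basic hG5 (by norm_num) le_rfl (by norm_num) P
  rw [pow_one] at hP hN
  have hcases := forall_dvd_of_allLt 816
    (fun d => d % 5 = 1 → d = 1 ∨ d = 6 ∨ d = 16 ∨ d = 51 ∨ d = 136 ∨ d = 816)
    (by decide +kernel) (by norm_num)
  refine ⟨hP, ?_⟩
  rcases hcases _ hdvd hmod with h | h | h | h | h | h
  · omega
  · exfalso
    apply dtest_fact hnc hG hG5 (by norm_num) le_rfl (by norm_num)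
    rw [h]
    decide
  · exfalso
    apply dtest_fact hnc hG hG5 (by norm_num) le_rfl (by norm_num)
    rw [h]
    decide +kernel
  · left
    rw [h] at hN
    have hN' : Nat.card ↥(normalizer ((P : Subgroup G) : Set G)) = 5 * 16 := by rw [hN]
    obtain ⟨r, hr4, hr16, hr1, hCr, hPC, hCN⟩ :=
      card_centralizer_sylow_mul P hP (by rw [hG]; norm_num) hN'
    refine ⟨h, ?_⟩
    have h4 : r ∣ 4 := by simpa using hr4
    have := Nat.le_of_dvd (by norm_num) h4
    interval_cases r
    · simp at h4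
    · exact absurd rfl hr1
    · right; omega
    · exact absurd h4 (by decide)
    · left; omega
  · right
    rw [h] at hN
    have hN' : Nat.card ↥(normalizer ((P : Subgroup G) : Set G)) = 5 * 6 := by rw [hN]
    obtain ⟨r, hr4, hr6, hr1, hCr, hPC, hCN⟩ :=
      card_centralizer_sylow_mul P hP (by rw [hG]; norm_num) hN'
    refine ⟨h, ?_⟩
    have h4 : r ∣ 4 := by simpa using hr4
    have := Nat.le_of_dvd (by norm_num) h4
    interval_cases r
    · simp at h4
    · exact absurd rfl hr1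
    · omega
    · exact absurd h4 (by decide)
    · exact absurd hr6 (by decide)
  · exfalso
    apply dtest_nc1 hG5 (by norm_num) (by norm_num)
    rw [h]
    norm_num

/-- By counting, some element has order divisible by `15`. -/
theorem o4080_exists_fifteen (hnc : ¬ IsMulCommutative G) (hG : Nat.card G = 4080) :
    ∃ g : G, 15 ∣ orderOf g := by
  haveI : Fact (Nat.Prime 3) := ⟨by norm_num⟩
  haveI : Fact (Nat.Prime 5) := ⟨by norm_num⟩
  haveI : Fact (Nat.Prime 17) := ⟨by norm_num⟩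
  by_contra hno
  push Not at hno
  obtain ⟨P17⟩ : Nonempty (Sylow 17 G) := inferInstance
  have h17c : ∀ Q : Sylow 17 G, Nat.card ↥(Q : Subgroup G) = 17 :=
    fun Q => (o4080_sylow17 hG Q).1
  have hn17 := (o4080_sylow17 hG P17).2.1
  have c17 := card_orderOf_eq_prime h17c
  rw [hn17] at c17
  obtain ⟨P5⟩ : Nonempty (Sylow 5 G) := inferInstance
  obtain ⟨k5, hC5, hnk5⟩ : ∃ k5 : ℕ,
      (∀ Q : Sylow 5 G, Nat.card ↥(centralizer ((Q : Subgroup G) : Set G)) = 5 * k5) ∧
        204 ≤ Nat.card (Sylow 5 G) * k5 := by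
    rcases (o4080_sylow5 hnc hG P5).2 with ⟨hn, hC | hC⟩ | ⟨hn, hC⟩
    · exact ⟨4, fun Q => by rw [card_centralizer_sylow_eq P5 Q, hC], by rw [hn]⟩
    · exact ⟨8, fun Q => by rw [card_centralizer_sylow_eq P5 Q, hC], by rw [hn]; norm_num⟩
    · exact ⟨3, fun Q => by rw [card_centralizer_sylow_eq P5 Q, hC], by rw [hn]; norm_num⟩
  obtain ⟨P3⟩ : Nonempty (Sylow 3 G) := inferInstance
  obtain ⟨k3, hC3, hnk3⟩ : ∃ k3 : ℕ,
      (∀ Q : Sylow 3 G, Nat.card ↥(centralizer ((Q : Subgroup G) : Set G)) = 3 * k3) ∧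
        Nat.card (Sylow 3 G) * k3 = 680 := by
    rcases (o4080_sylow3 hnc hG P3).2 with ⟨hn, hC⟩ | ⟨hn, hC⟩ | ⟨hn, hC⟩ | ⟨hn, hC⟩
    · exact ⟨20, fun Q => by rw [card_centralizer_sylow_eq P3 Q, hC], by rw [hn]⟩
    · exact ⟨8, fun Q => by rw [card_centralizer_sylow_eq P3 Q, hC], by rw [hn]⟩
    · exact ⟨5, fun Q => by rw [card_centralizer_sylow_eq P3 Q, hC], by rw [hn]⟩
    · exact ⟨2, fun Q => by rw [card_centralizer_sylow_eq P3 Q, hC], by rw [hn]⟩
  have c5 := card_dvd_orderOf_eq (p := 5) (k := k5) (m := 816) (by rw [hG]) (by norm_num) hC5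
  have c3 := card_dvd_orderOf_eq (p := 3) (k := k3) (m := 1360) (by rw [hG]) (by norm_num) hC3
  have e5 : Nat.card (Sylow 5 G) * (5 - 1) * k5 = 4 * (Nat.card (Sylow 5 G) * k5) := by
    rw [show (5 - 1 : ℕ) = 4 from rfl]; ring
  have e3 : Nat.card (Sylow 3 G) * (3 - 1) * k3 = 2 * (Nat.card (Sylow 3 G) * k3) := by
    rw [show (3 - 1 : ℕ) = 2 from rfl]; ring
  rw [e5] at c5
  rw [e3, hnk3] at c3
  have hone : 0 < Nat.card {g : G // g = 1} := by
    haveI : Nonempty {g : G // g = 1} := ⟨⟨1, rfl⟩⟩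
    exact Nat.card_pos
  have hsum := card_five_le (α := G) (fun g => orderOf g = 17) (fun g => 5 ∣ orderOf g)
    (fun g => 3 ∣ orderOf g) (fun g => g = 1) (fun _ => False)
    (by intro a h1 h2; rw [h1] at h2; omega)
    (by intro a h1 h2; rw [h1] at h2; omega)
    (by
      intro a h1 h2
      rw [h2, orderOf_one] at h1
      omega)
    (by intro a _ h; exact h)
    (by
      intro a h2 h3
      exact hno a (Nat.Coprime.mul_dvd_of_dvd_of_dvd (by norm_num) h3 h2))
    (by
      intro a h1 h2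
      rw [h2, orderOf_one] at h1
      omega)
    (by intro a _ h; exact h)
    (by
      intro a h1 h2
      rw [h2, orderOf_one] at h1
      omega)
    (by intro a _ h; exact h)
    (by intro a _ h; exact h)
  rw [hG] at hsum
  omega

/-- The Sylow structure of a simple group of order `4080`. -/
theorem o4080_structure (hnc : ¬ IsMulCommutative G) (hG : Nat.card G = 4080) :
    Nat.card (Sylow 5 G) = 136 ∧ Nat.card (Sylow 3 G) = 136 ∧
      (∀ Q : Sylow 5 G, Nat.card ↥(centralizer ((Q : Subgroup G) : Set G)) = 15) ∧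
      (∀ Q : Sylow 3 G, Nat.card ↥(centralizer ((Q : Subgroup G) : Set G)) = 15) := by
  haveI : Fact (Nat.Prime 3) := ⟨by norm_num⟩
  haveI : Fact (Nat.Prime 5) := ⟨by norm_num⟩
  obtain ⟨g, hg⟩ := o4080_exists_fifteen hnc hG
  have hg0 : orderOf g ≠ 0 := (orderOf_pos g).ne'
  have h5 : orderOf (g ^ (orderOf g / 5)) = 5 :=
    orderOf_pow_orderOf_div hg0 (dvd_trans (by norm_num) hg)
  have h3 : orderOf (g ^ (orderOf g / 3)) = 3 :=
    orderOf_pow_orderOf_div hg0 (dvd_trans (by norm_num) hg)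
  have hcomm : g ^ (orderOf g / 3) * g ^ (orderOf g / 5) =
      g ^ (orderOf g / 5) * g ^ (orderOf g / 3) := by
    rw [← pow_add, ← pow_add, add_comm]
  have h5c : ∀ Q : Sylow 5 G, Nat.card ↥(Q : Subgroup G) = 5 :=
    fun Q => (o4080_sylow5 hnc hG Q).1
  have h3c : ∀ Q : Sylow 3 G, Nat.card ↥(Q : Subgroup G) = 3 :=
    fun Q => (o4080_sylow3 hnc hG Q).1
  obtain ⟨Q5, hQ5, hmem5⟩ := exists_sylow_mem_centralizer_of_commute h5c h5 hcomm
  have hd5 := orderOf_dvd_card_of_mem _ hmem5
  rw [h3] at hd5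
  obtain ⟨Q3, hQ3, hmem3⟩ := exists_sylow_mem_centralizer_of_commute h3c h3 hcomm.symm
  have hd3 := orderOf_dvd_card_of_mem _ hmem3
  rw [h5] at hd3
  have r5 : Nat.card (Sylow 5 G) = 136 ∧
      Nat.card ↥(centralizer ((Q5 : Subgroup G) : Set G)) = 15 := by
    rcases (o4080_sylow5 hnc hG Q5).2 with ⟨hn, hC | hC⟩ | ⟨hn, hC⟩
    · rw [hC] at hd5; omega
    · rw [hC] at hd5; omega
    · exact ⟨hn, hC⟩
  have r3 : Nat.card (Sylow 3 G) = 136 ∧
      Nat.card ↥(centralizer ((Q3 : Subgroup G) : Set G)) = 15 := by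
    rcases (o4080_sylow3 hnc hG Q3).2 with ⟨hn, hC⟩ | ⟨hn, hC⟩ | ⟨hn, hC⟩ | ⟨hn, hC⟩
    · exfalso
      have hN5 := card_normalizer_mul_card_sylow Q5
      rw [r5.1, hG] at hN5
      have hN30 : Nat.card ↥(normalizer ((Q5 : Subgroup G) : Set G)) = 30 := by omega
      have haC3 : g ^ (orderOf g / 5) ∈ centralizer ((Q3 : Subgroup G) : Set G) := hmem3
      have hbC5 : g ^ (orderOf g / 3) ∈ centralizer ((Q5 : Subgroup G) : Set G) := hmem5
      have haQ5 : g ^ (orderOf g / 5) ∈ (Q5 : Subgroup G) := by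
        rw [hQ5]; exact mem_zpowers _
      have hbQ3 : g ^ (orderOf g / 3) ∈ (Q3 : Subgroup G) := by
        rw [hQ3]; exact mem_zpowers _
      have hQ5C3 : (Q5 : Subgroup G) ≤ centralizer ((Q3 : Subgroup G) : Set G) := by
        rw [hQ5, zpowers_le]; exact haC3
      have hbC3 : g ^ (orderOf g / 3) ∈ centralizer ((Q3 : Subgroup G) : Set G) := by
        rw [mem_centralizer_iff]
        intro z hz
        rw [hQ3] at hz
        exact commute_of_mem_zpowers hz rfl
      have haM : g ^ (orderOf g / 5) ∈ (normalizer ((Q5 : Subgroup G) : Set G) ⊓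
          centralizer ((Q3 : Subgroup G) : Set G) : Subgroup G) :=
        ⟨le_normalizer haQ5, haC3⟩
      have hbM : g ^ (orderOf g / 3) ∈ (normalizer ((Q5 : Subgroup G) : Set G) ⊓
          centralizer ((Q3 : Subgroup G) : Set G) : Subgroup G) :=
        ⟨centralizer_le_normalizer _ hbC5, hbC3⟩
      have h5M := orderOf_dvd_card_of_mem _ haM
      have h3M := orderOf_dvd_card_of_mem _ hbM
      rw [h5] at h5M
      rw [h3] at h3M
      have hM30 : Nat.card ↥(normalizer ((Q5 : Subgroup G) : Set G) ⊓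
          centralizer ((Q3 : Subgroup G) : Set G) : Subgroup G) ∣ 30 := by
        have := Subgroup.card_dvd_of_le (inf_le_left :
          (normalizer ((Q5 : Subgroup G) : Set G) ⊓
            centralizer ((Q3 : Subgroup G) : Set G) : Subgroup G) ≤
              normalizer ((Q5 : Subgroup G) : Set G))
        rwa [hN30] at this
      have hmul := card_inf_mul_relIndex (normalizer ((Q5 : Subgroup G) : Set G))
        (centralizer ((Q3 : Subgroup G) : Set G))
      rw [hC] at hmul
      have hmod : (normalizer ((Q5 : Subgroup G) : Set G)).relIndex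
          (centralizer ((Q3 : Subgroup G) : Set G)) % 5 = 1 :=
        relIndex_normalizer_modEq_one Q5 _ hQ5C3
      have hle := Nat.le_of_dvd (by norm_num) hM30
      obtain ⟨j, hj⟩ := Nat.Coprime.mul_dvd_of_dvd_of_dvd (by norm_num : Nat.Coprime 3 5) h3M h5M
      rw [hj] at hmul hle
      have hj2 : j ≤ 2 := by omega
      interval_cases j
      · omega
      · omega
      · omega
    · rw [hC] at hd3; omega
    · exact ⟨hn, hC⟩
    · rw [hC] at hd3; omega
  refine ⟨r5.1, r3.1, fun Q => ?_, fun Q => ?_⟩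
  · rw [card_centralizer_sylow_eq Q5 Q, r5.2]
  · rw [card_centralizer_sylow_eq Q3 Q, r3.2]

/-- No involution commutes with an element of order divisible by `3`, `5` or `17`. -/
theorem o4080_odd_free (hnc : ¬ IsMulCommutative G) (hG : Nat.card G = 4080) {t w : G}
    (ht : orderOf t = 2) (htw : t * w = w * t) :
    ¬ 3 ∣ orderOf w ∧ ¬ 5 ∣ orderOf w ∧ ¬ 17 ∣ orderOf w := by
  haveI : Fact (Nat.Prime 3) := ⟨by norm_num⟩
  haveI : Fact (Nat.Prime 5) := ⟨by norm_num⟩
  haveI : Fact (Nat.Prime 17) := ⟨by norm_num⟩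
  obtain ⟨_, _, hC5, hC3⟩ := o4080_structure hnc hG
  refine ⟨?_, ?_, ?_⟩
  · exact not_dvd_orderOf_of_commute_involution (fun Q => (o4080_sylow3 hnc hG Q).1) hC3
      (by norm_num) ht htw
  · exact not_dvd_orderOf_of_commute_involution (fun Q => (o4080_sylow5 hnc hG Q).1) hC5
      (by norm_num) ht htw
  · exact not_dvd_orderOf_of_commute_involution (fun Q => (o4080_sylow17 hG Q).1)
      (fun Q => (o4080_sylow17 hG Q).2.2) (by norm_num) ht htw

/-- There are at most `255` nonidentity `2`-elements. -/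
theorem o4080_two_elements (hnc : ¬ IsMulCommutative G) (hG : Nat.card G = 4080) :
    Nat.card {g : G // g ^ 16 = 1 ∧ g ≠ 1} ≤ 255 := by
  haveI : Fact (Nat.Prime 3) := ⟨by norm_num⟩
  haveI : Fact (Nat.Prime 5) := ⟨by norm_num⟩
  haveI : Fact (Nat.Prime 17) := ⟨by norm_num⟩
  obtain ⟨hn5, hn3, hC5, hC3⟩ := o4080_structure hnc hG
  obtain ⟨P17⟩ : Nonempty (Sylow 17 G) := inferInstance
  have h17c : ∀ Q : Sylow 17 G, Nat.card ↥(Q : Subgroup G) = 17 :=
    fun Q => (o4080_sylow17 hG Q).1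
  have hn17 := (o4080_sylow17 hG P17).2.1
  have c17 := card_orderOf_eq_prime h17c
  rw [hn17] at c17
  have h3c : ∀ Q : Sylow 3 G, Nat.card ↥(Q : Subgroup G) = 3 :=
    fun Q => (o4080_sylow3 hnc hG Q).1
  have c3 := card_orderOf_eq_prime h3c
  rw [hn3] at c3
  have c5 := card_dvd_orderOf_eq (p := 5) (k := 3) (m := 816) (by rw [hG]) (by norm_num) hC5
  rw [hn5] at c5
  have hone : 0 < Nat.card {g : G // g = 1} := by
    haveI : Nonempty {g : G // g = 1} := ⟨⟨1, rfl⟩⟩
    exact Nat.card_pos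
  have hsum := card_five_le (α := G) (fun g => orderOf g = 17) (fun g => 5 ∣ orderOf g)
    (fun g => orderOf g = 3) (fun g => g ^ 16 = 1 ∧ g ≠ 1) (fun g => g = 1)
    (by intro a h1 h2; rw [h1] at h2; omega)
    (by intro a h1 h2; omega)
    (by
      intro a h1 h2
      have h3 := orderOf_dvd_of_pow_eq_one h2.1
      rw [h1] at h3
      omega)
    (by
      intro a h1 h2
      rw [h2, orderOf_one] at h1
      omega)
    (by intro a h1 h2; rw [h2] at h1; omega)
    (by
      intro a h1 h2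
      have h3 := h1.trans (orderOf_dvd_of_pow_eq_one h2.1)
      omega)
    (by
      intro a h1 h2
      rw [h2, orderOf_one] at h1
      omega)
    (by
      intro a h1 h2
      have h3 := orderOf_dvd_of_pow_eq_one h2.1
      rw [h1] at h3
      omega)
    (by
      intro a h1 h2
      rw [h2, orderOf_one] at h1
      omega)
    (by intro a h1 h2; exact h1.2 h2)
  rw [hG] at hsum
  norm_num at c17 c3 c5
  omega

/-- Every `2`-element squares to `1`. -/
theorem o4080_sq (hnc : ¬ IsMulCommutative G) (hG : Nat.card G = 4080) (g : G)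
    (hg : g ^ 16 = 1) : g * g = 1 := by
  haveI : Fact (Nat.Prime 2) := ⟨Nat.prime_two⟩
  haveI : Fact (Nat.Prime 3) := ⟨by norm_num⟩
  haveI : Fact (Nat.Prime 5) := ⟨by norm_num⟩
  haveI : Fact (Nat.Prime 17) := ⟨by norm_num⟩
  obtain ⟨t, ht⟩ := exists_prime_orderOf_dvd_card' (G := G) 2 (by rw [hG]; norm_num)
  have htt : t * t = 1 := by rw [← pow_two, ← ht]; exact pow_orderOf_eq_one t
  have ht1 : t ≠ 1 := by
    intro h
    rw [h, orderOf_one] at ht
    omega
  have hcdvd : Nat.card ↥(centralizer ({t} : Set G)) ∣ 4080 :=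
    hG ▸ Subgroup.card_subgroup_dvd_card _
  have hnot : ∀ p : ℕ, ∀ _ : Fact p.Prime, (p = 3 ∨ p = 5 ∨ p = 17) →
      ¬ p ∣ Nat.card ↥(centralizer ({t} : Set G)) := by
    intro p _ hp hd
    obtain ⟨w, hwC, hw⟩ := exists_mem_orderOf_eq _ hd
    have htw : t * w = w * t := mem_centralizer_singleton_iff.mp hwC
    obtain ⟨n3, n5, n17⟩ := o4080_odd_free hnc hG ht htw
    rw [hw] at n3 n5 n17
    rcases hp with rfl | rfl | rfl
    · exact n3 dvd_rfl
    · exact n5 dvd_rfl
    · exact n17 dvd_rfl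
  have hcs := forall_dvd_of_allLt 4080
    (fun d => ¬ 3 ∣ d → ¬ 5 ∣ d → ¬ 17 ∣ d → d = 1 ∨ d = 2 ∨ d = 4 ∨ d = 8 ∨ d = 16)
    (by decide +kernel) (by norm_num)
  have hc16 := hcs _ hcdvd (hnot 3 inferInstance (Or.inl rfl))
    (hnot 5 inferInstance (Or.inr (Or.inl rfl))) (hnot 17 inferInstance (Or.inr (Or.inr rfl)))
  have hidx := (centralizer ({t} : Set G)).card_mul_index
  rw [hG] at hidx
  have hidx255 : 255 ≤ (centralizer ({t} : Set G)).index := by
    rcases hc16 with h | h | h | h | h <;> rw [h] at hidx <;> omega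
  rw [index_centralizer_eq_card_isConj] at hidx255
  have hB := o4080_two_elements hnc hG
  have hsub : {h : G | IsConj t h} ⊆ {h : G | h ^ 16 = 1 ∧ h ≠ 1} := by
    intro h hh
    obtain ⟨c, rfl⟩ := isConj_iff.mp hh
    refine ⟨?_, ?_⟩
    · rw [conj_pow]
      have : t ^ 16 = 1 := by
        have h2 : t ^ 2 = 1 := by rw [pow_two]; exact htt
        calc t ^ 16 = (t ^ 2) ^ 8 := by rw [← pow_mul]
          _ = 1 := by rw [h2, one_pow]
      rw [this]
      group
    · intro h1
      apply ht1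
      have : t = c⁻¹ * (c * t * c⁻¹) * c := by group
      rw [this, h1]
      group
  have heq := set_eq_of_subset_of_card_le _ _ hsub (le_trans hB hidx255)
  by_cases hg1 : g = 1
  · rw [hg1, mul_one]
  have hgB : g ∈ {h : G | h ^ 16 = 1 ∧ h ≠ 1} := ⟨hg, hg1⟩
  rw [← heq] at hgB
  obtain ⟨c, rfl⟩ := isConj_iff.mp hgB
  calc c * t * c⁻¹ * (c * t * c⁻¹) = c * (t * t) * c⁻¹ := by group
    _ = 1 := by rw [htt]; group

theorem o4080_comm_of_mul_self {H : Type*} [Group H] (hH : ∀ a : H, a * a = 1) (a b : H) :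
    a * b = b * a := by
  have h1 := hH (a * b)
  have ha := hH a
  have hb := hH b
  calc a * b = a * (a * b * (a * b)) * b := by rw [h1, mul_one]
    _ = (a * a) * (b * a) * (b * b) := by group
    _ = b * a := by rw [ha, hb, one_mul, mul_one]

/-- In a simple group of order `4080`, the centralizer of an involution is an elementary
abelian `2`-group. -/
theorem o4080_centralizer_invol (hnc : ¬ IsMulCommutative G) (hG : Nat.card G = 4080) (t : G)
    (ht : orderOf t = 2) :
    IsMulCommutative ↥(centralizer ({t} : Set G)) ∧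
      ∀ c ∈ centralizer ({t} : Set G), c ^ 2 = 1 := by
  have hcs := forall_dvd_of_allLt 4080
    (fun d => ¬ 3 ∣ d → ¬ 5 ∣ d → ¬ 17 ∣ d → d ∣ 16)
    (by decide +kernel) (by norm_num)
  have hsq : ∀ c ∈ centralizer ({t} : Set G), c * c = 1 := by
    intro c hc
    have htc : t * c = c * t := mem_centralizer_singleton_iff.mp hc
    obtain ⟨n3, n5, n17⟩ := o4080_odd_free hnc hG ht htc
    have hd : orderOf c ∣ 4080 := hG ▸ orderOf_dvd_natCard c
    have h16 := hcs _ hd n3 n5 n17
    exact o4080_sq hnc hG c (orderOf_dvd_iff_pow_eq_one.mp h16)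
  refine ⟨⟨⟨fun a b => ?_⟩⟩, fun c hc => by rw [pow_two]; exact hsq c hc⟩
  exact o4080_comm_of_mul_self (fun a : ↥(centralizer ({t} : Set G)) =>
    Subtype.ext (hsq a.1 a.2)) a b

end O4080

end Cfsg.Agent.Lib.Helper17
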