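import Mathlib
import Cfsg.Agent.Lib.Helper17.EngineLemmas
import Cfsg.Agent.Lib.Helper17.CosetTools
import Cfsg.Agent.Lib.Helper17.FixSylow
import Cfsg.Agent.Lib.Helper17.DvdTools

set_option autoImplicit false

namespace Cfsg.Agent.Lib.Helper17

open Subgroup MulAction

section

variable {G : Type*} [Group G] [Finite G] [IsSimpleGroup G]

theorem not_simple_612 (hnc : ¬ IsMulCommutative G) (hG : Nat.card G = 612) : False := by
  haveI : Fact (Nat.Prime 17) := ⟨by norm_num⟩
  haveI : Fact (Nat.Prime 3) := ⟨by norm_num⟩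
  haveI : Fact (Nat.Prime 2) := ⟨Nat.prime_two⟩
  have hG17 : Nat.card G = 17 ^ 1 * 36 := by rw [hG]; norm_num
  have hG3 : Nat.card G = 3 ^ 2 * 68 := by rw [hG]; norm_num
  have hG2 : Nat.card G = 2 ^ 2 * 153 := by rw [hG]; norm_num
  -- Sylow 17
  have h17 : ∀ Q : Sylow 17 G, Nat.card ↥(Q : Subgroup G) = 17 ∧ Nat.card (Sylow 17 G) = 18 ∧
      Nat.card ↥(normalizer ((Q : Subgroup G) : Set G)) = 34 ∧
      centralizer ((Q : Subgroup G) : Set G) = (Q : Subgroup G) := by
    intro Q
    obtain ⟨hQ, hdvd, hmod, hgt, hN⟩ := sylow_basic hG17 (by norm_num) le_rfl (by norm_num) Q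
    rw [pow_one] at hQ hN
    have hn : Nat.card (Sylow 17 G) = 18 := by
      have hle := Nat.le_of_dvd (by norm_num) hdvd
      obtain ⟨k, hk⟩ := hdvd
      have : Nat.card (Sylow 17 G) = 18 ∨ Nat.card (Sylow 17 G) = 35 := by omega
      rcases this with h | h
      · exact h
      · rw [h] at hk; omega
    rw [hn] at hN
    have hN' : Nat.card ↥(normalizer ((Q : Subgroup G) : Set G)) = 17 * 2 := by rw [hN]
    refine ⟨hQ, hn, by rw [hN], ?_⟩
    exact centralizer_sylow_eq_of_card_normalizer Nat.prime_two Q hQ (by rw [hG]; norm_num) hN'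
  -- involution centralizers have order 4
  have hinv : ∀ t : G, t * t = 1 → t ≠ 1 → Nat.card ↥(centralizer ({t} : Set G)) = 4 := by
    intro t ht ht1
    have hpar := card_fixedBy_modEq_four hnc (X := Sylow 17 G) t ht
    obtain ⟨Q₀⟩ : Nonempty (Sylow 17 G) := inferInstance
    obtain ⟨_, hn, _, _⟩ := h17 Q₀
    rw [hn] at hpar
    have hpar' : Nat.card (fixedBy (Sylow 17 G) t) % 4 = 2 := by
      have : Nat.card (fixedBy (Sylow 17 G) t) % 4 = 18 % 4 := hpar
      omega
    have hne : Nonempty (fixedBy (Sylow 17 G) t) := by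
      apply (Nat.card_pos_iff.mp _).1
      omega
    obtain ⟨⟨Q, hQfix⟩⟩ := hne
    obtain ⟨hQ, _, hNQ, hCQ⟩ := h17 Q
    have htN : t ∈ normalizer ((Q : Subgroup G) : Set G) := (mem_fixedBy_sylow_iff t Q).mp hQfix
    have h2ord := orderOf_eq_two_of_involution ht ht1
    have htQ : t ∉ (Q : Subgroup G) := by
      intro h
      have h1 := orderOf_eq_of_mem_of_card_prime (Q : Subgroup G) hQ t h ht1
      omega
    have hcent := eq_one_of_commute_of_centralizer_eq Q hQ hCQ t htQ
    have hle := card_fixed_sylow_le Q hQ t htN hcent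
    have hfixeq : Nat.card {Q' : Sylow 17 G // t ∈ normalizer ((Q' : Subgroup G) : Set G)} =
        Nat.card (fixedBy (Sylow 17 G) t) := by
      apply Nat.card_congr
      exact (Equiv.subtypeEquivRight (fun Q' => (mem_fixedBy_sylow_iff t Q'))).symm
    rw [hfixeq, hn] at hle
    have hfix2 : Nat.card (fixedBy (Sylow 17 G) t) = 2 := by omega
    have hdc := dc_sylow Q t
    rw [hn, hfix2, hG] at hdc
    set c := Nat.card ↥(centralizer ({t} : Set G)) with hc
    set k := Nat.card {s : G // IsConj t s ∧ s ∈ normalizer ((Q : Subgroup G) : Set G)} with hk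
    have hkc : k * c = 68 := Nat.eq_of_mul_eq_mul_right (by norm_num : 0 < 18) (by rw [hdc])
    have h17c : ¬ 17 ∣ c := by
      intro h
      have hC17 : Nat.card ↥(centralizer ((Q : Subgroup G) : Set G)) = 17 := by rw [hCQ, hQ]
      have h1 := pow_eq_one_of_dvd_card_centralizer Q hQ hC17 t h
      have h2 := orderOf_dvd_of_pow_eq_one h1
      rw [h2ord] at h2
      omega
    have h4c : 4 ∣ c := by
      have hpg : IsPGroup 2 (zpowers t) :=
        IsPGroup.of_card (n := 1) (by rw [Nat.card_zpowers, h2ord, pow_one])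
      obtain ⟨S, hS⟩ := hpg.exists_le_sylow
      have hScard : Nat.card ↥(S : Subgroup G) = 2 ^ 2 :=
        card_sylow_of_card_eq S hG2 (by norm_num)
      have hcomm := comm_of_card_prime_pow_le_two (e := 2) le_rfl (S : Subgroup G) hScard
      have hSle : (S : Subgroup G) ≤ centralizer ({t} : Set G) := by
        intro a ha
        rw [mem_centralizer_singleton_iff]
        exact hcomm t (hS (mem_zpowers t)) a ha
      have := Subgroup.card_dvd_of_le hSle
      rw [hScard] at this
      simpa using this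
    have hc68 : c ∣ 68 := Dvd.intro_left k hkc
    have hcop : Nat.Coprime c 17 := by
      rw [Nat.coprime_comm]
      exact (Nat.Prime.coprime_iff_not_dvd (by norm_num)).mpr h17c
    have hc4 : c ∣ 4 := by
      have : c ∣ 4 * 17 := by simpa using hc68
      exact hcop.dvd_of_dvd_mul_right this
    exact Nat.dvd_antisymm hc4 h4c
  -- Sylow 3
  obtain ⟨R₀⟩ : Nonempty (Sylow 3 G) := inferInstance
  obtain ⟨hR₀, hdvd3, hmod3, hgt3, _⟩ :=
    sylow_basic hG3 (by norm_num) (by norm_num) (by norm_num) R₀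
  have hn3 : ¬ Nat.card (Sylow 3 G) ≡ 1 [MOD 3 ^ 2] := by
    intro h
    have h' : Nat.card (Sylow 3 G) % 9 = 1 := by
      have : Nat.card (Sylow 3 G) % 3 ^ 2 = 1 % 3 ^ 2 := h
      norm_num at this
      exact this
    have hcases := forall_dvd_of_allLt 68 (fun d => d % 9 = 1 → d = 1) (by decide +kernel)
      (by norm_num)
    have := hcases _ hdvd3 h'
    omega
  obtain ⟨P, R, hne, hle⟩ := exists_sylow_inter_card 3 2 hn3
  have hP : Nat.card ↥(P : Subgroup G) = 3 ^ 2 := card_sylow_of_card_eq P hG3 (by norm_num)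
  have hR : Nat.card ↥(R : Subgroup G) = 3 ^ 2 := card_sylow_of_card_eq R hG3 (by norm_num)
  have hle' : Nat.card ↥(P : Subgroup G) ≤
      3 * Nat.card ↥((P : Subgroup G) ⊓ (R : Subgroup G) : Subgroup G) := by simpa using hle
  obtain ⟨hcardD, _, _⟩ := sylow_inter_index_prime P R hne hP hle'
  set D : Subgroup G := (P : Subgroup G) ⊓ (R : Subgroup G) with hD
  have hD3 : Nat.card ↥D = 3 := by rw [hP] at hcardD; omega
  obtain ⟨y, hyD, hy1⟩ : ∃ y ∈ D, y ≠ 1 := by
    haveI : Nontrivial ↥D := by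
      rw [← Finite.one_lt_card_iff_nontrivial, hD3]; norm_num
    obtain ⟨y, hy⟩ := exists_ne (1 : ↥D)
    exact ⟨y, y.2, fun h => hy (Subtype.ext h)⟩
  have hyP : y ∈ (P : Subgroup G) := (Subgroup.mem_inf.mp hyD).1
  have hyR : y ∈ (R : Subgroup G) := (Subgroup.mem_inf.mp hyD).2
  have hcommP := comm_of_card_prime_pow_le_two (e := 2) le_rfl (P : Subgroup G) hP
  have hcommR := comm_of_card_prime_pow_le_two (e := 2) le_rfl (R : Subgroup G) hR
  set C := centralizer ({y} : Set G) with hC
  have hPC : (P : Subgroup G) ≤ C := by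
    intro a ha
    rw [hC, mem_centralizer_singleton_iff]
    exact hcommP y hyP a ha
  have hRC : (R : Subgroup G) ≤ C := by
    intro a ha
    rw [hC, mem_centralizer_singleton_iff]
    exact hcommR y hyR a ha
  have h36 := card_ge_of_two_sylow_le P R hne C hPC hRC
  rw [hP] at h36
  have hCdvd : Nat.card ↥C ∣ 612 := hG ▸ Subgroup.card_subgroup_dvd_card C
  have hy9 : y ^ 9 = 1 := by
    have h3 : (⟨y, hyP⟩ : ↥(P : Subgroup G)) ^ Nat.card ↥(P : Subgroup G) = 1 := pow_card_eq_one'
    rw [hP] at h3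
    have := congrArg Subtype.val h3
    simpa using this
  have h2C : ¬ 2 ∣ Nat.card ↥C := by
    intro h
    obtain ⟨t, htC, ht, ht1⟩ := exists_involution_of_even C h
    have hc4 := hinv t ht ht1
    have hyt : y ∈ centralizer ({t} : Set G) := by
      rw [mem_centralizer_singleton_iff]
      exact (mem_centralizer_singleton_iff.mp htC).symm
    have h4 : (⟨y, hyt⟩ : ↥(centralizer ({t} : Set G))) ^
        Nat.card ↥(centralizer ({t} : Set G)) = 1 := pow_card_eq_one'
    rw [hc4] at h4
    have hy4 : y ^ 4 = 1 := by simpa using congrArg Subtype.val h4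
    apply hy1
    have h5 : y ^ 9 = y ^ 8 * y := by rw [← pow_succ]
    rw [show y ^ 8 = (y ^ 4) ^ 2 by rw [← pow_mul], hy4, one_pow, one_mul] at h5
    rw [← h5]
    exact hy9
  have h17C : ¬ 17 ∣ Nat.card ↥C := by
    intro h
    obtain ⟨Q⟩ : Nonempty (Sylow 17 G) := inferInstance
    obtain ⟨hQ, _, _, hCQ⟩ := h17 Q
    have hC17 : Nat.card ↥(centralizer ((Q : Subgroup G) : Set G)) = 17 := by rw [hCQ, hQ]
    have h1 := pow_eq_one_of_dvd_card_centralizer Q hQ hC17 y h
    apply hy1
    have h5 : y ^ 18 = y ^ 17 * y := by rw [← pow_succ]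
    rw [h1, one_mul, show y ^ 18 = (y ^ 9) ^ 2 by rw [← pow_mul], hy9, one_pow] at h5
    exact h5.symm
  have hcases := forall_dvd_of_allLt 612 (fun d => 36 ≤ d → ¬ 2 ∣ d → ¬ 17 ∣ d → False)
    (by decide +kernel) (by norm_num)
  exact hcases _ hCdvd (by omega) h2C h17C

end

end Cfsg.Agent.Lib.Helper17
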