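import Mathlib
import Cfsg.Agent.Lib.Helper17.Ord720a

set_option autoImplicit false

namespace Cfsg.Agent.Lib.Helper17

open Subgroup MulAction

section O720b

variable {G : Type*} [Group G] [Finite G] [IsSimpleGroup G]

theorem o720_p3_facts (hnc : ¬ IsMulCommutative G) (hG : Nat.card G = 720)
    (h10 : Nat.card (Sylow 3 G) = 10) (P3 : Sylow 3 G) :
    Nat.card ↥(P3 : Subgroup G) = 9 ∧
    Nat.card ↥(normalizer ((P3 : Subgroup G) : Set G)) = 72 ∧
    (∀ τ₁ ∈ normalizer ((P3 : Subgroup G) : Set G), τ₁ * τ₁ = 1 → τ₁ ≠ 1 →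
      ∀ τ₂ ∈ normalizer ((P3 : Subgroup G) : Set G), τ₂ * τ₂ = 1 → τ₂ ≠ 1 →
        τ₁⁻¹ * τ₂ ∈ (P3 : Subgroup G)) := by
  haveI : Fact (Nat.Prime 3) := ⟨Nat.prime_three⟩
  haveI : Fact (Nat.Prime 2) := ⟨Nat.prime_two⟩
  have hG3 : Nat.card G = 3 ^ 2 * 80 := by rw [hG]; norm_num
  obtain ⟨hP, -, -, -, hN⟩ := sylow_basic hG3 (by norm_num) (by norm_num) (by norm_num) P3
  rw [h10] at hN
  have hP9 : Nat.card ↥(P3 : Subgroup G) = 9 := by rw [hP]; norm_num
  have hL72 : Nat.card ↥(normalizer ((P3 : Subgroup G) : Set G)) = 72 := by rw [hN]; norm_num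
  have hcomm := comm_of_card_prime_pow_le_two (e := 2) le_rfl (P3 : Subgroup G) hP
  have hcard_all : ∀ R : Sylow 3 G, Nat.card ↥(R : Subgroup G) = 3 ^ 2 := fun R =>
    (sylow_basic hG3 (by norm_num) (by norm_num) (by norm_num) R).1
  have hpow9 : ∀ y ∈ (P3 : Subgroup G), y ^ 9 = 1 := by
    intro y hy
    have := pow_card_of_mem (P3 : Subgroup G) hy
    rwa [hP9] at this
  have hpg : ∀ y ∈ (P3 : Subgroup G), IsPGroup 3 ↥(zpowers y) := by
    intro y hy
    apply isPGroup_zpowers_of_pow_eq_one (k := 2)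
    have : (3 : ℕ) ^ 2 = 9 := by norm_num
    rw [this]; exact hpow9 y hy
  -- centralizers of nontrivial elements of `P3`
  have hcent : ∀ y ∈ (P3 : Subgroup G), y ≠ 1 →
      Nat.card ↥(centralizer ({y} : Set G)) ≤ 18 := by
    intro y hy hy1
    have hPC : (P3 : Subgroup G) ≤ centralizer ({y} : Set G) := fun a ha =>
      mem_centralizer_singleton_iff.mpr (hcomm y hy a ha)
    have h9 : 9 ∣ Nat.card ↥(centralizer ({y} : Set G)) := by
      have := Subgroup.card_dvd_of_le hPC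
      rwa [hP9] at this
    rcases o720_card_centralizer_three hnc hG y hy1 (hpow9 y hy) h9 with h | h <;> rw [h] <;>
      norm_num
  -- `P3` is a TI subgroup
  have hTI : ∀ y ∈ (P3 : Subgroup G), y ≠ 1 → ∀ R : Sylow 3 G,
      y ∈ normalizer ((R : Subgroup G) : Set G) → R = P3 := by
    intro y hy hy1 R hyR
    by_contra hne
    have hyR' : y ∈ (R : Subgroup G) := mem_sylow_of_mem_normalizer R y hyR (hpg y hy)
    have hcommR := comm_of_card_prime_pow_le_two (e := 2) le_rfl (R : Subgroup G) (hcard_all R)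
    have hPC : (P3 : Subgroup G) ≤ centralizer ({y} : Set G) := fun a ha =>
      mem_centralizer_singleton_iff.mpr (hcomm y hy a ha)
    have hRC : (R : Subgroup G) ≤ centralizer ({y} : Set G) := fun a ha =>
      mem_centralizer_singleton_iff.mpr (hcommR y hyR' a ha)
    have h36 := card_ge_of_two_sylow_le P3 R (Ne.symm hne) _ hPC hRC
    rw [hP9] at h36
    have := hcent y hy hy1
    omega
  -- involutions of `N(P3)` act fixed point freely on `P3`
  have hfpf : ∀ τ ∈ normalizer ((P3 : Subgroup G) : Set G), τ * τ = 1 → τ ≠ 1 →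
      ∀ x ∈ (P3 : Subgroup G), x * τ = τ * x → x = 1 := by
    intro τ hτN hτ hτ1 x hx hxτ
    by_contra hx1
    have hAt : ∀ a ∈ zpowers x, a * τ = τ * a := by
      intro a ha
      obtain ⟨i, rfl⟩ := mem_zpowers_iff.mp ha
      exact ((show Commute x τ from hxτ).zpow_left i).eq
    have hmod := card_fixedBy_modEq_card_inter (X := Sylow 3 G) (zpowers x) (hpg x hx) τ hAt
    have hset : (fixedBy (Sylow 3 G) τ ∩ fixedPoints ↥(zpowers x) (Sylow 3 G) :
        Set (Sylow 3 G)) = {P3} := by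
      rw [fixedPoints_zpowers_eq]
      ext Q
      simp only [Set.mem_inter_iff, Set.mem_singleton_iff]
      constructor
      · rintro ⟨_, hQ⟩
        rw [mem_fixedBy_sylow_iff] at hQ
        exact hTI x hx hx1 Q hQ
      · intro hQ
        rw [hQ]
        exact ⟨(mem_fixedBy_sylow_iff τ P3).mpr hτN,
          (mem_fixedBy_sylow_iff x P3).mpr (le_normalizer hx)⟩
    rw [hset] at hmod
    have hmod' : Nat.card (fixedBy (Sylow 3 G) τ) % 3 = 1 := by
      have : Nat.card (fixedBy (Sylow 3 G) τ) ≡ 1 [MOD 3] := by simpa using hmod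
      exact this
    have hpar := card_fixedBy_modEq_four hnc (X := Sylow 3 G) τ hτ
    rw [h10] at hpar
    have hpar' : Nat.card (fixedBy (Sylow 3 G) τ) % 4 = 10 % 4 := hpar
    have hlt := card_fixedBy_lt_of_simple (X := Sylow 3 G) (by rw [h10]; norm_num) τ hτ1
    rw [h10] at hlt
    omega
  have hinv : ∀ τ ∈ normalizer ((P3 : Subgroup G) : Set G), τ * τ = 1 → τ ≠ 1 →
      ∀ x ∈ (P3 : Subgroup G), τ * x * τ⁻¹ = x⁻¹ := fun τ hτN hτ hτ1 =>
    inverts_of_fpf (P3 : Subgroup G) hcomm τ hτN hτ (hfpf τ hτN hτ hτ1)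
  -- `C(P3) = P3`
  have hPC : (P3 : Subgroup G) ≤ centralizer ((P3 : Subgroup G) : Set G) := by
    intro a ha
    rw [mem_centralizer_iff]
    intro b hb
    exact hcomm b hb a ha
  have hCN : centralizer ((P3 : Subgroup G) : Set G) ≤
      normalizer ((P3 : Subgroup G) : Set G) := Subgroup.centralizer_le_normalizer _
  have hC : centralizer ((P3 : Subgroup G) : Set G) = (P3 : Subgroup G) := by
    have h9 : 9 ∣ Nat.card ↥(centralizer ((P3 : Subgroup G) : Set G)) := by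
      have := Subgroup.card_dvd_of_le hPC
      rwa [hP9] at this
    have h72 : Nat.card ↥(centralizer ((P3 : Subgroup G) : Set G)) ∣ 72 := by
      have := Subgroup.card_dvd_of_le hCN
      rwa [hL72] at this
    have h2 : ¬ 2 ∣ Nat.card ↥(centralizer ((P3 : Subgroup G) : Set G)) := by
      intro h2
      obtain ⟨τ, hτC, hτ, hτ1⟩ := exists_involution_of_even _ h2
      obtain ⟨y, hyP, hy3⟩ := exists_mem_orderOf_eq (P3 : Subgroup G)
        (by rw [hP9]; norm_num : 3 ∣ Nat.card ↥(P3 : Subgroup G))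
      have hy1 : y ≠ 1 := by
        intro h
        rw [h, orderOf_one] at hy3
        norm_num at hy3
      exact hy1 (hfpf τ (hCN hτC) hτ hτ1 y hyP (mem_centralizer_iff.mp hτC y hyP))
    have hcs := forall_dvd_of_allLt 72 (fun d => 9 ∣ d → ¬ 2 ∣ d → d = 9)
      (by decide +kernel) (by norm_num)
    have h := hcs _ h72 h9 h2
    exact (Subgroup.eq_of_le_of_card_ge hPC (by rw [h, hP9])).symm
  refine ⟨hP9, hL72, ?_⟩
  intro τ₁ hτ₁N hτ₁ hτ₁1 τ₂ hτ₂N hτ₂ hτ₂1
  rw [← hC, mem_centralizer_iff]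
  intro x hx
  have h1b : τ₁ * x = x⁻¹ * τ₁ := mul_inv_eq_iff_eq_mul.mp (hinv τ₁ hτ₁N hτ₁ hτ₁1 x hx)
  have h2 : τ₂ * x = x⁻¹ * τ₂ := mul_inv_eq_iff_eq_mul.mp (hinv τ₂ hτ₂N hτ₂ hτ₂1 x hx)
  have h3 : τ₁⁻¹ * x⁻¹ = x * τ₁⁻¹ := by
    calc τ₁⁻¹ * x⁻¹ = τ₁⁻¹ * (x⁻¹ * τ₁) * τ₁⁻¹ := by group
      _ = τ₁⁻¹ * (τ₁ * x) * τ₁⁻¹ := by rw [h1b]
      _ = x * τ₁⁻¹ := by group
  symm
  calc τ₁⁻¹ * τ₂ * x = τ₁⁻¹ * (τ₂ * x) := by group
    _ = τ₁⁻¹ * (x⁻¹ * τ₂) := by rw [h2]
    _ = (τ₁⁻¹ * x⁻¹) * τ₂ := by group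
    _ = (x * τ₁⁻¹) * τ₂ := by rw [h3]
    _ = x * (τ₁⁻¹ * τ₂) := by group

theorem o720_case10_main (hnc : ¬ IsMulCommutative G) (hG : Nat.card G = 720)
    (h10 : Nat.card (Sylow 3 G) = 10) (P5 : Sylow 5 G) (s : G)
    (hsN : s ∈ normalizer ((P5 : Subgroup G) : Set G)) (hs4 : s ^ 4 = 1) (hs2 : s ^ 2 ≠ 1)
    (P3 : Sylow 3 G) (huL' : s ^ 2 ∈ normalizer ((P3 : Subgroup G) : Set G))
    (hT8' : Nat.card ↥(centralizer ({s ^ 2} : Set G) ⊓
      normalizer ((P3 : Subgroup G) : Set G) : Subgroup G) = 8) : False := by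
  haveI : Fact (Nat.Prime 3) := ⟨Nat.prime_three⟩
  haveI : Fact (Nat.Prime 5) := ⟨by norm_num⟩
  haveI : Fact (Nat.Prime 2) := ⟨Nat.prime_two⟩
  obtain ⟨hP9, hL72, hprod'⟩ := o720_p3_facts hnc hG h10 P3
  obtain ⟨hS16', hFX4⟩ := o720_u_facts hnc hG P5 s hsN hs4 hs2
  obtain ⟨hFXs, hsQ⟩ := o720_s_facts hnc hG P5 s hsN hs4 hs2
  have hFX0 := o720_card_fixedBy_eq_zero hnc hG P5 s hsN hs4 hs2
  have hZs4 : Nat.card ↥(zpowers s) = 4 := by rw [Nat.card_zpowers, orderOf_eq_four hs4 hs2]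
  set u := s ^ 2 with hu_def
  set L := normalizer ((P3 : Subgroup G) : Set G) with hL_def
  set S := centralizer ({u} : Set G) with hS_def
  set T := S ⊓ L with hT_def
  have hu : u * u = 1 := by rw [hu_def, ← pow_add]; exact hs4
  have hu1 : u ≠ 1 := hs2
  have hTS : T ≤ S := inf_le_left
  have hTL : T ≤ L := inf_le_right
  have huS : u ∈ S := by rw [hS_def, mem_centralizer_singleton_iff]
  have huT : u ∈ T := Subgroup.mem_inf.mpr ⟨huS, huL'⟩
  have hsS : s ∈ S := by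
    rw [hS_def, mem_centralizer_singleton_iff, hu_def]
    exact pow_mul_comm' s 2
  have hidx : Nat.card ↥S = 2 * Nat.card ↥T := by rw [hS16', hT8']
  have hmulST := mul_mem_iff_of_card_two_mul S T hTS hidx
  have hprod : ∀ τ ∈ L, τ * τ = 1 → τ ≠ 1 → u⁻¹ * τ ∈ (P3 : Subgroup G) :=
    fun τ hτL hτ hτ1 => hprod' u huL' hu hu1 τ hτL hτ hτ1
  -- (d) `u` is the unique involution of `T`
  have huniq : ∀ τ ∈ T, τ * τ = 1 → τ ≠ 1 → τ = u := by
    intro τ hτT hτ hτ1
    have h1 : u⁻¹ * τ ∈ (P3 : Subgroup G) := hprod τ (hTL hτT) hτ hτ1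
    have h2 : u⁻¹ * τ ∈ T := T.mul_mem (T.inv_mem huT) hτT
    have h3 := pow_card_of_mem (P3 : Subgroup G) h1
    rw [hP9] at h3
    have h4 := pow_card_of_mem T h2
    rw [hT8'] at h4
    have h6 : u⁻¹ * τ = 1 := eq_one_of_pow_coprime h3 h4 (by norm_num)
    exact (inv_mul_eq_one.mp h6).symm
  -- `u` normalizes exactly two Sylow `3`-subgroups
  have hk9 : Nat.card {x : G // IsConj u x ∧ x ∈ L} ≤ 9 := by
    have hinj := Nat.card_le_card_of_injective
      (fun x : {x : G // IsConj u x ∧ x ∈ L} =>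
        (⟨u⁻¹ * x.1, hprod x.1 x.2.2 (mul_self_eq_one_of_isConj x.2.1 hu)
          (ne_one_of_isConj x.2.1 hu1)⟩ : ↥(P3 : Subgroup G))) (by
      intro a b hab
      have := congrArg Subtype.val hab
      simp only [mul_right_inj] at this
      exact Subtype.ext this)
    rwa [hP9] at hinj
  have hdc : Nat.card {x : G // IsConj u x ∧ x ∈ L} * Nat.card ↥S * Nat.card (Sylow 3 G) =
      Nat.card (fixedBy (Sylow 3 G) u) * Nat.card G := dc_sylow P3 u
  rw [hS16', h10, hG] at hdc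
  have hpar := card_fixedBy_modEq_four hnc (X := Sylow 3 G) u hu
  rw [h10] at hpar
  have hpar' : Nat.card (fixedBy (Sylow 3 G) u) % 4 = 10 % 4 := hpar
  have hF2 : Nat.card (fixedBy (Sylow 3 G) u) = 2 := by omega
  have hP3fix : P3 ∈ fixedBy (Sylow 3 G) u := (mem_fixedBy_sylow_iff u P3).mpr huL'
  obtain ⟨⟨R, hRfix⟩, hRne, hRuniq⟩ :=
    (Nat.card_eq_two_iff' (⟨P3, hP3fix⟩ : ↥(fixedBy (Sylow 3 G) u))).mp hF2
  have hRP : R ≠ P3 := fun h => hRne (Subtype.ext h)
  have huR : u ∈ normalizer ((R : Subgroup G) : Set G) := (mem_fixedBy_sylow_iff u R).mp hRfix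
  have hcases : ∀ Q : Sylow 3 G, u ∈ normalizer ((Q : Subgroup G) : Set G) →
      Q = P3 ∨ Q = R := by
    intro Q hQ
    by_cases h : Q = P3
    · left; exact h
    · right
      have := hRuniq ⟨Q, (mem_fixedBy_sylow_iff u Q).mpr hQ⟩
        (fun h' => h (congrArg Subtype.val h'))
      exact congrArg Subtype.val this
  have hSact : ∀ g ∈ S, ∀ Q : Sylow 3 G, u ∈ normalizer ((Q : Subgroup G) : Set G) →
      u ∈ normalizer (((g • Q : Sylow 3 G) : Subgroup G) : Set G) := by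
    intro g hgS Q hQ
    have hgS' : g ∈ centralizer ({u} : Set G) := hgS
    have hcomm : g * u = u * g := (mem_centralizer_singleton_iff.mp hgS').symm
    have := smul_mem_fixedBy_of_commute hcomm ((mem_fixedBy_sylow_iff u Q).mpr hQ)
    exact (mem_fixedBy_sylow_iff u (g • Q)).mp this
  have hTR : ∀ g ∈ T, g ∈ normalizer ((R : Subgroup G) : Set G) := by
    intro g hgT
    have hgS : g ∈ S := hTS hgT
    have hgL : g ∈ normalizer ((P3 : Subgroup G) : Set G) := hTL hgT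
    have h1 : g • P3 = P3 := Sylow.smul_eq_iff_mem_normalizer.mpr hgL
    rcases hcases (g • R) (hSact g hgS R huR) with h | h
    · exfalso
      apply hRP
      have : g • R = g • P3 := by rw [h, h1]
      exact smul_left_cancel g this
    · have h3 : g ∈ normalizer ((R : Subgroup G) : Set G) :=
        Sylow.smul_eq_iff_mem_normalizer.mp h
      exact h3
  have hSnT : ∀ g ∈ S, g ∉ T → g ∉ L ∧ g ∉ normalizer ((R : Subgroup G) : Set G) := by
    intro g hgS hgT
    have hgL : g ∉ L := fun h => hgT (Subgroup.mem_inf.mpr ⟨hgS, h⟩)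
    refine ⟨hgL, ?_⟩
    intro hgR
    have h1 : g • P3 ≠ P3 := by
      intro h
      have h' : g ∈ normalizer ((P3 : Subgroup G) : Set G) :=
        Sylow.smul_eq_iff_mem_normalizer.mp h
      exact hgL h'
    have h2 : g • R = R := Sylow.smul_eq_iff_mem_normalizer.mpr hgR
    rcases hcases (g • P3) (hSact g hgS P3 huL') with h | h
    · exact h1 h
    · apply hRP
      have : g • R = g • P3 := by rw [h, h2]
      exact smul_left_cancel g this
  have hfix2 : ∀ x : G, x ∈ L → x ∈ normalizer ((R : Subgroup G) : Set G) →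
      (∀ Q : Sylow 3 G, x ∈ normalizer ((Q : Subgroup G) : Set G) →
        u ∈ normalizer ((Q : Subgroup G) : Set G)) →
      Nat.card (fixedBy (Sylow 3 G) x) = 2 := by
    intro x hxL hxR hsub
    have : fixedBy (Sylow 3 G) x = fixedBy (Sylow 3 G) u := by
      ext Q
      rw [mem_fixedBy_sylow_iff, mem_fixedBy_sylow_iff]
      constructor
      · exact hsub Q
      · intro hQ
        rcases hcases Q hQ with h | h
        · rw [h]; exact hxL
        · rw [h]; exact hxR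
    rw [this, hF2]
  -- (e) `T` has exponent `4`
  have hexp4 : ∀ t ∈ T, t ^ 4 = 1 := by
    intro t htT
    by_contra ht4
    have ht8 : t ^ 8 = 1 := by
      have := pow_card_of_mem T htT
      rwa [hT8'] at this
    have hinvol : t ^ 4 * t ^ 4 = 1 := by rw [← pow_add]; exact ht8
    have ht4u : t ^ 4 = u := huniq (t ^ 4) (T.pow_mem htT 4) hinvol ht4
    have htL : t ∈ L := hTL htT
    have htR := hTR t htT
    have hf1 : Nat.card (fixedBy (Sylow 3 G) t) = 2 := by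
      apply hfix2 t htL htR
      intro Q hQ
      rw [← ht4u]
      exact Subgroup.pow_mem _ hQ 4
    have hf2 : Nat.card (fixedBy (Sylow 3 G) (t ^ 2)) = 2 := by
      apply hfix2 (t ^ 2) (L.pow_mem htL 2) (Subgroup.pow_mem _ htR 2)
      intro Q hQ
      rw [← ht4u]
      have : t ^ 4 = (t ^ 2) ^ 2 := by rw [← pow_mul]
      rw [this]
      exact Subgroup.pow_mem _ hQ 2
    have h8 := even_of_pow_eight_eq_one hnc (X := Sylow 3 G) t ht8
    rw [hf1, hf2, ht4u, hF2, h10] at h8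
    obtain ⟨r, hr⟩ := h8
    omega
  -- (f) no element of `S \ T` squares to `u`
  have hnosq : ∀ g ∈ S, g ∉ T → g ^ 2 ≠ u := by
    intro g hgS hgT hg2
    obtain ⟨hgL, hgR⟩ := hSnT g hgS hgT
    have hg4 : g ^ 4 = 1 := by
      have : g ^ 4 = (g ^ 2) ^ 2 := by rw [← pow_mul]
      rw [this, hg2, pow_two, hu]
    have hF0 : Nat.card (fixedBy (Sylow 3 G) g) = 0 := by
      rw [Nat.card_eq_zero]
      left
      rw [← not_nonempty_iff]
      rintro ⟨⟨Q, hQ⟩⟩
      rw [mem_fixedBy_sylow_iff] at hQ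
      have huQ : u ∈ normalizer ((Q : Subgroup G) : Set G) := by
        rw [← hg2]; exact Subgroup.pow_mem _ hQ 2
      rcases hcases Q huQ with h | h
      · rw [h] at hQ; exact hgL hQ
      · rw [h] at hQ; exact hgR hQ
    have h4 := even_of_pow_four_eq_one hnc (X := Sylow 3 G) g hg4
    rw [hg2, hF2, hF0, h10] at h4
    obtain ⟨r, hr⟩ := h4
    omega
  have hsT : s ∈ T := by
    by_contra h
    exact hnosq s hsS h hu_def.symm
  -- (g) elements of `T` other than `1, u` square to `u`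
  have hsq : ∀ t ∈ T, t ≠ 1 → t ≠ u → t ^ 2 = u := by
    intro t htT ht1 htu
    have ht4 := hexp4 t htT
    have hne : t ^ 2 ≠ 1 := by
      intro h
      exact htu (huniq t htT (by rw [← pow_two]; exact h) ht1)
    exact huniq (t ^ 2) (T.pow_mem htT 2) (by rw [← pow_add]; exact ht4) hne
  have huZ : u ∈ zpowers s := by rw [hu_def]; exact Subgroup.pow_mem _ (mem_zpowers s) 2
  obtain ⟨q, hqT, hqZ⟩ : ∃ q ∈ T, q ∉ zpowers s := by
    by_contra hcon
    push Not at hcon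
    have hle : T ≤ zpowers s := hcon
    have := Nat.le_of_dvd (by rw [hZs4]; norm_num) (Subgroup.card_dvd_of_le hle)
    rw [hT8', hZs4] at this
    omega
  have hq1 : q ≠ 1 := fun h => hqZ (by rw [h]; exact one_mem _)
  have hqu : q ≠ u := fun h => hqZ (by rw [h]; exact huZ)
  have hq2 : q ^ 2 = u := hsq q hqT hq1 hqu
  have hq4 : q ^ 4 = 1 := by
    have : q ^ 4 = (q ^ 2) ^ 2 := by rw [← pow_mul]
    rw [this, hq2, pow_two, hu]
  have hFXq : Nat.card (fixedBy (Sylow 5 G) q) = 0 := hFX0 q hq2 hqZ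
  -- (h) an element of `S \ T` which is not an involution
  obtain ⟨e, heS, heT, he2⟩ : ∃ e ∈ S, e ∉ T ∧ e * e ≠ 1 := by
    by_contra hcon
    push Not at hcon
    obtain ⟨g₀, hg₀S, hg₀T⟩ : ∃ g ∈ S, g ∉ T := by
      by_contra hcon2
      push Not at hcon2
      have hle : S ≤ T := hcon2
      have := Nat.le_of_dvd (by rw [hT8']; norm_num) (Subgroup.card_dvd_of_le hle)
      rw [hT8', hS16'] at this
      omega
    have hg₀2 := hcon g₀ hg₀S hg₀T
    have hg₀inv : g₀⁻¹ = g₀ := inv_eq_of_mul_eq_one_left hg₀2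
    have hinvT : ∀ t ∈ T, g₀ * t * g₀⁻¹ = t⁻¹ := by
      intro t htT
      have h1 : g₀ * t ∉ T := by
        intro h
        have := (hmulST g₀ t hg₀S (hTS htT)).mp h
        exact hg₀T (this.mpr htT)
      have h2 := hcon (g₀ * t) (S.mul_mem hg₀S (hTS htT)) h1
      rw [hg₀inv]
      apply eq_inv_of_mul_eq_one_left
      calc g₀ * t * g₀ * t = (g₀ * t) * (g₀ * t) := by group
        _ = 1 := h2
    have hqs : q * s = s * q := by
      have h1 := hinvT (q * s) (T.mul_mem hqT hsT)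
      have h2 := hinvT q hqT
      have h3 := hinvT s hsT
      have h4 : (q * s)⁻¹ = q⁻¹ * s⁻¹ := by
        calc (q * s)⁻¹ = g₀ * (q * s) * g₀⁻¹ := h1.symm
          _ = (g₀ * q * g₀⁻¹) * (g₀ * s * g₀⁻¹) := by group
          _ = q⁻¹ * s⁻¹ := by rw [h2, h3]
      have h5 := congrArg (·⁻¹) h4
      simp only [mul_inv_rev, inv_inv] at h5
      exact h5
    have hc : s⁻¹ * q = q * s⁻¹ := by
      calc s⁻¹ * q = s⁻¹ * (q * s) * s⁻¹ := by group
        _ = s⁻¹ * (s * q) * s⁻¹ := by rw [hqs]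
        _ = q * s⁻¹ := by group
    have hx2 : (q * s⁻¹) * (q * s⁻¹) = 1 := by
      calc (q * s⁻¹) * (q * s⁻¹) = q * (s⁻¹ * q) * s⁻¹ := by group
        _ = q * (q * s⁻¹) * s⁻¹ := by rw [hc]
        _ = q ^ 2 * (s ^ 2)⁻¹ := by rw [pow_two, pow_two]; group
        _ = 1 := by rw [hq2, ← hu_def, mul_inv_cancel]
    have hxT : q * s⁻¹ ∈ T := T.mul_mem hqT (T.inv_mem hsT)
    by_cases hx1 : q * s⁻¹ = 1
    · apply hqZ
      rw [mul_inv_eq_one.mp hx1]
      exact mem_zpowers s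
    · have hxu := huniq _ hxT hx2 hx1
      apply hqZ
      have hq : q = u * s := by
        calc q = (q * s⁻¹) * s := by group
          _ = u * s := by rw [hxu]
      rw [hq]
      exact (zpowers s).mul_mem huZ (mem_zpowers s)
  -- (i) `e` has order `8` and `e ^ 4 = u`
  have he2T : e * e ∈ T := (hmulST e e heS heS).mpr Iff.rfl
  have he8 : e ^ 8 = 1 := by
    have h := hexp4 (e * e) he2T
    rw [← pow_two, ← pow_mul] at h
    exact h
  have he4 : e ^ 4 ≠ 1 := by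
    intro h
    have h1 : (e * e) * (e * e) = 1 := by
      calc (e * e) * (e * e) = e ^ 4 := by
            simp only [pow_succ, pow_zero, one_mul, mul_assoc]
        _ = 1 := h
    have h2 : e * e = u := huniq (e * e) he2T h1 he2
    exact hnosq e heS heT (by rw [pow_two]; exact h2)
  have he4T : e ^ 4 ∈ T := by
    have : e ^ 4 = (e * e) * (e * e) := by
      simp only [pow_succ, pow_zero, one_mul, mul_assoc]
    rw [this]; exact T.mul_mem he2T he2T
  have he4u : e ^ 4 = u := huniq (e ^ 4) he4T (by rw [← pow_add]; exact he8) he4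
  -- (j) the cyclic group `B = ⟨e⟩`
  have hB8 : Nat.card ↥(zpowers e) = 8 := by
    rw [Nat.card_zpowers, orderOf_eq_eight he8 he4]
  have hBidx : (zpowers e).index = 90 := by
    have := (zpowers e).card_mul_index
    rw [hB8, hG] at this
    omega
  have huB : u ∈ zpowers e := by rw [← he4u]; exact Subgroup.pow_mem _ (mem_zpowers e) 4
  have hBcomm : ∀ a ∈ zpowers e, ∀ b ∈ zpowers e, a * b = b * a := by
    intro a ha b hb
    obtain ⟨i, rfl⟩ := mem_zpowers_iff.mp ha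
    obtain ⟨j, rfl⟩ := mem_zpowers_iff.mp hb
    exact (((Commute.refl e).zpow_left i).zpow_right j).eq
  have hBinv : ∀ x ∈ zpowers e, x * x = 1 → x ≠ 1 → x = u := by
    intro x hxB hx hx1
    have := eq_of_sq_eq_one_of_cyclic (A := ↥(zpowers e)) ⟨x, hxB⟩ ⟨u, huB⟩
      (Subtype.ext hx) (Subtype.ext hu) (fun h => hx1 (congrArg Subtype.val h))
      (fun h => hu1 (congrArg Subtype.val h))
    exact congrArg Subtype.val this
  have he2B : e ^ 2 ∈ zpowers e := Subgroup.pow_mem _ (mem_zpowers e) 2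
  have he22 : (e ^ 2) ^ 2 = u := by rw [← pow_mul]; exact he4u
  have hconjB : ∀ x : G, x ^ 2 = u → ∀ g : G, g⁻¹ * x * g ∈ zpowers e →
      Nat.card (fixedBy (Sylow 5 G) x) = Nat.card (fixedBy (Sylow 5 G) (e ^ 2)) := by
    intro x hx2 g hg
    obtain ⟨x', hx'⟩ : ∃ x' : G, x' = g⁻¹ * x * g := ⟨_, rfl⟩
    rw [← hx'] at hg
    have hfix : Nat.card (fixedBy (Sylow 5 G) x') = Nat.card (fixedBy (Sylow 5 G) x) := by
      have hc := card_fixedBy_conj (X := Sylow 5 G) g⁻¹ x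
      rw [inv_inv] at hc
      rw [hx']; exact hc
    have hx'2 : x' ^ 2 = g⁻¹ * u * g := by
      rw [hx', ← hx2, pow_two, pow_two]; group
    have hx'2u : x' ^ 2 = u := by
      apply hBinv _ (Subgroup.pow_mem _ hg 2)
      · rw [hx'2]
        calc (g⁻¹ * u * g) * (g⁻¹ * u * g) = g⁻¹ * (u * u) * g := by group
          _ = 1 := by rw [hu]; group
      · rw [hx'2]
        intro h
        apply hu1
        calc u = g * (g⁻¹ * u * g) * g⁻¹ := by group
          _ = 1 := by rw [h]; group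
    have hcomm := hBcomm x' hg (e ^ 2) he2B
    have hc : (e ^ 2)⁻¹ * x' = x' * (e ^ 2)⁻¹ := by
      calc (e ^ 2)⁻¹ * x' = (e ^ 2)⁻¹ * (x' * e ^ 2) * (e ^ 2)⁻¹ := by group
        _ = (e ^ 2)⁻¹ * (e ^ 2 * x') * (e ^ 2)⁻¹ := by rw [hcomm]
        _ = x' * (e ^ 2)⁻¹ := by group
    have hy2 : (x' * (e ^ 2)⁻¹) * (x' * (e ^ 2)⁻¹) = 1 := by
      calc (x' * (e ^ 2)⁻¹) * (x' * (e ^ 2)⁻¹)
          = x' * ((e ^ 2)⁻¹ * x') * (e ^ 2)⁻¹ := by group
        _ = x' * (x' * (e ^ 2)⁻¹) * (e ^ 2)⁻¹ := by rw [hc]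
        _ = x' ^ 2 * ((e ^ 2) ^ 2)⁻¹ := by simp only [pow_two]; group
        _ = 1 := by rw [hx'2u, he22, mul_inv_cancel]
    rw [← hfix]
    by_cases h1 : x' * (e ^ 2)⁻¹ = 1
    · rw [mul_inv_eq_one.mp h1]
    · have h2 := hBinv _ ((zpowers e).mul_mem hg ((zpowers e).inv_mem he2B)) hy2 h1
      have h3 : x' = u * e ^ 2 := eq_mul_of_mul_inv_eq h2
      have h4 : u * e ^ 2 = (e ^ 2)⁻¹ := by
        apply eq_inv_of_mul_eq_one_left
        rw [← he4u]
        calc e ^ 4 * e ^ 2 * e ^ 2 = e ^ (4 + 2 + 2) := by rw [← pow_add, ← pow_add]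
          _ = 1 := he8
      rw [h3, h4, fixedBy_inv]
  obtain ⟨x, hx2, hx4, hxne⟩ : ∃ x : G, x ^ 2 = u ∧ x ^ 4 = 1 ∧
      Nat.card (fixedBy (Sylow 5 G) x) ≠ Nat.card (fixedBy (Sylow 5 G) (e ^ 2)) := by
    by_cases h : Nat.card (fixedBy (Sylow 5 G) (e ^ 2)) = 4
    · exact ⟨q, hq2, hq4, by rw [hFXq, h]; norm_num⟩
    · exact ⟨s, hu_def.symm, hs4, by rw [hFXs]; exact fun h' => h h'.symm⟩
  have hnoB : ∀ g : G, g⁻¹ * x * g ∉ zpowers e := fun g hg => hxne (hconjB x hx2 g hg)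
  have hF0 : Nat.card (fixedBy (G ⧸ zpowers e) x) = 0 := by
    rw [Nat.card_eq_zero]
    left
    rw [← not_nonempty_iff]
    intro hne
    obtain ⟨g, hg⟩ := exists_conj_mem_of_fixedBy_coset (zpowers e) x hne
    exact hnoB g hg
  have hone : Nat.card {y : G // IsConj u y ∧ y ∈ zpowers e} = 1 := by
    rw [Nat.card_eq_one_iff_unique]
    refine ⟨⟨fun a b => Subtype.ext ?_⟩, ⟨⟨u, IsConj.refl u, huB⟩⟩⟩
    rw [hBinv a.1 a.2.2 (mul_self_eq_one_of_isConj a.2.1 hu) (ne_one_of_isConj a.2.1 hu1),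
      hBinv b.1 b.2.2 (mul_self_eq_one_of_isConj b.2.1 hu) (ne_one_of_isConj b.2.1 hu1)]
  have hdcB : Nat.card {y : G // IsConj u y ∧ y ∈ zpowers e} * Nat.card ↥S *
      (zpowers e).index = Nat.card (fixedBy (G ⧸ zpowers e) u) * Nat.card G :=
    dc_coset (zpowers e) u
  rw [hone, hS16', hBidx, hG] at hdcB
  have hFu : Nat.card (fixedBy (G ⧸ zpowers e) u) = 2 := by omega
  have hsign := even_of_pow_four_eq_one hnc (X := G ⧸ zpowers e) x hx4
  have hcardX : Nat.card (G ⧸ zpowers e) = 90 := hBidx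
  rw [hx2, hFu, hF0, hcardX] at hsign
  obtain ⟨r, hr⟩ := hsign
  omega

theorem o720_case10 (hnc : ¬ IsMulCommutative G) (hG : Nat.card G = 720)
    (h10 : Nat.card (Sylow 3 G) = 10) : False := by
  haveI : Fact (Nat.Prime 3) := ⟨Nat.prime_three⟩
  haveI : Fact (Nat.Prime 5) := ⟨by norm_num⟩
  obtain ⟨P5, s₀, hs₀N, hs₀4, hs₀2⟩ := o720_exists_s hnc hG
  obtain ⟨hC16, _⟩ := o720_u_facts hnc hG P5 s₀ hs₀N hs₀4 hs₀2
  obtain ⟨P3⟩ : Nonempty (Sylow 3 G) := inferInstance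
  obtain ⟨hP9, hL72, _⟩ := o720_p3_facts hnc hG h10 P3
  have hu₀ : s₀ ^ 2 * s₀ ^ 2 = 1 := by rw [← pow_add]; exact hs₀4
  obtain ⟨g, hgL, hg8⟩ := o720_I10 hnc hG (s₀ ^ 2) hu₀ hC16 _ hL72
  have hconj : (g * s₀ * g⁻¹) ^ 2 = g * s₀ ^ 2 * g⁻¹ := conj_pow
  refine o720_case10_main hnc hG h10 (g • P5) (g * s₀ * g⁻¹)
    (conj_mem_normalizer_smul P5 g s₀ hs₀N) ?_ ?_ P3 ?_ ?_
  · rw [conj_pow, hs₀4, mul_one, mul_inv_cancel]
  · rw [hconj]
    intro h
    apply hs₀2
    calc s₀ ^ 2 = g⁻¹ * (g * s₀ ^ 2 * g⁻¹) * g := by group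
      _ = 1 := by rw [h]; group
  · rw [hconj]; exact hgL
  · rw [hconj]; exact hg8

theorem not_simple_720 (hnc : ¬ IsMulCommutative G) (hG : Nat.card G = 720) : False := by
  rcases o720_sylow3 hnc hG with h | h
  · exact o720_case10 hnc hG h
  · exact o720_case40 hnc hG h

end O720b

end Cfsg.Agent.Lib.Helper17
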