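import Mathlib
import Cfsg.Agent.Lib.Helper17.EngineLemmas
import Cfsg.Agent.Lib.Helper17.CosetTools
import Cfsg.Agent.Lib.Helper17.MiscTools
import Cfsg.Agent.Lib.Helper17.DvdTools
import Cfsg.Agent.Lib.Helper17.FusionTools
import Cfsg.Agent.Lib.Helper17.FixSylow

set_option autoImplicit false

namespace Cfsg.Agent.Lib.Helper17

open Subgroup MulAction

section

variable {G : Type*} [Group G] [Finite G] [IsSimpleGroup G]

theorem o756_sylow7 (hG : Nat.card G = 756) (Q : Sylow 7 G) :
    Nat.card ↥(Q : Subgroup G) = 7 ∧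
      Nat.card ↥(centralizer ((Q : Subgroup G) : Set G)) = 7 := by
  haveI : Fact (Nat.Prime 7) := ⟨by norm_num⟩
  have hG7 : Nat.card G = 7 ^ 1 * 108 := by rw [hG]; norm_num
  obtain ⟨hQ, hdvd, hmod, hgt, hN⟩ := sylow_basic hG7 (by norm_num) le_rfl (by norm_num) Q
  rw [pow_one] at hQ hN
  have hcases := forall_dvd_of_allLt 108 (fun d => d % 7 = 1 → d = 1 ∨ d = 36)
    (by decide +kernel) (by norm_num)
  have hn : Nat.card (Sylow 7 G) = 36 := by
    rcases hcases _ hdvd hmod with h | h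
    · omega
    · exact h
  rw [hn] at hN
  have hN' : Nat.card ↥(normalizer ((Q : Subgroup G) : Set G)) = 7 * 3 := by rw [hN]
  have := centralizer_sylow_eq_of_card_normalizer (by norm_num : Nat.Prime 3) Q hQ
    (by rw [hG]; norm_num) hN'
  exact ⟨hQ, by rw [this, hQ]⟩

theorem o756_sylow3 (hnc : ¬ IsMulCommutative G) (hG : Nat.card G = 756) (P : Sylow 3 G) :
    Nat.card ↥(P : Subgroup G) = 27 ∧
      normalizer ((P : Subgroup G) : Set G) = (P : Subgroup G) := by
  haveI : Fact (Nat.Prime 3) := ⟨by norm_num⟩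
  have hG3 : Nat.card G = 3 ^ 3 * 28 := by rw [hG]; norm_num
  obtain ⟨hP, hdvd, hmod, hgt, hN⟩ :=
    sylow_basic hG3 (by norm_num) (by norm_num) (by norm_num) P
  have hcases := forall_dvd_of_allLt 28 (fun d => d % 3 = 1 → d = 1 ∨ d = 4 ∨ d = 7 ∨ d = 28)
    (by decide +kernel) (by norm_num)
  have hn : Nat.card (Sylow 3 G) = 28 := by
    rcases hcases _ hdvd hmod with h | h | h | h
    · omega
    · exfalso
      apply dtest_fact hnc hG hG3 (by norm_num) (by norm_num) (by norm_num)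
      rw [h]
      decide
    · exfalso
      apply dtest_fact hnc hG hG3 (by norm_num) (by norm_num) (by norm_num)
      rw [h]
      decide
    · exact h
  rw [hn] at hN
  have hN27 : Nat.card ↥(normalizer ((P : Subgroup G) : Set G)) = 27 := by
    rw [hN]; norm_num
  have hP27 : Nat.card ↥(P : Subgroup G) = 27 := by rw [hP]; norm_num
  refine ⟨hP27, ?_⟩
  symm
  exact Subgroup.eq_of_le_of_card_ge Subgroup.le_normalizer (by rw [hP27, hN27])

theorem o756_claimA (hnc : ¬ IsMulCommutative G) (hG : Nat.card G = 756) (P Q : Sylow 3 G)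
    (K : Subgroup G) (hKP : K ≤ (P : Subgroup G)) (hKQ : K ≤ (Q : Subgroup G))
    (hK : 9 ≤ Nat.card ↥K) : P = Q := by
  haveI : Fact (Nat.Prime 3) := ⟨by norm_num⟩
  by_contra hne
  obtain ⟨hP27, _⟩ := o756_sylow3 hnc hG P
  have hP : Nat.card ↥(P : Subgroup G) = 3 ^ 3 := by rw [hP27]; norm_num
  have hKD : K ≤ (P : Subgroup G) ⊓ (Q : Subgroup G) := le_inf hKP hKQ
  have hD9 : 9 ≤ Nat.card ↥((P : Subgroup G) ⊓ (Q : Subgroup G) : Subgroup G) :=
    hK.trans (Nat.le_of_dvd Nat.card_pos (Subgroup.card_dvd_of_le hKD))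
  have hle : Nat.card ↥(P : Subgroup G) ≤
      3 * Nat.card ↥((P : Subgroup G) ⊓ (Q : Subgroup G) : Subgroup G) := by
    rw [hP27]; omega
  obtain ⟨hcardD, hPN, hQN⟩ := sylow_inter_index_prime P Q hne hP hle
  set D := (P : Subgroup G) ⊓ (Q : Subgroup G) with hD
  have hD9' : Nat.card ↥D = 9 := by rw [hP27] at hcardD; omega
  set N := normalizer (D : Set G) with hN
  have h108 := card_ge_of_two_sylow_le P Q hne N hPN hQN
  rw [hP27] at h108
  have hmul := N.card_mul_index
  rw [hG] at hmul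
  have hNtop : N ≠ ⊤ := by
    intro htop
    have hn : D.Normal := normalizer_eq_top_iff.mp htop
    rcases hn.eq_bot_or_eq_top with h | h
    · rw [h, Subgroup.card_bot] at hD9'; omega
    · rw [h, Subgroup.card_top, hG] at hD9'; omega
  have hidx0 : N.index ≠ 0 := by
    intro h
    rw [h] at hmul
    omega
  apply false_of_index_le hnc 7 (by rw [hG]; decide) N
  · by_contra h
    have h1 : N.index = 1 := by omega
    exact hNtop (Subgroup.index_eq_one.mp h1)
  · by_contra h
    push Not at h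
    have : 108 * 8 ≤ Nat.card ↥N * N.index := Nat.mul_le_mul h108 h
    omega

theorem o756_main (hnc : ¬ IsMulCommutative G) (hG : Nat.card G = 756) (P Q : Sylow 3 G)
    (hne : P ≠ Q) (y : G) (hyP : y ∈ (P : Subgroup G)) (hyQ : y ∈ (Q : Subgroup G))
    (hy1 : y ≠ 1) :
    ∃ c : G, y * c = c * y ∧
      9 ≤ Nat.card ↥((Q : Subgroup G) ⊓ centralizer ({y} : Set G) : Subgroup G) ∧
      ∀ x ∈ (Q : Subgroup G) ⊓ centralizer ({y} : Set G),
        c * x * c⁻¹ ∈ (P : Subgroup G) ⊓ centralizer ({y} : Set G) := by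
  haveI : Fact (Nat.Prime 3) := ⟨by norm_num⟩
  haveI : Fact (Nat.Prime 7) := ⟨by norm_num⟩
  obtain ⟨hP27, hNP⟩ := o756_sylow3 hnc hG P
  obtain ⟨hQ27, hNQ⟩ := o756_sylow3 hnc hG Q
  set C := centralizer ({y} : Set G) with hC
  have hy27 : y ^ 27 = 1 := by
    have h3 : (⟨y, hyP⟩ : ↥(P : Subgroup G)) ^ Nat.card ↥(P : Subgroup G) = 1 := pow_card_eq_one'
    rw [hP27] at h3
    have := congrArg Subtype.val h3
    simpa using this
  have h7 : ¬ 7 ∣ Nat.card ↥C := by
    intro h
    obtain ⟨Q7⟩ : Nonempty (Sylow 7 G) := inferInstance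
    obtain ⟨hQ7, hC7⟩ := o756_sylow7 hG Q7
    have h1 := pow_eq_one_of_dvd_card_centralizer Q7 hQ7 hC7 y h
    apply hy1
    have h5 : y ^ 28 = y ^ 27 * y := by rw [← pow_succ]
    rw [hy27, one_mul, show y ^ 28 = (y ^ 7) ^ 4 by rw [← pow_mul], h1, one_pow] at h5
    exact h5.symm
  have hP3 : Nat.card ↥(P : Subgroup G) = 3 ^ 3 := by rw [hP27]; norm_num
  have hQ3 : Nat.card ↥(Q : Subgroup G) = 3 ^ 3 := by rw [hQ27]; norm_num
  have h9P := sq_dvd_card_inf_centralizer (P : Subgroup G) hP3 (by norm_num) y hyP hy1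
  have h9Q := sq_dvd_card_inf_centralizer (Q : Subgroup G) hQ3 (by norm_num) y hyQ hy1
  have hCdvd : Nat.card ↥C ∣ 756 := hG ▸ Subgroup.card_subgroup_dvd_card C
  have h9C : 9 ∣ Nat.card ↥C :=
    (by simpa using h9P : 9 ∣ Nat.card ↥((P : Subgroup G) ⊓ C : Subgroup G)).trans
      (Subgroup.card_dvd_of_le inf_le_right)
  have h27 : ¬ 27 ∣ Nat.card ↥C := by
    intro h27
    obtain ⟨m, hm⟩ := h27
    have hm3 : ¬ 3 ∣ m := by
      intro h3
      obtain ⟨m', rfl⟩ := h3
      have : 81 ∣ 756 := (Dvd.intro m' (by rw [hm]; ring)).trans hCdvd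
      omega
    have hCm : Nat.card ↥C = 3 ^ 3 * m := by rw [hm]; norm_num
    have key : ∀ R : Sylow 3 G, 9 ∣ Nat.card ↥((R : Subgroup G) ⊓ C : Subgroup G) →
        (R : Subgroup G) ≤ C := by
      intro R hR9
      have hpg : IsPGroup 3 ↥((R : Subgroup G) ⊓ C : Subgroup G) := R.2.to_le inf_le_left
      obtain ⟨S, hS⟩ := exists_sylow_map_ge C _ hpg inf_le_right
      have hScard : Nat.card ↥((S : Subgroup ↥C).map C.subtype) = 3 ^ 3 := by
        rw [card_map_subtype]; exact card_sylow_of_card_eq S hCm hm3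
      have hfac : 3 ^ (Nat.card G).factorization 3 = 3 ^ 3 := by
        rw [← P.card_eq_multiplicity, hP3]
      set S₁ : Sylow 3 G := Sylow.ofCard ((S : Subgroup ↥C).map C.subtype)
        (by rw [hScard, hfac]) with hS₁
      have hS₁coe : (S₁ : Subgroup G) = (S : Subgroup ↥C).map C.subtype := rfl
      have : R = S₁ := o756_claimA hnc hG R S₁ _ inf_le_left (by rw [hS₁coe]; exact hS)
        (Nat.le_of_dvd Nat.card_pos hR9)
      rw [this, hS₁coe]
      exact Subgroup.map_subtype_le _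
    have hPC := key P (by simpa using h9P)
    have hQC := key Q (by simpa using h9Q)
    have h108 := card_ge_of_two_sylow_le P Q hne C hPC hQC
    rw [hP27] at h108
    have hcs := forall_dvd_of_allLt 756 (fun d => ¬ 7 ∣ d → 108 ≤ d → d = 108)
      (by decide +kernel) (by norm_num)
    have hC108 := hcs _ hCdvd h7 (by omega)
    have hmul := C.card_mul_index
    rw [hC108, hG] at hmul
    exact false_of_index_le hnc 7 (by rw [hG]; decide) C (by omega) (by omega)
  obtain ⟨m, hm⟩ := h9C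
  have hm3 : ¬ 3 ∣ m := by
    intro h3
    obtain ⟨m', rfl⟩ := h3
    apply h27
    rw [hm]
    exact ⟨m', by ring⟩
  have hCm : Nat.card ↥C = 3 ^ 2 * m := by rw [hm]; norm_num
  have hcard9 : ∀ R : Sylow 3 G, Nat.card ↥(R : Subgroup G) = 27 →
      3 ^ 2 ∣ Nat.card ↥((R : Subgroup G) ⊓ C : Subgroup G) →
      Nat.card ↥((R : Subgroup G) ⊓ C : Subgroup G) = 3 ^ 2 := by
    intro R hR27 h9
    have hd27 : Nat.card ↥((R : Subgroup G) ⊓ C : Subgroup G) ∣ 27 :=
      hR27 ▸ Subgroup.card_dvd_of_le inf_le_left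
    have hdC : Nat.card ↥((R : Subgroup G) ⊓ C : Subgroup G) ∣ Nat.card ↥C :=
      Subgroup.card_dvd_of_le inf_le_right
    have hcs := forall_dvd_of_allLt 27 (fun d => 9 ∣ d → d = 9 ∨ d = 27) (by decide +kernel)
      (by norm_num)
    rcases hcs _ hd27 (by simpa using h9) with h | h
    · rw [h]; norm_num
    · exfalso
      apply h27
      rw [← h]
      exact hdC
  have hKP9 := hcard9 P hP27 h9P
  have hKQ9 := hcard9 Q hQ27 h9Q
  obtain ⟨c, hcC, hc⟩ := exists_conj_of_card_eq_sylow C ((P : Subgroup G) ⊓ C)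
    ((Q : Subgroup G) ⊓ C) hCm hm3 inf_le_right inf_le_right hKP9 hKQ9
  refine ⟨c, mem_centralizer_singleton_iff.mp hcC, by rw [hKQ9]; norm_num, hc⟩

theorem not_simple_756 (hnc : ¬ IsMulCommutative G) (hG : Nat.card G = 756) : False := by
  haveI : Fact (Nat.Prime 3) := ⟨by norm_num⟩
  obtain ⟨P⟩ : Nonempty (Sylow 3 G) := inferInstance
  obtain ⟨hP27, hNP⟩ := o756_sylow3 hnc hG P
  apply not_selfFusion_of_simple P (subgroup_ne_bot_of_one_lt_card _ (by rw [hP27]; norm_num))
    (subgroup_ne_top_of_card_lt _ (by rw [hP27, hG]; norm_num))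
  intro x hx y' hy' ⟨g, hg⟩
  by_cases hgP : g ∈ (P : Subgroup G)
  · exact ⟨g, hgP, hg⟩
  · by_cases hy1 : y' = 1
    · refine ⟨1, one_mem _, ?_⟩
      have hx1 : x = 1 := by
        have : x = g⁻¹ * (g * x * g⁻¹) * g := by group
        rw [this, hg, hy1]
        group
      rw [hx1, hy1]
      group
    · set Q : Sylow 3 G := g • P with hQ
      have hQne : P ≠ Q := by
        intro h
        apply hgP
        have h1 : g • P = P := h.symm
        rw [Sylow.smul_eq_iff_mem_normalizer] at h1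
        have h2 : g ∈ normalizer ((P : Subgroup G) : Set G) := h1
        rw [hNP] at h2
        exact h2
      have hyQ : y' ∈ (Q : Subgroup G) := by
        rw [hQ, mem_smul_sylow_iff, ← hg]
        have : g⁻¹ * (g * x * g⁻¹) * g = x := by group
        rw [this]
        exact hx
      obtain ⟨c, hcy, h9, hc⟩ := o756_main hnc hG P Q hQne y' hy' hyQ hy1
      set Q' : Sylow 3 G := c • Q with hQ'
      have hmem : ∀ a ∈ (Q : Subgroup G) ⊓ centralizer ({y'} : Set G),
          c * a * c⁻¹ ∈ (P : Subgroup G) ⊓ (Q' : Subgroup G) := by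
        intro a ha
        refine Subgroup.mem_inf.mpr ⟨(Subgroup.mem_inf.mp (hc a ha)).1, ?_⟩
        rw [hQ', mem_smul_sylow_iff]
        have : c⁻¹ * (c * a * c⁻¹) * c = a := by group
        rw [this]
        exact (Subgroup.mem_inf.mp ha).1
      have hinj : Nat.card ↥((Q : Subgroup G) ⊓ centralizer ({y'} : Set G) : Subgroup G) ≤
          Nat.card ↥((P : Subgroup G) ⊓ (Q' : Subgroup G) : Subgroup G) := by
        apply Nat.card_le_card_of_injective
          (fun a : ↥((Q : Subgroup G) ⊓ centralizer ({y'} : Set G) : Subgroup G) =>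
            (⟨c * a.1 * c⁻¹, hmem a.1 a.2⟩ : ↥((P : Subgroup G) ⊓ (Q' : Subgroup G) : Subgroup G)))
        intro a b hab
        have := congrArg Subtype.val hab
        simp only [mul_left_inj, mul_right_inj] at this
        exact Subtype.ext this
      have hPQ' : P = Q' := o756_claimA hnc hG P Q' _ inf_le_left inf_le_right (h9.trans hinj)
      have hcg : (c * g) • P = P := by
        rw [mul_smul, ← hQ, ← hQ']
        exact hPQ'.symm
      rw [Sylow.smul_eq_iff_mem_normalizer] at hcg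
      have hcgP : c * g ∈ (P : Subgroup G) := by
        have h2 : c * g ∈ normalizer ((P : Subgroup G) : Set G) := hcg
        rwa [hNP] at h2
      refine ⟨c * g, hcgP, ?_⟩
      calc c * g * x * (c * g)⁻¹ = c * (g * x * g⁻¹) * c⁻¹ := by group
        _ = c * y' * c⁻¹ := by rw [hg]
        _ = y' := by rw [← hcy]; group

end

end Cfsg.Agent.Lib.Helper17
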