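import Mathlib
import Cfsg.Agent.S1003
import Cfsg.Agent.Lib.Helper17.ElementCount

set_option autoImplicit false

namespace Cfsg.Agent.Lib.Helper17.O168

open Cfsg.Agent.Lib.Helper17 Subgroup MulAction

variable {G : Type*} [Group G] [Finite G] [IsSimpleGroup G]

theorem not_comm (h : Nat.card G = 168) : ¬ IsMulCommutative G :=
  not_comm_of_simple_of_not_prime (by rw [h]; norm_num)

theorem card_sylow7 (h : Nat.card G = 168) (P : Sylow 7 G) : Nat.card ↥(P : Subgroup G) = 7 := by
  haveI : Fact (Nat.Prime 7) := ⟨by norm_num⟩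
  have hG' : Nat.card G = 7 ^ 1 * 24 := by rw [h]; norm_num
  simpa using card_sylow_of_card_eq P hG' (by norm_num)

theorem card_sylow3 (h : Nat.card G = 168) (P : Sylow 3 G) : Nat.card ↥(P : Subgroup G) = 3 := by
  haveI : Fact (Nat.Prime 3) := ⟨by norm_num⟩
  have hG' : Nat.card G = 3 ^ 1 * 56 := by rw [h]; norm_num
  simpa using card_sylow_of_card_eq P hG' (by norm_num)

theorem card_sylow2 (h : Nat.card G = 168) (T : Sylow 2 G) : Nat.card ↥(T : Subgroup G) = 8 := by
  haveI : Fact (Nat.Prime 2) := ⟨Nat.prime_two⟩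
  have hG' : Nat.card G = 2 ^ 3 * 21 := by rw [h]; norm_num
  simpa using card_sylow_of_card_eq T hG' (by norm_num)

/-- A Sylow subgroup of prime order `p` with `|N(P)| = p * m`, `gcd`-conditions forcing
`|C(P)| = p`, is self-centralizing. -/
theorem centralizer_eq_of_card {p : ℕ} [hp : Fact p.Prime] (P : Sylow p G)
    (hP : Nat.card ↥(P : Subgroup G) = p)
    (hC : Nat.card ↥(centralizer ((P : Subgroup G) : Set G)) = p) :
    centralizer ((P : Subgroup G) : Set G) = (P : Subgroup G) := by
  have hcomm : ∀ a ∈ (P : Subgroup G), ∀ b ∈ (P : Subgroup G), a * b = b * a := by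
    intro a ha b hb
    have hcyc : IsCyclic ↥(P : Subgroup G) := isCyclic_of_prime_card hP
    exact congrArg Subtype.val (hcyc.isMulCommutative.is_comm.comm ⟨a, ha⟩ ⟨b, hb⟩)
  have hPC : (P : Subgroup G) ≤ centralizer ((P : Subgroup G) : Set G) := by
    intro a ha
    rw [mem_centralizer_iff]
    intro b hb
    exact hcomm b hb a ha
  exact (Subgroup.eq_of_le_of_card_ge hPC (by rw [hP, hC])).symm

theorem centralizer_sylow7 (h : Nat.card G = 168) (P : Sylow 7 G) :
    centralizer ((P : Subgroup G) : Set G) = (P : Subgroup G) := by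
  haveI : Fact (Nat.Prime 7) := ⟨by norm_num⟩
  have hP := card_sylow7 h P
  apply centralizer_eq_of_card P hP
  have hn := (Cfsg.Agent.S1003.result h).2.2
  have hN : Nat.card ↥(normalizer ((P : Subgroup G) : Set G)) = 21 := by
    have := card_normalizer_mul_card_sylow P
    rw [hn, h] at this
    omega
  have h1 := relIndex_centralizer_normalizer_dvd_pred (p := 7) (by norm_num) (P : Subgroup G) hP
  have h2 := card_inf_mul_relIndex (centralizer ((P : Subgroup G) : Set G))
    (normalizer ((P : Subgroup G) : Set G))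
  rw [inf_eq_left.mpr (centralizer_le_normalizer _), hN] at h2
  have hne1 : (P : Subgroup G) ≠ ⊥ := by
    intro h'; rw [h', Subgroup.card_bot] at hP; omega
  have hne2 : (P : Subgroup G) ≠ ⊤ := by
    intro h'; rw [h', Subgroup.card_top] at hP; omega
  have h3 : (centralizer ((P : Subgroup G) : Set G)).relIndex
      (normalizer ((P : Subgroup G) : Set G)) ≠ 1 := by
    intro h4
    exact not_normalizer_le_centralizer_of_simple P hne1 hne2 (relIndex_eq_one.mp h4)
  have h5 : (centralizer ((P : Subgroup G) : Set G)).relIndex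
      (normalizer ((P : Subgroup G) : Set G)) ≤ 6 := Nat.le_of_dvd (by norm_num) h1
  generalize (centralizer ((P : Subgroup G) : Set G)).relIndex
      (normalizer ((P : Subgroup G) : Set G)) = r at *
  generalize Nat.card ↥(centralizer ((P : Subgroup G) : Set G)) = c at *
  interval_cases r <;> omega

theorem centralizer_sylow3 (h : Nat.card G = 168) (P : Sylow 3 G) :
    centralizer ((P : Subgroup G) : Set G) = (P : Subgroup G) := by
  haveI : Fact (Nat.Prime 3) := ⟨by norm_num⟩
  have hP := card_sylow3 h P
  apply centralizer_eq_of_card P hP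
  have hn := (Cfsg.Agent.S1003.result h).2.1
  have hN : Nat.card ↥(normalizer ((P : Subgroup G) : Set G)) = 6 := by
    have := card_normalizer_mul_card_sylow P
    rw [hn, h] at this
    omega
  have h1 := relIndex_centralizer_normalizer_dvd_pred (p := 3) (by norm_num) (P : Subgroup G) hP
  have h2 := card_inf_mul_relIndex (centralizer ((P : Subgroup G) : Set G))
    (normalizer ((P : Subgroup G) : Set G))
  rw [inf_eq_left.mpr (centralizer_le_normalizer _), hN] at h2
  have hne1 : (P : Subgroup G) ≠ ⊥ := by
    intro h'; rw [h', Subgroup.card_bot] at hP; omega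
  have hne2 : (P : Subgroup G) ≠ ⊤ := by
    intro h'; rw [h', Subgroup.card_top] at hP; omega
  have h3 : (centralizer ((P : Subgroup G) : Set G)).relIndex
      (normalizer ((P : Subgroup G) : Set G)) ≠ 1 := by
    intro h4
    exact not_normalizer_le_centralizer_of_simple P hne1 hne2 (relIndex_eq_one.mp h4)
  have h5 : (centralizer ((P : Subgroup G) : Set G)).relIndex
      (normalizer ((P : Subgroup G) : Set G)) ≤ 2 := Nat.le_of_dvd (by norm_num) h1
  generalize (centralizer ((P : Subgroup G) : Set G)).relIndex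
      (normalizer ((P : Subgroup G) : Set G)) = r at *
  generalize Nat.card ↥(centralizer ((P : Subgroup G) : Set G)) = c at *
  interval_cases r <;> omega

theorem normalizer_sylow2 (h : Nat.card G = 168) (T : Sylow 2 G) :
    normalizer ((T : Subgroup G) : Set G) = (T : Subgroup G) := by
  haveI : Fact (Nat.Prime 2) := ⟨Nat.prime_two⟩
  have hT := card_sylow2 h T
  have hn := (Cfsg.Agent.S1003.result h).1
  have hN : Nat.card ↥(normalizer ((T : Subgroup G) : Set G)) = 8 := by
    have := card_normalizer_mul_card_sylow T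
    rw [hn, h] at this
    omega
  exact (Subgroup.eq_of_le_of_card_ge le_normalizer (by rw [hT, hN])).symm

/-- A subgroup of order 8 is not commutative. -/
theorem not_comm_of_card_eight (h : Nat.card G = 168) (T : Subgroup G) (hT : Nat.card ↥T = 8) :
    ¬ (∀ a ∈ T, ∀ b ∈ T, a * b = b * a) := by
  haveI : Fact (Nat.Prime 2) := ⟨Nat.prime_two⟩
  intro hcomm
  have hfac : 2 ^ (Nat.card G).factorization 2 = 8 := by
    obtain ⟨T₀⟩ : Nonempty (Sylow 2 G) := inferInstance
    rw [← T₀.card_eq_multiplicity, card_sylow2 h T₀]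
  set S : Sylow 2 G := Sylow.ofCard T (by rw [hT, hfac]) with hS
  have hST : (S : Subgroup G) = T := rfl
  have hne1 : (S : Subgroup G) ≠ ⊥ := by
    intro h'; rw [hST] at h'; rw [h', Subgroup.card_bot] at hT; omega
  have hne2 : (S : Subgroup G) ≠ ⊤ := by
    intro h'; rw [hST] at h'; rw [h', Subgroup.card_top] at hT; omega
  apply not_normalizer_le_centralizer_of_simple S hne1 hne2
  rw [normalizer_sylow2 h S, hST]
  intro a ha
  rw [mem_centralizer_iff]
  intro b hb
  exact hcomm b hb a ha

omit [IsSimpleGroup G] in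
/-- If the Sylow `p`-subgroups have order `p` and are self-centralizing, any element whose order
is divisible by `p` has order `p`. -/
theorem orderOf_eq_of_dvd {p : ℕ} [hp : Fact p.Prime]
    (hP : ∀ P : Sylow p G, Nat.card ↥(P : Subgroup G) = p)
    (hC : ∀ P : Sylow p G, centralizer ((P : Subgroup G) : Set G) = (P : Subgroup G))
    (g : G) (hdvd : p ∣ orderOf g) : orderOf g = p := by
  obtain ⟨m, hm⟩ := hdvd
  have hgpos : 0 < orderOf g := orderOf_pos g
  have hmpos : 0 < m := by
    rcases Nat.eq_zero_or_pos m with h0 | h0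
    · rw [h0, mul_zero] at hm; omega
    · exact h0
  set x := g ^ m with hx
  have hxo : orderOf x = p := by
    rw [hx, orderOf_pow' g hmpos.ne', hm, Nat.gcd_eq_right (dvd_mul_left m p),
      Nat.mul_div_cancel _ hmpos]
  have hxgrp : IsPGroup p (zpowers x) := by
    apply IsPGroup.of_card (n := 1)
    rw [Nat.card_zpowers, hxo, pow_one]
  obtain ⟨P, hPx⟩ := hxgrp.exists_le_sylow
  have hx1 : x ≠ 1 := by
    intro h1
    rw [h1, orderOf_one] at hxo
    exact hp.out.one_lt.ne hxo
  have hzp : zpowers x = (P : Subgroup G) :=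
    zpowers_eq_of_mem_of_card_prime (P : Subgroup G) (hP P) x (hPx (mem_zpowers x)) hx1
  have hgC : g ∈ centralizer ((P : Subgroup G) : Set G) := by
    rw [mem_centralizer_iff]
    intro a ha
    rw [← hzp] at ha
    obtain ⟨n, rfl⟩ := mem_zpowers_iff.mp ha
    have h1 : Commute g x := (Commute.refl g).pow_right m
    exact ((h1.zpow_right n).eq).symm
  rw [hC P] at hgC
  have h2 : orderOf g ∣ p := by
    have := orderOf_dvd_natCard (⟨g, hgC⟩ : ↥(P : Subgroup G))
    rwa [Subgroup.orderOf_mk, hP P] at this
  rcases (Nat.dvd_prime hp.out).mp h2 with h3 | h3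
  · rw [h3] at hm
    have : p ∣ 1 := Dvd.intro _ hm.symm
    exact absurd (Nat.dvd_one.mp this) hp.out.one_lt.ne'
  · exact h3

/-- Element orders in a simple group of order 168. -/
theorem orderOf_mem (h : Nat.card G = 168) (g : G) :
    orderOf g = 1 ∨ orderOf g = 2 ∨ orderOf g = 3 ∨ orderOf g = 4 ∨ orderOf g = 7 := by
  haveI : Fact (Nat.Prime 7) := ⟨by norm_num⟩
  haveI : Fact (Nat.Prime 3) := ⟨by norm_num⟩
  haveI : Fact (Nat.Prime 2) := ⟨Nat.prime_two⟩
  have hdvd : orderOf g ∣ 168 := h ▸ orderOf_dvd_natCard g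
  by_cases h7 : 7 ∣ orderOf g
  · right; right; right; right
    exact orderOf_eq_of_dvd (card_sylow7 h) (centralizer_sylow7 h) g h7
  by_cases h3 : 3 ∣ orderOf g
  · right; right; left
    exact orderOf_eq_of_dvd (card_sylow3 h) (centralizer_sylow3 h) g h3
  have h8 : orderOf g ∣ 8 := by
    have hcop : Nat.Coprime (orderOf g) 21 := by
      have : (21 : ℕ) = 3 * 7 := by norm_num
      rw [this]
      apply Nat.Coprime.mul_right
      · exact ((Nat.Prime.coprime_iff_not_dvd (by norm_num : Nat.Prime 3)).mpr h3).symm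
      · exact ((Nat.Prime.coprime_iff_not_dvd (by norm_num : Nat.Prime 7)).mpr h7).symm
    have : (168 : ℕ) = 8 * 21 := by norm_num
    rw [this] at hdvd
    exact hcop.dvd_of_dvd_mul_right hdvd
  have hle : orderOf g ≤ 8 := Nat.le_of_dvd (by norm_num) h8
  have hpos : 0 < orderOf g := orderOf_pos g
  have hne8 : orderOf g ≠ 8 := by
    intro h8'
    apply not_comm_of_card_eight h (zpowers g) (by rw [Nat.card_zpowers, h8'])
    intro a ha b hb
    obtain ⟨n, rfl⟩ := mem_zpowers_iff.mp ha
    obtain ⟨m, rfl⟩ := mem_zpowers_iff.mp hb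
    rw [← zpow_add, ← zpow_add, add_comm]
  generalize orderOf g = n at *
  interval_cases n <;> simp_all <;> omega

/-- The centralizer of an element of order 2 or 4 has order dividing 8. -/
theorem card_centralizer_dvd_eight (h : Nat.card G = 168) (g : G)
    (hg : orderOf g = 2 ∨ orderOf g = 4) :
    Nat.card ↥(centralizer ({g} : Set G)) ∣ 8 := by
  haveI : Fact (Nat.Prime 7) := ⟨by norm_num⟩
  haveI : Fact (Nat.Prime 3) := ⟨by norm_num⟩
  have hdvd : Nat.card ↥(centralizer ({g} : Set G)) ∣ 168 :=
    h ▸ Subgroup.card_subgroup_dvd_card _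
  have key : ∀ q : ℕ, q.Prime → q = 3 ∨ q = 7 →
      ¬ q ∣ Nat.card ↥(centralizer ({g} : Set G)) := by
    intro q hq hq37 hqd
    haveI : Fact q.Prime := ⟨hq⟩
    obtain ⟨x, hx⟩ := exists_prime_orderOf_dvd_card' (G := ↥(centralizer ({g} : Set G))) q hqd
    have hxo : orderOf (x : G) = q := by rw [Subgroup.orderOf_coe, hx]
    have hcomm : Commute g (x : G) := mem_centralizer_iff.mp x.2 g rfl
    have hcop : Nat.Coprime (orderOf g) (orderOf (x : G)) := by
      rw [hxo]
      rcases hg with hg | hg <;> rcases hq37 with rfl | rfl <;> rw [hg] <;> norm_num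
    have hmul := hcomm.orderOf_mul_eq_mul_orderOf_of_coprime hcop
    rw [hxo] at hmul
    have := orderOf_mem h (g * (x : G))
    rcases hg with hg | hg <;> rcases hq37 with rfl | rfl <;> rw [hg] at hmul <;> omega
  have hcop : Nat.Coprime (Nat.card ↥(centralizer ({g} : Set G))) 21 := by
    have : (21 : ℕ) = 3 * 7 := by norm_num
    rw [this]
    apply Nat.Coprime.mul_right
    · exact ((Nat.Prime.coprime_iff_not_dvd (by norm_num : Nat.Prime 3)).mpr
        (key 3 (by norm_num) (Or.inl rfl))).symm
    · exact ((Nat.Prime.coprime_iff_not_dvd (by norm_num : Nat.Prime 7)).mpr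
        (key 7 (by norm_num) (Or.inr rfl))).symm
  have : (168 : ℕ) = 8 * 21 := by norm_num
  rw [this] at hdvd
  exact hcop.dvd_of_dvd_mul_right hdvd

/-- A Sylow 2-subgroup has a central involution, whose centralizer is the Sylow subgroup. -/
theorem exists_central_involution (h : Nat.card G = 168) (T : Sylow 2 G) :
    ∃ z ∈ (T : Subgroup G), orderOf z = 2 ∧ (∀ t ∈ (T : Subgroup G), t * z = z * t) ∧
      centralizer ({z} : Set G) = (T : Subgroup G) := by
  haveI : Fact (Nat.Prime 2) := ⟨Nat.prime_two⟩
  have hT := card_sylow2 h T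
  haveI : Nontrivial ↥(T : Subgroup G) := by
    rw [← Finite.one_lt_card_iff_nontrivial, hT]; norm_num
  haveI := T.2.center_nontrivial
  have hcen : IsPGroup 2 (center ↥(T : Subgroup G)) := T.2.to_subgroup _
  obtain ⟨k, hk⟩ := hcen.exists_card_eq
  have hk1 : k ≠ 0 := by
    rintro rfl
    rw [pow_zero] at hk
    have := Finite.one_lt_card_iff_nontrivial.mpr ‹Nontrivial ↥(center ↥(T : Subgroup G))›
    omega
  have h2dvd : 2 ∣ Nat.card ↥(center ↥(T : Subgroup G)) := by
    rw [hk]; exact dvd_pow_self 2 hk1
  obtain ⟨z', hz'⟩ := exists_prime_orderOf_dvd_card' (G := ↥(center ↥(T : Subgroup G))) 2 h2dvd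
  set z : G := ((z' : ↥(T : Subgroup G)) : G) with hz
  have hzT : z ∈ (T : Subgroup G) := (z' : ↥(T : Subgroup G)).2
  have hzo : orderOf z = 2 := by
    rw [hz, Subgroup.orderOf_coe, Subgroup.orderOf_coe, hz']
  have hzc : ∀ t ∈ (T : Subgroup G), t * z = z * t := by
    intro t ht
    have := Subgroup.mem_center_iff.mp z'.2 ⟨t, ht⟩
    exact congrArg Subtype.val this
  refine ⟨z, hzT, hzo, hzc, ?_⟩
  have hle : (T : Subgroup G) ≤ centralizer ({z} : Set G) := by
    intro t ht
    rw [mem_centralizer_iff]
    intro s hs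
    rw [Set.mem_singleton_iff] at hs
    rw [hs]
    exact (hzc t ht).symm
  have hd := card_centralizer_dvd_eight h z (Or.inl hzo)
  exact (Subgroup.eq_of_le_of_card_ge hle (by rw [hT]; exact Nat.le_of_dvd (by norm_num) hd)).symm

/-- A Sylow 2-subgroup has an element of order 4, whose centralizer has order 4. -/
theorem exists_order_four (h : Nat.card G = 168) (T : Sylow 2 G) :
    ∃ v ∈ (T : Subgroup G), orderOf v = 4 ∧ Nat.card ↥(centralizer ({v} : Set G)) = 4 := by
  haveI : Fact (Nat.Prime 2) := ⟨Nat.prime_two⟩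
  have hT := card_sylow2 h T
  have hnc := not_comm_of_card_eight h (T : Subgroup G) hT
  -- an element with v * v ≠ 1
  obtain ⟨v, hvT, hv2⟩ : ∃ v ∈ (T : Subgroup G), v * v ≠ 1 := by
    by_contra hcon
    push Not at hcon
    apply hnc
    intro a ha b hb
    have h1 := hcon a ha
    have h2 := hcon b hb
    have h3 := hcon (a * b) (mul_mem ha hb)
    have ha' : a⁻¹ = a := inv_eq_of_mul_eq_one_right h1
    have hb' : b⁻¹ = b := inv_eq_of_mul_eq_one_right h2
    have hab' : (a * b)⁻¹ = a * b := inv_eq_of_mul_eq_one_right h3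
    rw [mul_inv_rev, ha', hb'] at hab'
    exact hab'.symm
  have hvo : orderOf v = 4 := by
    have hd : orderOf v ∣ 8 := by
      have := orderOf_dvd_natCard (⟨v, hvT⟩ : ↥(T : Subgroup G))
      rwa [Subgroup.orderOf_mk, hT] at this
    have h1 : orderOf v ≠ 1 := by
      intro h1
      rw [orderOf_eq_one_iff] at h1
      rw [h1, one_mul] at hv2
      exact hv2 rfl
    have h2 : orderOf v ≠ 2 := by
      intro h2
      apply hv2
      have := pow_orderOf_eq_one v
      rwa [h2, pow_two] at this
    have hle : orderOf v ≤ 8 := Nat.le_of_dvd (by norm_num) hd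
    rcases orderOf_mem h v with h' | h' | h' | h' | h'
    · exact absurd h' h1
    · exact absurd h' h2
    · rw [h'] at hd; norm_num at hd
    · exact h'
    · rw [h'] at hd; norm_num at hd
  refine ⟨v, hvT, hvo, ?_⟩
  have hd := card_centralizer_dvd_eight h v (Or.inr hvo)
  have h4 : 4 ∣ Nat.card ↥(centralizer ({v} : Set G)) := by
    have hle : zpowers v ≤ centralizer ({v} : Set G) := by
      rw [zpowers_le, mem_centralizer_iff]
      intro s hs
      rw [Set.mem_singleton_iff] at hs
      rw [hs]
    have := Subgroup.card_dvd_of_le hle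
    rwa [Nat.card_zpowers, hvo] at this
  have hne8 : Nat.card ↥(centralizer ({v} : Set G)) ≠ 8 := by
    intro h8
    apply not_comm_of_card_eight h _ h8
    set K := centralizer ({v} : Set G) with hK
    have hvK : v ∈ K := by
      rw [hK, mem_centralizer_iff]
      intro s hs
      rw [Set.mem_singleton_iff] at hs
      rw [hs]
    -- v is central in K
    have hvcen : (⟨v, hvK⟩ : ↥K) ∈ center ↥K := by
      rw [Subgroup.mem_center_iff]
      intro g
      apply Subtype.ext
      have := mem_centralizer_iff.mp g.2 v rfl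
      exact this.symm
    have h4c : 4 ∣ Nat.card ↥(center ↥K) := by
      have hle : zpowers (⟨v, hvK⟩ : ↥K) ≤ center ↥K := by
        rw [zpowers_le]; exact hvcen
      have := Subgroup.card_dvd_of_le hle
      rwa [Nat.card_zpowers, Subgroup.orderOf_mk, hvo] at this
    have hq := Subgroup.card_eq_card_quotient_mul_card_subgroup (center ↥K)
    rw [h8] at hq
    have hcyc : IsCyclic (↥K ⧸ center ↥K) := by
      have hq2 : Nat.card (↥K ⧸ center ↥K) = 1 ∨ Nat.card (↥K ⧸ center ↥K) = 2 := by
        obtain ⟨c, hc⟩ := h4c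
        rw [hc] at hq
        have hc0 : c ≠ 0 := by
          rintro rfl
          omega
        have : Nat.card (↥K ⧸ center ↥K) * c = 2 := by nlinarith
        have hle : Nat.card (↥K ⧸ center ↥K) ≤ 2 :=
          Nat.le_of_dvd (by norm_num) (Dvd.intro _ this)
        have hpos : 0 < Nat.card (↥K ⧸ center ↥K) := Nat.card_pos
        omega
      rcases hq2 with h1 | h2
      · haveI : Subsingleton (↥K ⧸ center ↥K) := (Nat.card_eq_one_iff_unique.mp h1).1
        exact isCyclic_of_subsingleton
      · exact isCyclic_of_prime_card (p := 2) h2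
    have hcomm := MonoidHom.isMulCommutative_of_isCyclic_of_ker_le_center
      (QuotientGroup.mk' (center ↥K)) (by simp)
    intro a ha b hb
    exact congrArg Subtype.val (hcomm.is_comm.comm ⟨a, ha⟩ ⟨b, hb⟩)
  have hle : Nat.card ↥(centralizer ({v} : Set G)) ≤ 8 := Nat.le_of_dvd (by norm_num) hd
  generalize Nat.card ↥(centralizer ({v} : Set G)) = c at *
  interval_cases c <;> omega

/-- There are 48 elements of order 7 and 56 of order 3. -/
theorem card_orderOf_seven (h : Nat.card G = 168) : Nat.card {g : G // orderOf g = 7} = 48 := by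
  haveI : Fact (Nat.Prime 7) := ⟨by norm_num⟩
  rw [card_orderOf_eq_prime (card_sylow7 h), (Cfsg.Agent.S1003.result h).2.2]

theorem card_orderOf_three (h : Nat.card G = 168) : Nat.card {g : G // orderOf g = 3} = 56 := by
  haveI : Fact (Nat.Prime 3) := ⟨by norm_num⟩
  rw [card_orderOf_eq_prime (card_sylow3 h), (Cfsg.Agent.S1003.result h).2.1]

/-- The elements of order 2 and 4 number 63 in total. -/
theorem card_orderOf_two_add_four (h : Nat.card G = 168) :
    Nat.card {g : G // orderOf g = 2} + Nat.card {g : G // orderOf g = 4} = 63 := by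
  classical
  letI : Fintype G := Fintype.ofFinite G
  have h7 := card_orderOf_seven h
  have h3 := card_orderOf_three h
  have hsum := Finset.card_eq_sum_card_fiberwise (s := (Finset.univ : Finset G))
    (t := ({1, 2, 3, 4, 7} : Finset ℕ)) (f := orderOf) (by
      intro g _
      have := orderOf_mem h g
      simp only [Finset.coe_insert, Finset.coe_singleton, Set.mem_insert_iff,
        Set.mem_singleton_iff]
      tauto)
  have hconv : ∀ d : ℕ, (Finset.univ.filter (fun g : G => orderOf g = d)).card =
      Nat.card {g : G // orderOf g = d} := by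
    intro d
    rw [Nat.card_eq_fintype_card, Fintype.card_subtype]
  rw [Finset.card_univ, ← Nat.card_eq_fintype_card, h] at hsum
  have h1 : Nat.card {g : G // orderOf g = 1} = 1 := by
    have : {g : G // orderOf g = 1} ≃ Unit :=
      ⟨fun _ => (), fun _ => ⟨1, orderOf_one⟩, fun g => by
        apply Subtype.ext
        exact (orderOf_eq_one_iff.mp g.2).symm, fun _ => rfl⟩
    rw [Nat.card_congr this]
    simp
  simp only [hconv] at hsum
  rw [Finset.sum_insert (by decide), Finset.sum_insert (by decide), Finset.sum_insert (by decide),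
    Finset.sum_insert (by decide), Finset.sum_singleton] at hsum
  omega

omit [Finite G] [IsSimpleGroup G] in
/-- Conjugate elements have the same order. -/
theorem orderOf_eq_of_isConj {s t : G} (hst : IsConj s t) : orderOf t = orderOf s := by
  obtain ⟨g, rfl⟩ := isConj_iff.mp hst
  have : g * s * g⁻¹ = MulAut.conj g s := rfl
  rw [this, MulEquiv.orderOf_eq]

omit [IsSimpleGroup G] in
/-- If the class of `z` (of order `d`) has as many elements as there are elements of order `d`,
every element of order `d` is conjugate to `z`. -/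
theorem isConj_of_card_eq {d : ℕ} (z : G) (hz : orderOf z = d)
    (hcard : Nat.card {g : G // orderOf g = d} ≤ Nat.card {s : G // IsConj z s}) (t : G)
    (ht : orderOf t = d) : IsConj z t := by
  let f : {s : G // IsConj z s} → {g : G // orderOf g = d} :=
    fun s => ⟨s.1, by rw [orderOf_eq_of_isConj s.2, hz]⟩
  have hinj : Function.Injective f := by
    intro a b hab
    apply Subtype.ext
    exact congrArg (fun x : {g : G // orderOf g = d} => x.1) hab
  have hbij := hinj.bijective_of_nat_card_le hcard
  obtain ⟨s, hs⟩ := hbij.2 ⟨t, ht⟩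
  have : s.1 = t := congrArg (fun x : {g : G // orderOf g = d} => x.1) hs
  rw [← this]
  exact s.2

omit [IsSimpleGroup G] in
/-- Class size from the order of the centralizer. -/
theorem card_isConj_mul_card_centralizer (g : G) :
    Nat.card {s : G // IsConj g s} * Nat.card ↥(centralizer ({g} : Set G)) = Nat.card G := by
  rw [← index_centralizer_eq_card_isConj, mul_comm]
  exact Subgroup.card_mul_index _

/-- Involutions and elements of order four in a simple group of order 168. -/
theorem counts (h : Nat.card G = 168) :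
    Nat.card {g : G // orderOf g = 2} = 21 ∧ Nat.card {g : G // orderOf g = 4} = 42 ∧
    (∀ s t : G, orderOf s = 2 → orderOf t = 2 → IsConj s t) ∧
    (∀ s t : G, orderOf s = 4 → orderOf t = 4 → IsConj s t) := by
  haveI : Fact (Nat.Prime 2) := ⟨Nat.prime_two⟩
  obtain ⟨T⟩ : Nonempty (Sylow 2 G) := inferInstance
  obtain ⟨z, hzT, hzo, -, hzC⟩ := exists_central_involution h T
  obtain ⟨v, hvT, hvo, hvC⟩ := exists_order_four h T
  have hclz : Nat.card {s : G // IsConj z s} = 21 := by
    have := card_isConj_mul_card_centralizer z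
    rw [hzC, card_sylow2 h T, h] at this
    omega
  have hclv : Nat.card {s : G // IsConj v s} = 42 := by
    have := card_isConj_mul_card_centralizer v
    rw [hvC, h] at this
    omega
  have hsum := card_orderOf_two_add_four h
  have hle2 : Nat.card {s : G // IsConj z s} ≤ Nat.card {g : G // orderOf g = 2} := by
    apply Nat.card_le_card_of_injective
      (fun s : {s : G // IsConj z s} => (⟨s.1, by rw [orderOf_eq_of_isConj s.2, hzo]⟩ :
        {g : G // orderOf g = 2}))
    intro a b hab
    apply Subtype.ext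
    exact congrArg (fun x : {g : G // orderOf g = 2} => x.1) hab
  have hle4 : Nat.card {s : G // IsConj v s} ≤ Nat.card {g : G // orderOf g = 4} := by
    apply Nat.card_le_card_of_injective
      (fun s : {s : G // IsConj v s} => (⟨s.1, by rw [orderOf_eq_of_isConj s.2, hvo]⟩ :
        {g : G // orderOf g = 4}))
    intro a b hab
    apply Subtype.ext
    exact congrArg (fun x : {g : G // orderOf g = 4} => x.1) hab
  have e2 : Nat.card {g : G // orderOf g = 2} = 21 := by omega
  have e4 : Nat.card {g : G // orderOf g = 4} = 42 := by omega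
  refine ⟨e2, e4, ?_, ?_⟩
  · intro s t hs ht
    have h1 := isConj_of_card_eq z hzo (by rw [e2, hclz]) s hs
    have h2 := isConj_of_card_eq z hzo (by rw [e2, hclz]) t ht
    exact h1.symm.trans h2
  · intro s t hs ht
    have h1 := isConj_of_card_eq v hvo (by rw [e4, hclv]) s hs
    have h2 := isConj_of_card_eq v hvo (by rw [e4, hclv]) t ht
    exact h1.symm.trans h2

end Cfsg.Agent.Lib.Helper17.O168
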