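import Mathlib
import Cfsg.Agent.Lib.Helper17.Order168
import Cfsg.Agent.Lib.Helper17.NormCent

set_option autoImplicit false

namespace Cfsg.Agent.Lib.Helper17.O168

open Cfsg.Agent.Lib.Helper17 Subgroup MulAction

variable {G : Type*} [Group G] [Finite G] [IsSimpleGroup G]

/-- Every element of order 4 has centralizer of order 4. -/
theorem card_centralizer_of_orderOf_four (h : Nat.card G = 168) (w : G) (hw : orderOf w = 4) :
    Nat.card ↥(centralizer ({w} : Set G)) = 4 := by
  haveI : Fact (Nat.Prime 2) := ⟨Nat.prime_two⟩
  obtain ⟨T⟩ : Nonempty (Sylow 2 G) := inferInstance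
  obtain ⟨v, -, hvo, hvC⟩ := exists_order_four h T
  have hconj : IsConj v w := (counts h).2.2.2 v w hvo hw
  have hcl : Nat.card {s : G // IsConj w s} = Nat.card {s : G // IsConj v s} := by
    apply Nat.card_congr
    refine Equiv.subtypeEquivRight ?_
    intro s
    exact ⟨fun hs => hconj.trans hs, fun hs => hconj.symm.trans hs⟩
  have h1 := card_isConj_mul_card_centralizer w
  have h2 := card_isConj_mul_card_centralizer v
  rw [hcl] at h1
  rw [hvC, h] at h2
  rw [h] at h1
  have h42 : Nat.card {s : G // IsConj v s} = 42 := by omega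
  rw [h42] at h1
  omega

/-- The centralizer of an element of order 4 is the cyclic group it generates. -/
theorem centralizer_eq_zpowers (h : Nat.card G = 168) (w : G) (hw : orderOf w = 4) :
    centralizer ({w} : Set G) = zpowers w := by
  have hle : zpowers w ≤ centralizer ({w} : Set G) := by
    rw [zpowers_le, mem_centralizer_iff]
    intro s hs
    rw [Set.mem_singleton_iff] at hs
    rw [hs]
  exact (Subgroup.eq_of_le_of_card_ge hle (by
    rw [card_centralizer_of_orderOf_four h w hw, Nat.card_zpowers, hw])).symm

omit [Finite G] [IsSimpleGroup G] in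
/-- The centralizer of a cyclic subgroup is the centralizer of its generator. -/
theorem centralizer_zpowers_eq (w : G) :
    centralizer ((zpowers w : Subgroup G) : Set G) = centralizer ({w} : Set G) := by
  apply le_antisymm
  · intro g hg
    rw [mem_centralizer_iff] at hg ⊢
    intro s hs
    rw [Set.mem_singleton_iff] at hs
    rw [hs]
    exact hg w (mem_zpowers w)
  · intro g hg
    rw [mem_centralizer_iff] at hg ⊢
    intro s hs
    obtain ⟨n, rfl⟩ := mem_zpowers_iff.mp hs
    have h1 : Commute w g := hg w rfl
    exact (h1.zpow_left n).eq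

/-- A Sylow 2-subgroup containing an element `w` of order 4 is the normalizer of `⟨w⟩`. -/
theorem normalizer_zpowers_eq (h : Nat.card G = 168) (w : G) (hw : orderOf w = 4)
    (T : Sylow 2 G) (hwT : w ∈ (T : Subgroup G)) :
    normalizer ((zpowers w : Subgroup G) : Set G) = (T : Subgroup G) := by
  haveI : Fact (Nat.Prime 2) := ⟨Nat.prime_two⟩
  have hT := card_sylow2 h T
  have hVT : zpowers w ≤ (T : Subgroup G) := (zpowers_le).mpr hwT
  have hVcard : Nat.card ↥(zpowers w) = 4 := by rw [Nat.card_zpowers, hw]
  -- index 2 in T, hence normal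
  have hidx : ((zpowers w).subgroupOf (T : Subgroup G)).index = 2 := by
    have h1 := Subgroup.card_mul_index ((zpowers w).subgroupOf (T : Subgroup G))
    rw [card_subgroupOf_of_le hVT, hVcard, hT] at h1
    omega
  have hnorm : ((zpowers w).subgroupOf (T : Subgroup G)).Normal :=
    Subgroup.normal_of_index_eq_two hidx
  have hTN : (T : Subgroup G) ≤ normalizer ((zpowers w : Subgroup G) : Set G) :=
    (normal_subgroupOf_iff_le_normalizer hVT).mp hnorm
  -- |N| divides 8
  have hr := relIndex_centralizer_normalizer_dvd (zpowers w)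
  haveI : IsCyclic ↥(zpowers w) := inferInstance
  rw [IsCyclic.card_mulAut, hVcard] at hr
  have htot : Nat.totient 4 = 2 := by decide
  rw [htot] at hr
  have h2 := card_inf_mul_relIndex (centralizer ((zpowers w : Subgroup G) : Set G))
    (normalizer ((zpowers w : Subgroup G) : Set G))
  rw [inf_eq_left.mpr (centralizer_le_normalizer _), centralizer_zpowers_eq,
    card_centralizer_of_orderOf_four h w hw] at h2
  have hle : Nat.card ↥(normalizer ((zpowers w : Subgroup G) : Set G)) ≤ 8 := by
    have h5 : (centralizer ((zpowers w : Subgroup G) : Set G)).relIndex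
        (normalizer ((zpowers w : Subgroup G) : Set G)) ≤ 2 := Nat.le_of_dvd (by norm_num) hr
    rw [centralizer_zpowers_eq] at h5
    nlinarith
  exact (Subgroup.eq_of_le_of_card_ge hTN (by rw [hT]; exact hle)).symm

/-- An element of order 4 lies in a unique Sylow 2-subgroup. -/
theorem sylow_unique_of_mem (h : Nat.card G = 168) (w : G) (hw : orderOf w = 4)
    (T T' : Sylow 2 G) (hT : w ∈ (T : Subgroup G)) (hT' : w ∈ (T' : Subgroup G)) : T = T' :=
  Sylow.ext ((normalizer_zpowers_eq h w hw T hT).symm.trans (normalizer_zpowers_eq h w hw T' hT'))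

end Cfsg.Agent.Lib.Helper17.O168
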