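import Mathlib
import Cfsg.Agent.Lib.Helper17.Order168Sylow
import Cfsg.Agent.Lib.Helper17.SylowConj
import Cfsg.Agent.Lib.Helper17.InvolTools
import Cfsg.Agent.S1012

set_option autoImplicit false

namespace Cfsg.Agent.Lib.Helper17.O168

open Subgroup MulAction Cfsg.Agent.Lib.Helper17

variable {G : Type*} [Group G] [Finite G] [IsSimpleGroup G]

/-- In a Sylow 2-subgroup `T` with an element `v` of order four, every element of `T` outside
`⟨v⟩` is an involution inverting `v`. -/
theorem outside_props (h : Nat.card G = 168) (T : Sylow 2 G) (v : G)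
    (hvT : v ∈ (T : Subgroup G)) (hvo : orderOf v = 4) (s : G) (hsT : s ∈ (T : Subgroup G))
    (hsV : s ∉ zpowers v) : s * s = 1 ∧ s * v * s⁻¹ = v⁻¹ := by
  classical
  haveI : Fact (Nat.Prime 2) := ⟨Nat.prime_two⟩
  have hT := card_sylow2 h T
  have hNV := normalizer_zpowers_eq h v hvo T hvT
  have hs1 : s ≠ 1 := fun h1 => hsV (h1 ▸ one_mem _)
  have hsd : orderOf s ∣ 8 := by
    have := orderOf_dvd_natCard (⟨s, hsT⟩ : ↥(T : Subgroup G))
    rwa [Subgroup.orderOf_mk, hT] at this
  have hso : orderOf s = 2 := by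
    rcases orderOf_mem h s with h' | h' | h' | h' | h'
    · exact absurd (orderOf_eq_one_iff.mp h') hs1
    · exact h'
    · rw [h'] at hsd; norm_num at hsd
    · exfalso
      have hconj : IsConj v s := (counts h).2.2.2 v s hvo h'
      obtain ⟨g, hg⟩ := isConj_iff.mp hconj
      have hsT' : s ∈ ((g • T : Sylow 2 G) : Subgroup G) := by
        rw [mem_smul_sylow_iff, ← hg]
        have : g⁻¹ * (g * v * g⁻¹) * g = v := by group
        rw [this]
        exact hvT
      have heq := sylow_unique_of_mem h s h' T (g • T) hsT hsT'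
      have hgN : g ∈ normalizer ((T : Subgroup G) : Set G) :=
        (Sylow.smul_eq_iff_mem_normalizer (g := g) (P := T)).mp heq.symm
      have hgNV : g ∈ normalizer ((zpowers v : Subgroup G) : Set G) := by
        rw [hNV, ← normalizer_sylow2 h T]
        exact hgN
      apply hsV
      rw [← hg]
      exact (mem_normalizer_iff.mp hgNV v).mp (mem_zpowers v)
    · rw [h'] at hsd; norm_num at hsd
  have hss : s * s = 1 := by
    have := pow_orderOf_eq_one s
    rwa [hso, pow_two] at this
  refine ⟨hss, ?_⟩
  have hsNV : s ∈ normalizer ((zpowers v : Subgroup G) : Set G) := by rw [hNV]; exact hsT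
  have hu : s * v * s⁻¹ ∈ zpowers v := (mem_normalizer_iff.mp hsNV v).mp (mem_zpowers v)
  have huo : orderOf (s * v * s⁻¹) = 4 := by
    rw [orderOf_eq_of_isConj (isConj_iff.mpr ⟨s, rfl⟩), hvo]
  have hfin : IsOfFinOrder v := isOfFinOrder_of_finite v
  rw [hfin.mem_zpowers_iff_mem_range_orderOf, hvo] at hu
  simp only [Finset.mem_image, Finset.mem_range] at hu
  obtain ⟨k, hk, hku⟩ := hu
  interval_cases k
  · rw [pow_zero] at hku
    rw [← hku, orderOf_one] at huo
    omega
  · exfalso
    rw [pow_one] at hku
    apply hsV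
    rw [← centralizer_eq_zpowers h v hvo, mem_centralizer_iff]
    intro t ht
    rw [Set.mem_singleton_iff] at ht
    rw [ht]
    calc v * s = s * v * s⁻¹ * s := by rw [← hku]
      _ = s * v := by group
  · exfalso
    rw [← hku, orderOf_pow' v (by norm_num), hvo] at huo
    norm_num at huo
  · rw [← hku]
    apply eq_inv_of_mul_eq_one_left
    rw [← pow_succ]
    have := pow_orderOf_eq_one v
    rwa [hvo] at this

/-- The centralizer of an involution has order 8. -/
theorem card_centralizer_involution (h : Nat.card G = 168) (t : G) (ht : orderOf t = 2) :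
    Nat.card ↥(centralizer ({t} : Set G)) = 8 := by
  have hc := counts h
  have hcl : Nat.card {s : G // IsConj t s} = 21 := by
    rw [← hc.1]
    apply Nat.card_congr
    refine Equiv.subtypeEquivRight ?_
    intro s
    constructor
    · intro hs
      rw [orderOf_eq_of_isConj hs, ht]
    · intro hs
      exact hc.2.2.1 t s ht hs
  have := card_isConj_mul_card_centralizer t
  rw [hcl, h] at this
  omega

/-- Involutions with the same centralizer are equal. -/
theorem involution_eq_of_centralizer_eq (h : Nat.card G = 168) (a b : G) (ha : orderOf a = 2)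
    (hb : orderOf b = 2) (hab : centralizer ({a} : Set G) = centralizer ({b} : Set G)) : a = b := by
  haveI : Fact (Nat.Prime 2) := ⟨Nat.prime_two⟩
  have hfac : 2 ^ (Nat.card G).factorization 2 = 8 := by
    obtain ⟨T₀⟩ : Nonempty (Sylow 2 G) := inferInstance
    rw [← T₀.card_eq_multiplicity, card_sylow2 h T₀]
  let f : {g : G // orderOf g = 2} → Sylow 2 G := fun t =>
    Sylow.ofCard (centralizer ({t.1} : Set G)) (by
      rw [card_centralizer_involution h t.1 t.2, hfac])
  have hsurj : Function.Surjective f := by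
    intro T
    obtain ⟨z, -, hzo, -, hzC⟩ := exists_central_involution h T
    refine ⟨⟨z, hzo⟩, ?_⟩
    apply Sylow.ext
    exact hzC
  have hcard : Nat.card {g : G // orderOf g = 2} = Nat.card (Sylow 2 G) := by
    rw [(counts h).1, (Cfsg.Agent.S1003.result h).1]
  have hbij := (Nat.bijective_iff_surjective_and_card f).mpr ⟨hsurj, hcard⟩
  have heq : f ⟨a, ha⟩ = f ⟨b, hb⟩ := by
    apply Sylow.ext
    exact hab
  have := hbij.1 heq
  exact congrArg Subtype.val this

omit [Finite G] [IsSimpleGroup G] in
theorem klein_mul_self (U : Subgroup G) [hU : IsKleinFour ↥U] (x : G) (hx : x ∈ U) :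
    x * x = 1 := by
  have := IsKleinFour.mul_self (⟨x, hx⟩ : ↥U)
  exact congrArg Subtype.val this

omit [Finite G] [IsSimpleGroup G] in
theorem klein_comm (U : Subgroup G) [hU : IsKleinFour ↥U] (x y : G) (hx : x ∈ U) (hy : y ∈ U) :
    x * y = y * x := by
  have := (IsKleinFour.isMulCommutative (G := ↥U)).is_comm.comm ⟨x, hx⟩ ⟨y, hy⟩
  exact congrArg Subtype.val this

omit [Finite G] [IsSimpleGroup G] in
theorem klein_orderOf (U : Subgroup G) [hU : IsKleinFour ↥U] (x : G) (hx : x ∈ U) (hx1 : x ≠ 1) :
    orderOf x = 2 := by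
  apply orderOf_eq_prime
  · rw [pow_two]; exact klein_mul_self U x hx
  · exact hx1

omit [Finite G] [IsSimpleGroup G] in
/-- A subgroup of order four all of whose elements square to one is a Klein four-group. -/
theorem isKleinFour_of_card_of_sq (U : Subgroup G) (hU : Nat.card ↥U = 4)
    (hsq : ∀ x ∈ U, x * x = 1) : IsKleinFour ↥U := by
  haveI : Nontrivial ↥U := by
    haveI : Finite ↥U := Nat.finite_of_card_ne_zero (by rw [hU]; norm_num)
    rw [← Finite.one_lt_card_iff_nontrivial, hU]; norm_num
  refine ⟨hU, ?_⟩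
  rw [Monoid.exponent_eq_prime_iff Nat.prime_two]
  intro g hg
  apply orderOf_eq_prime
  · rw [pow_two]
    apply Subtype.ext
    exact hsq g.1 g.2
  · exact hg

/-- The normalizer of a Klein four-subgroup has order 24. -/
theorem card_normalizer_klein (h : Nat.card G = 168) (U : Subgroup G) [hU : IsKleinFour ↥U] :
    Nat.card ↥(normalizer (U : Set G)) = 24 := by
  haveI : Fact (Nat.Prime 2) := ⟨Nat.prime_two⟩
  have hU4 : Nat.card ↥U = 4 := IsKleinFour.card_four
  -- two distinct involutions
  obtain ⟨a, haU, ha1⟩ : ∃ a ∈ U, a ≠ 1 := by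
    by_contra hcon
    push Not at hcon
    have : U = ⊥ := by
      rw [Subgroup.eq_bot_iff_forall]
      exact hcon
    rw [this, Subgroup.card_bot] at hU4
    omega
  have hao := klein_orderOf U a haU ha1
  obtain ⟨b, hbU, hbA⟩ : ∃ b ∈ U, b ∉ zpowers a := by
    by_contra hcon
    push Not at hcon
    have hle : U ≤ zpowers a := hcon
    have := Subgroup.card_le_of_le hle
    rw [Nat.card_zpowers, hao, hU4] at this
    omega
  have hb1 : b ≠ 1 := fun h1 => hbA (h1 ▸ one_mem _)
  have hba : a ≠ b := fun h1 => hbA (h1 ▸ mem_zpowers a)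
  have hbo := klein_orderOf U b hbU hb1
  have hle : ∀ t ∈ U, orderOf t = 2 → centralizer ({t} : Set G) ≤ normalizer (U : Set G) := by
    intro t htU hto
    have hUC : U ≤ centralizer ({t} : Set G) := by
      intro x hx
      rw [mem_centralizer_iff]
      intro y hy
      rw [Set.mem_singleton_iff] at hy
      rw [hy]
      exact klein_comm U t x htU hx
    rw [← normal_subgroupOf_iff_le_normalizer hUC]
    apply normal_of_index_eq_two
    have h1 := card_inf_mul_relIndex U (centralizer ({t} : Set G))
    rw [inf_of_le_left hUC, hU4, card_centralizer_involution h t hto] at h1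
    show U.relIndex (centralizer ({t} : Set G)) = 2
    omega
  have hCa := hle a haU hao
  have hCb := hle b hbU hbo
  have hca8 := card_centralizer_involution h a hao
  have hcb8 := card_centralizer_involution h b hbo
  have hd1 : 8 ∣ Nat.card ↥(normalizer (U : Set G)) := by
    rw [← hca8]; exact Subgroup.card_dvd_of_le hCa
  have hd2 : Nat.card ↥(normalizer (U : Set G)) ∣ 168 := by
    rw [← h]; exact Subgroup.card_subgroup_dvd_card _
  have hne8 : Nat.card ↥(normalizer (U : Set G)) ≠ 8 := by
    intro h8
    apply hba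
    apply involution_eq_of_centralizer_eq h a b hao hbo
    rw [Subgroup.eq_of_le_of_card_ge hCa (by rw [h8, hca8]),
      Subgroup.eq_of_le_of_card_ge hCb (by rw [h8, hcb8])]
  have hnetop : normalizer (U : Set G) ≠ ⊤ := by
    intro htop
    have hn : U.Normal := normalizer_eq_top_iff.mp htop
    rcases hn.eq_bot_or_eq_top with h' | h'
    · rw [h', Subgroup.card_bot] at hU4; omega
    · rw [h', Subgroup.card_top, h] at hU4; omega
  have hne168 : Nat.card ↥(normalizer (U : Set G)) ≠ 168 := by
    intro h168
    exact hnetop (Subgroup.eq_top_of_card_eq _ (by rw [h168, h]))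
  have hne56 : Nat.card ↥(normalizer (U : Set G)) ≠ 56 := by
    intro h56
    have h1 := card_dvd_factorial_of_simple (normalizer (U : Set G)) hnetop
    have h2 := Subgroup.card_mul_index (normalizer (U : Set G))
    rw [h56, h] at h2
    have h3 : (normalizer (U : Set G)).index = 3 := by omega
    rw [h3, h] at h1
    norm_num [Nat.factorial] at h1
  obtain ⟨c, hc⟩ := hd1
  obtain ⟨d, hd⟩ := hd2
  have hcd : c * d = 21 := by rw [hc, mul_assoc] at hd; omega
  have hc21 : c ∣ 21 := Dvd.intro _ hcd
  have hcle : c ≤ 21 := Nat.le_of_dvd (by norm_num) hc21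
  interval_cases c <;> omega

/-- The normalizer of a Klein four-subgroup is isomorphic to `S₄`. -/
theorem normalizer_klein_equiv (h : Nat.card G = 168) (U : Subgroup G) [hU : IsKleinFour ↥U] :
    Nonempty (↥(normalizer (U : Set G)) ≃* Equiv.Perm (Fin 4)) := by
  apply Cfsg.Agent.S1012.result (card_normalizer_klein h U)
  intro g hg
  rw [← Subgroup.orderOf_coe] at hg
  rcases orderOf_mem h (g : G) with h' | h' | h' | h' | h' <;> omega


/-- For `a ∈ T` outside `⟨v⟩`, the subgroup `T ⊓ C(a)` is a Klein four-group. -/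
theorem isKleinFour_inf_centralizer (h : Nat.card G = 168) (T : Sylow 2 G) (v : G)
    (hvT : v ∈ (T : Subgroup G)) (hvo : orderOf v = 4) (a : G) (haT : a ∈ (T : Subgroup G))
    (haV : a ∉ zpowers v) :
    IsKleinFour ↥((T : Subgroup G) ⊓ centralizer ({a} : Set G) : Subgroup G) := by
  classical
  have hT := card_sylow2 h T
  obtain ⟨haa, hav⟩ := outside_props h T v hvT hvo a haT haV
  have ha1 : a ≠ 1 := fun h1 => haV (h1 ▸ one_mem _)
  have hv4 : v ^ 4 = 1 := by
    have := pow_orderOf_eq_one v
    rwa [hvo] at this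
  have hv2 : v * v ≠ 1 := by
    intro h2
    have := orderOf_dvd_of_pow_eq_one (show v ^ 2 = 1 by rw [pow_two]; exact h2)
    rw [hvo] at this
    norm_num at this
  -- v does not commute with a
  have hvnc : v ∉ centralizer ({a} : Set G) := by
    intro hmem
    have h1 := mem_centralizer_iff.mp hmem a (Set.mem_singleton a)
    -- a * v = v * a
    have h2 : a * v * a⁻¹ = v := by rw [h1]; group
    rw [hav] at h2
    apply hv2
    calc v * v = v * v⁻¹ := by rw [h2]
      _ = 1 := mul_inv_cancel v
  set U : Subgroup G := (T : Subgroup G) ⊓ centralizer ({a} : Set G) with hU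
  have hUT : U ≤ (T : Subgroup G) := inf_le_left
  have haU : a ∈ U := by
    refine Subgroup.mem_inf.mpr ⟨haT, ?_⟩
    rw [mem_centralizer_iff]
    intro y hy
    rw [Set.mem_singleton_iff] at hy
    rw [hy]
  have hvvU : v * v ∈ U := by
    refine Subgroup.mem_inf.mpr ⟨Subgroup.mul_mem _ hvT hvT, ?_⟩
    rw [mem_centralizer_iff]
    intro y hy
    rw [Set.mem_singleton_iff] at hy
    rw [hy]
    -- a * (v * v) = (v * v) * a
    have h3 : a * v = v⁻¹ * a := by
      calc a * v = a * v * a⁻¹ * a := by group
        _ = v⁻¹ * a := by rw [hav]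
    have h4 : v⁻¹ * v⁻¹ = v * v := by
      have : v * v * (v * v) = 1 := by
        rw [← hv4]; simp only [pow_succ, pow_zero, one_mul, mul_assoc]
      calc v⁻¹ * v⁻¹ = v⁻¹ * v⁻¹ * (v * v * (v * v)) := by rw [this, mul_one]
        _ = v * v := by simp only [mul_assoc, inv_mul_cancel_left]
    calc a * (v * v) = a * v * v := by group
      _ = v⁻¹ * a * v := by rw [h3]
      _ = v⁻¹ * (a * v) := by group
      _ = v⁻¹ * (v⁻¹ * a) := by rw [h3]
      _ = v⁻¹ * v⁻¹ * a := by group
      _ = v * v * a := by rw [h4]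
  -- cardinality
  have hd8 : Nat.card ↥U ∣ 8 := by rw [← hT]; exact Subgroup.card_dvd_of_le hUT
  have hne8 : Nat.card ↥U ≠ 8 := by
    intro h8
    have : U = (T : Subgroup G) := Subgroup.eq_of_le_of_card_ge hUT (by rw [h8, hT])
    apply hvnc
    have hvU : v ∈ U := by rw [this]; exact hvT
    exact (Subgroup.mem_inf.mp hvU).2
  have hao : orderOf a = 2 := orderOf_eq_prime (by rw [pow_two]; exact haa) ha1
  have hgt2 : 2 < Nat.card ↥U := by
    have hle : zpowers a ≤ U := (zpowers_le).mpr haU
    have hc2 : Nat.card ↥(zpowers a) = 2 := by rw [Nat.card_zpowers, hao]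
    have h1 := Subgroup.card_le_of_le hle
    rcases Nat.lt_or_ge 2 (Nat.card ↥U) with h' | h'
    · exact h'
    · exfalso
      have heq : zpowers a = U := Subgroup.eq_of_le_of_card_ge hle (by rw [hc2]; exact h')
      have hvv : v * v ∈ zpowers a := by rw [heq]; exact hvvU
      have hfin : IsOfFinOrder a := isOfFinOrder_of_finite a
      rw [hfin.mem_zpowers_iff_mem_range_orderOf, hao] at hvv
      simp only [Finset.mem_image, Finset.mem_range] at hvv
      obtain ⟨k, hk, hkv⟩ := hvv
      interval_cases k
      · rw [pow_zero] at hkv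
        exact hv2 hkv.symm
      · rw [pow_one] at hkv
        apply haV
        rw [hkv, ← pow_two]
        exact pow_mem (mem_zpowers v) 2
  have hU4 : Nat.card ↥U = 4 := by
    have hle8 := Nat.le_of_dvd (by norm_num) hd8
    have : Nat.card ↥U ∈ Nat.divisors 8 := Nat.mem_divisors.mpr ⟨hd8, by norm_num⟩
    have hdiv : Nat.divisors 8 = {1, 2, 4, 8} := by decide
    rw [hdiv] at this
    simp only [Finset.mem_insert, Finset.mem_singleton] at this
    omega
  apply isKleinFour_of_card_of_sq U hU4
  intro x hx
  by_cases hxV : x ∈ zpowers v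
  · have hfin : IsOfFinOrder v := isOfFinOrder_of_finite v
    rw [hfin.mem_zpowers_iff_mem_range_orderOf, hvo] at hxV
    simp only [Finset.mem_image, Finset.mem_range] at hxV
    obtain ⟨k, hk, hkx⟩ := hxV
    interval_cases k
    · rw [pow_zero] at hkx
      rw [← hkx, mul_one]
    · exfalso
      rw [pow_one] at hkx
      apply hvnc
      rw [hkx]
      exact (Subgroup.mem_inf.mp hx).2
    · rw [← hkx]
      calc v ^ 2 * v ^ 2 = v ^ 4 := by rw [← pow_add]
        _ = 1 := hv4
    · exfalso
      apply hvnc
      have h3 : v ^ 3 ∈ centralizer ({a} : Set G) := by rw [hkx]; exact (Subgroup.mem_inf.mp hx).2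
      have h4 : v = (v ^ 3)⁻¹ := by
        apply eq_inv_of_mul_eq_one_left
        calc v * v ^ 3 = v ^ 4 := by rw [← pow_succ']
          _ = 1 := hv4
      rw [h4]
      exact Subgroup.inv_mem _ h3
  · exact (outside_props h T v hvT hvo x (hUT hx) hxV).1

/-- A Klein four-subgroup of `T` containing `a ∉ ⟨v⟩` equals `T ⊓ C(a)`. -/
theorem klein_eq_inf_centralizer (h : Nat.card G = 168) (T : Sylow 2 G) (v : G)
    (hvT : v ∈ (T : Subgroup G)) (hvo : orderOf v = 4) (U : Subgroup G) [hU : IsKleinFour ↥U]
    (hUT : U ≤ (T : Subgroup G)) (a : G) (haU : a ∈ U) (haV : a ∉ zpowers v) :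
    U = (T : Subgroup G) ⊓ centralizer ({a} : Set G) := by
  have hK := isKleinFour_inf_centralizer h T v hvT hvo a (hUT haU) haV
  apply Subgroup.eq_of_le_of_card_ge
  · intro x hx
    refine Subgroup.mem_inf.mpr ⟨hUT hx, ?_⟩
    rw [mem_centralizer_iff]
    intro y hy
    rw [Set.mem_singleton_iff] at hy
    rw [hy]
    exact klein_comm U a x haU hx
  · rw [hK.card_four, hU.card_four]

omit [IsSimpleGroup G] in
/-- A Klein four-subgroup of `T` has an element outside `⟨v⟩`. -/
theorem klein_exists_outside (v : G) (hvo : orderOf v = 4) (U : Subgroup G)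
    [hU : IsKleinFour ↥U] : ∃ a ∈ U, a ∉ zpowers v := by
  by_contra hcon
  push Not at hcon
  have hle : U ≤ zpowers v := hcon
  have hc4 : Nat.card ↥(zpowers v) = 4 := by rw [Nat.card_zpowers, hvo]
  have heq : U = zpowers v := Subgroup.eq_of_le_of_card_ge hle (by rw [hc4, hU.card_four])
  have hvU : v ∈ U := by rw [heq]; exact mem_zpowers v
  have := klein_orderOf U v hvU (by
    intro h1
    rw [h1, orderOf_one] at hvo
    omega)
  omega

end Cfsg.Agent.Lib.Helper17.O168
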