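import Mathlib
import Cfsg.Agent.Lib.Helper17.Order168Klein
import Cfsg.Agent.Lib.Helper17.SylowInter
import Cfsg.Agent.S1007

set_option autoImplicit false

namespace Cfsg.Agent.Lib.Helper17.O168

open Subgroup MulAction Cfsg.Agent.Lib.Helper17

variable {G : Type*} [Group G] [Finite G] [IsSimpleGroup G]

omit [Finite G] [IsSimpleGroup G] in
theorem not_isCoatom_of_lt (M H : Subgroup G) (hMH : M < H) (hH : H ≠ ⊤) : ¬ IsCoatom M :=
  fun hM => hH (hM.2 H hMH)

omit [IsSimpleGroup G] in
theorem lt_of_le_of_card_lt (M H : Subgroup G) (hMH : M ≤ H) (hc : Nat.card ↥M < Nat.card ↥H) :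
    M < H := by
  apply lt_of_le_of_ne hMH
  intro heq
  rw [heq] at hc
  exact lt_irrefl _ hc

/-- A proper subgroup has order at most 24. -/
theorem card_le_of_ne_top (h : Nat.card G = 168) (M : Subgroup G) (hM : M ≠ ⊤) :
    Nat.card ↥M ≤ 24 := by
  have h1 := card_dvd_factorial_of_simple M hM
  have h2 : 7 ∣ (M.index).factorial := dvd_trans (by rw [h]; norm_num) h1
  have h3 : 7 ≤ M.index := (Nat.Prime.dvd_factorial (by norm_num)).mp h2
  have h4 := M.card_mul_index
  rw [h] at h4
  nlinarith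

theorem card_mem_of_ne_top (h : Nat.card G = 168) (M : Subgroup G) (hM : M ≠ ⊤) :
    Nat.card ↥M ∈ ({1, 2, 3, 4, 6, 7, 8, 12, 14, 21, 24} : Finset ℕ) := by
  have h1 := card_le_of_ne_top h M hM
  have h2 : Nat.card ↥M ∣ 168 := h ▸ Subgroup.card_subgroup_dvd_card M
  have h3 : 0 < Nat.card ↥M := Nat.card_pos
  generalize Nat.card ↥M = n at h1 h2 h3
  interval_cases n <;> first | decide | (exfalso; revert h2; decide)

omit [IsSimpleGroup G] in
/-- Membership in the normalizer of a conjugate Sylow subgroup. -/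
theorem mem_normalizer_smul_sylow {p : ℕ} [Fact p.Prime] (g x : G) (Q : Sylow p G) :
    x ∈ normalizer (((g • Q : Sylow p G) : Subgroup G) : Set G) ↔
      g⁻¹ * x * g ∈ normalizer ((Q : Subgroup G) : Set G) := by
  constructor
  · intro hx
    have hx' : x • (g • Q) = g • Q := Sylow.smul_eq_iff_mem_normalizer.mpr hx
    apply Sylow.smul_eq_iff_mem_normalizer.mp
    rw [mul_smul, mul_smul, hx', ← mul_smul, inv_mul_cancel, one_smul]
  · intro hx
    have hx' : (g⁻¹ * x * g) • Q = Q := Sylow.smul_eq_iff_mem_normalizer.mpr hx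
    apply Sylow.smul_eq_iff_mem_normalizer.mp
    have : x • (g • Q) = g • ((g⁻¹ * x * g) • Q) := by
      rw [← mul_smul, ← mul_smul]
      congr 1
      group
    rw [this, hx']

omit [Finite G] [IsSimpleGroup G] in
/-- Membership in a conjugate subgroup. -/
theorem mem_map_conj (g x : G) (U : Subgroup G) :
    x ∈ U.map (MulAut.conj g).toMonoidHom ↔ g⁻¹ * x * g ∈ U := by
  rw [Subgroup.mem_map_equiv, MulAut.conj_symm_apply]

omit [Finite G] [IsSimpleGroup G] in
/-- Membership in the normalizer of a conjugate subgroup. -/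
theorem mem_normalizer_map_conj (g x : G) (U : Subgroup G) :
    x ∈ normalizer ((U.map (MulAut.conj g).toMonoidHom : Subgroup G) : Set G) ↔
      g⁻¹ * x * g ∈ normalizer (U : Set G) := by
  rw [← Subgroup.map_equiv_normalizer_eq U (MulAut.conj g), mem_map_conj]

omit [Finite G] [IsSimpleGroup G] in
/-- A conjugate of a Klein four-group is a Klein four-group. -/
theorem isKleinFour_map_conj (g : G) (U : Subgroup G) [hU : IsKleinFour ↥U] :
    IsKleinFour ↥(U.map (MulAut.conj g).toMonoidHom) := by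
  apply isKleinFour_of_card_of_sq
  · rw [Subgroup.card_map_of_injective (MulAut.conj g).injective]
    exact hU.card_four
  · intro x hx
    rw [mem_map_conj] at hx
    have := klein_mul_self U _ hx
    calc x * x = g * ((g⁻¹ * x * g) * (g⁻¹ * x * g)) * g⁻¹ := by group
      _ = 1 := by rw [this]; group

/-- There is a Klein four-subgroup. -/
theorem exists_klein (h : Nat.card G = 168) (T : Sylow 2 G) :
    ∃ U : Subgroup G, U ≤ (T : Subgroup G) ∧ IsKleinFour ↥U := by
  have h2 := Cfsg.Agent.S1007.card_klein_in_sylow h T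
  have : Nonempty {U : Subgroup G // U ≤ (T : Subgroup G) ∧ IsKleinFour ↥U} := by
    by_contra hne
    rw [not_nonempty_iff] at hne
    rw [Nat.card_of_isEmpty] at h2
    omega
  obtain ⟨⟨U, hU⟩⟩ := this
  exact ⟨U, hU⟩

theorem fac3 (h : Nat.card G = 168) : 3 ^ (Nat.card G).factorization 3 = 3 := by
  haveI : Fact (Nat.Prime 3) := ⟨by norm_num⟩
  obtain ⟨P₀⟩ : Nonempty (Sylow 3 G) := inferInstance
  rw [← P₀.card_eq_multiplicity, card_sylow3 h P₀]

theorem fac7 (h : Nat.card G = 168) : 7 ^ (Nat.card G).factorization 7 = 7 := by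
  haveI : Fact (Nat.Prime 7) := ⟨by norm_num⟩
  obtain ⟨P₀⟩ : Nonempty (Sylow 7 G) := inferInstance
  rw [← P₀.card_eq_multiplicity, card_sylow7 h P₀]

theorem fac2 (h : Nat.card G = 168) : 2 ^ (Nat.card G).factorization 2 = 8 := by
  haveI : Fact (Nat.Prime 2) := ⟨by norm_num⟩
  obtain ⟨P₀⟩ : Nonempty (Sylow 2 G) := inferInstance
  rw [← P₀.card_eq_multiplicity, card_sylow2 h P₀]

/-- A subgroup of order divisible by `3` contains a Sylow 3-subgroup of `G`. -/
theorem exists_sylow3_le (h : Nat.card G = 168) (M : Subgroup G) (hM : 3 ∣ Nat.card ↥M) :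
    ∃ P : Sylow 3 G, (P : Subgroup G) ≤ M := by
  haveI : Fact (Nat.Prime 3) := ⟨by norm_num⟩
  obtain ⟨y, hy⟩ := exists_prime_orderOf_dvd_card' (G := ↥M) 3 hM
  have hyo : orderOf (y : G) = 3 := by rw [Subgroup.orderOf_coe]; exact hy
  refine ⟨Sylow.ofCard (zpowers (y : G)) (by rw [Nat.card_zpowers, hyo, fac3 h]), ?_⟩
  show zpowers (y : G) ≤ M
  rw [zpowers_le]
  exact y.2

/-- A subgroup of order divisible by `7` contains a Sylow 7-subgroup of `G`. -/
theorem exists_sylow7_le (h : Nat.card G = 168) (M : Subgroup G) (hM : 7 ∣ Nat.card ↥M) :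
    ∃ P : Sylow 7 G, (P : Subgroup G) ≤ M := by
  haveI : Fact (Nat.Prime 7) := ⟨by norm_num⟩
  obtain ⟨y, hy⟩ := exists_prime_orderOf_dvd_card' (G := ↥M) 7 hM
  have hyo : orderOf (y : G) = 7 := by rw [Subgroup.orderOf_coe]; exact hy
  refine ⟨Sylow.ofCard (zpowers (y : G)) (by rw [Nat.card_zpowers, hyo, fac7 h]), ?_⟩
  show zpowers (y : G) ≤ M
  rw [zpowers_le]
  exact y.2

theorem card_normalizer_sylow3 (h : Nat.card G = 168) (P : Sylow 3 G) :
    Nat.card ↥(normalizer ((P : Subgroup G) : Set G)) = 6 := by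
  haveI : Fact (Nat.Prime 3) := ⟨by norm_num⟩
  have hn := (Cfsg.Agent.S1003.result h).2.1
  have := card_normalizer_mul_card_sylow P
  rw [hn, h] at this
  omega

theorem card_normalizer_sylow7 (h : Nat.card G = 168) (P : Sylow 7 G) :
    Nat.card ↥(normalizer ((P : Subgroup G) : Set G)) = 21 := by
  haveI : Fact (Nat.Prime 7) := ⟨by norm_num⟩
  have hn := (Cfsg.Agent.S1003.result h).2.2
  have := card_normalizer_mul_card_sylow P
  rw [hn, h] at this
  omega

omit [IsSimpleGroup G] in
/-- Sylow counting inside a subgroup `M ≥ P`. -/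
theorem exists_card_inf_normalizer {p : ℕ} [Fact p.Prime] (P : Sylow p G) (M : Subgroup G)
    (hPM : (P : Subgroup G) ≤ M) :
    ∃ k : ℕ, k % p = 1 % p ∧
      Nat.card ↥(normalizer ((P : Subgroup G) : Set G) ⊓ M : Subgroup G) * k = Nat.card ↥M ∧
      Nat.card ↥(P : Subgroup G) ∣
        Nat.card ↥(normalizer ((P : Subgroup G) : Set G) ⊓ M : Subgroup G) :=
  ⟨_, relIndex_normalizer_modEq_one P M hPM, card_inf_mul_relIndex _ M,
    Subgroup.card_dvd_of_le (le_inf le_normalizer hPM)⟩


/-- The normalizer of a Sylow 3-subgroup lies in the normalizer of a Klein four-subgroup. -/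
theorem normalizer_sylow3_le_klein (h : Nat.card G = 168) (P : Sylow 3 G) :
    ∃ U : Subgroup G, IsKleinFour ↥U ∧
      normalizer ((P : Subgroup G) : Set G) ≤ normalizer (U : Set G) := by
  haveI : Fact (Nat.Prime 3) := ⟨by norm_num⟩
  haveI : Fact (Nat.Prime 2) := ⟨by norm_num⟩
  obtain ⟨T₀⟩ : Nonempty (Sylow 2 G) := inferInstance
  obtain ⟨U₀, -, hU₀⟩ := exists_klein h T₀
  haveI := hU₀
  have hN₀ := card_normalizer_klein h U₀
  obtain ⟨Q, hQN⟩ := exists_sylow3_le h (normalizer (U₀ : Set G)) (by rw [hN₀]; norm_num)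
  obtain ⟨k, hk1, hk2, hk3⟩ := exists_card_inf_normalizer Q (normalizer (U₀ : Set G)) hQN
  rw [hN₀] at hk2
  rw [card_sylow3 h Q] at hk3
  have hd6 : Nat.card ↥(normalizer ((Q : Subgroup G) : Set G) ⊓ normalizer (U₀ : Set G) :
      Subgroup G) ∣ 6 := by
    rw [← card_normalizer_sylow3 h Q]
    exact Subgroup.card_dvd_of_le inf_le_left
  have hc6 : Nat.card ↥(normalizer ((Q : Subgroup G) : Set G) ⊓ normalizer (U₀ : Set G) :
      Subgroup G) = 6 := by
    obtain ⟨c, hc⟩ := hk3
    rw [hc] at hd6 hk2 ⊢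
    have hc2 : c ∣ 2 := Nat.dvd_of_mul_dvd_mul_left (by norm_num : 0 < 3) hd6
    have hcle : c ≤ 2 := Nat.le_of_dvd (by norm_num) hc2
    interval_cases c
    · omega
    · -- c = 1: k = 8
      have : k = 8 := by omega
      rw [this] at hk1
      norm_num at hk1
    · rfl
  have hQle : normalizer ((Q : Subgroup G) : Set G) ≤ normalizer (U₀ : Set G) := by
    have : normalizer ((Q : Subgroup G) : Set G) ⊓ normalizer (U₀ : Set G) =
        normalizer ((Q : Subgroup G) : Set G) :=
      Subgroup.eq_of_le_of_card_ge inf_le_left (by rw [hc6, card_normalizer_sylow3 h Q])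
    rw [← this]
    exact inf_le_right
  obtain ⟨g, rfl⟩ := MulAction.exists_smul_eq G Q P
  refine ⟨U₀.map (MulAut.conj g).toMonoidHom, isKleinFour_map_conj g U₀, ?_⟩
  intro x hx
  rw [mem_normalizer_smul_sylow] at hx
  rw [mem_normalizer_map_conj]
  exact hQle hx

/-- A subgroup of order 24 is the normalizer of a Klein four-subgroup. -/
theorem eq_normalizer_klein_of_card (h : Nat.card G = 168) (M : Subgroup G)
    (hM : Nat.card ↥M = 24) :
    ∃ D : Subgroup G, IsKleinFour ↥D ∧ M = normalizer (D : Set G) := by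
  haveI : Fact (Nat.Prime 2) := ⟨by norm_num⟩
  -- a Sylow 2-subgroup of G inside M
  obtain ⟨S'⟩ : Nonempty (Sylow 2 ↥M) := inferInstance
  have hS' : Nat.card ↥(S' : Subgroup ↥M) = 8 := by
    have hM' : Nat.card ↥M = 2 ^ 3 * 3 := by rw [hM]; norm_num
    simpa using card_sylow_of_card_eq S' hM' (by norm_num)
  set T : Sylow 2 G := Sylow.ofCard ((S' : Subgroup ↥M).map M.subtype) (by
    rw [Subgroup.card_subtype, hS', fac2 h]) with hTdef
  have hTM : (T : Subgroup G) ≤ M := by
    show (S' : Subgroup ↥M).map M.subtype ≤ M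
    exact Subgroup.map_subtype_le _
  have hT := card_sylow2 h T
  -- an element of M outside T
  obtain ⟨m, hmM, hmT⟩ : ∃ m ∈ M, m ∉ (T : Subgroup G) := by
    by_contra hcon
    push Not at hcon
    have hle : M ≤ (T : Subgroup G) := hcon
    have := Subgroup.card_le_of_le hle
    omega
  have hne : m • T ≠ T := by
    intro heq
    apply hmT
    rw [← normalizer_sylow2 h T]
    exact Sylow.smul_eq_iff_mem_normalizer.mp heq
  have hT'M : ((m • T : Sylow 2 G) : Subgroup G) ≤ M := by
    intro x hx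
    rw [mem_smul_sylow_iff] at hx
    have h1 := hTM hx
    have : x = m * (m⁻¹ * x * m) * m⁻¹ := by group
    rw [this]
    exact M.mul_mem (M.mul_mem hmM h1) (M.inv_mem hmM)
  set T' : Sylow 2 G := m • T with hT'def
  have hT' := card_sylow2 h T'
  set D : Subgroup G := (T : Subgroup G) ⊓ (T' : Subgroup G) with hD
  -- |D| = 4
  have hDT : D ≤ (T : Subgroup G) := inf_le_left
  have hDT' : D ≤ (T' : Subgroup G) := inf_le_right
  have hd8 : Nat.card ↥D ∣ 8 := by rw [← hT]; exact Subgroup.card_dvd_of_le hDT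
  have hne8 : Nat.card ↥D ≠ 8 := by
    intro h8
    have e1 : D = (T : Subgroup G) := Subgroup.eq_of_le_of_card_ge hDT (by rw [h8, hT])
    have e2 : D = (T' : Subgroup G) := Subgroup.eq_of_le_of_card_ge hDT' (by rw [h8, hT'])
    apply hne
    apply Sylow.ext
    rw [← e2, e1]
  have hge : 3 ≤ Nat.card ↥D := by
    -- |T : T ∩ T'| ≤ |M : T'| = 3
    have h1 := card_inf_mul_relIndex (T' : Subgroup G) (T : Subgroup G)
    have h2 := card_inf_mul_relIndex (T' : Subgroup G) M
    rw [inf_of_le_left hT'M, hT', hM] at h2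
    have h3 : (T' : Subgroup G).relIndex (T : Subgroup G) ≤ (T' : Subgroup G).relIndex M :=
      Subgroup.relIndex_le_of_le_right hTM (by
        intro h0
        rw [h0] at h2
        omega)
    rw [inf_comm, hT] at h1
    have h4 : (T' : Subgroup G).relIndex M = 3 := by omega
    rw [h4] at h3
    nlinarith
  have hD4 : Nat.card ↥D = 4 := by
    have : Nat.card ↥D ∈ Nat.divisors 8 := Nat.mem_divisors.mpr ⟨hd8, by norm_num⟩
    have hdiv : Nat.divisors 8 = {1, 2, 4, 8} := by decide
    rw [hdiv] at this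
    simp only [Finset.mem_insert, Finset.mem_singleton] at this
    omega
  -- D is a Klein four-group
  have hDK : IsKleinFour ↥D := by
    apply isKleinFour_of_card_of_sq D hD4
    intro x hx
    have hxd : orderOf x ∣ 4 := by
      have := orderOf_dvd_natCard (⟨x, hx⟩ : ↥D)
      rwa [Subgroup.orderOf_mk, hD4] at this
    have hxle : orderOf x ≤ 4 := Nat.le_of_dvd (by norm_num) hxd
    have hxpos : 0 < orderOf x := orderOf_pos x
    have hx4 : orderOf x ≠ 4 := by
      intro h4
      apply hne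
      exact (sylow_unique_of_mem h x h4 T T' (hDT hx) (hDT' hx)).symm
    have hx2 : orderOf x ∣ 2 := by
      interval_cases (orderOf x) <;> first | omega | (norm_num at hxd) | norm_num
    have := orderOf_dvd_iff_pow_eq_one.mp hx2
    rwa [pow_two] at this
  haveI := hDK
  refine ⟨D, hDK, ?_⟩
  -- T, T' ≤ N(D)
  have hTN : (T : Subgroup G) ≤ normalizer (D : Set G) :=
    Cfsg.Agent.S1007.sylow_le_normalizer_klein h T D hDT
  have hT'N : (T' : Subgroup G) ≤ normalizer (D : Set G) :=
    Cfsg.Agent.S1007.sylow_le_normalizer_klein h T' D hDT'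
  have hND := card_normalizer_klein h D
  have h24 := card_ge_of_two_sylow_le T T' hne.symm (M ⊓ normalizer (D : Set G))
    (le_inf hTM hTN) (le_inf hT'M hT'N)
  rw [hT] at h24
  have e1 : M ⊓ normalizer (D : Set G) = M :=
    Subgroup.eq_of_le_of_card_ge inf_le_left (by rw [hM]; omega)
  have e2 : M ⊓ normalizer (D : Set G) = normalizer (D : Set G) :=
    Subgroup.eq_of_le_of_card_ge inf_le_right (by rw [hND]; omega)
  rw [← e1, e2]


omit [IsSimpleGroup G] in
theorem sq_eq_one_of_card_four (U : Subgroup G) (hU : Nat.card ↥U = 4) (x : G) (hx : x ∈ U)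
    (hx4 : orderOf x ≠ 4) : x * x = 1 := by
  have hxd : orderOf x ∣ 4 := by
    have := orderOf_dvd_natCard (⟨x, hx⟩ : ↥U)
    rwa [Subgroup.orderOf_mk, hU] at this
  have hxle : orderOf x ≤ 4 := Nat.le_of_dvd (by norm_num) hxd
  have hxpos : 0 < orderOf x := orderOf_pos x
  have hx2 : orderOf x ∣ 2 := by
    interval_cases (orderOf x) <;> first | omega | (norm_num at hxd) | norm_num
  have := orderOf_dvd_iff_pow_eq_one.mp hx2
  rwa [pow_two] at this

/-- A subgroup of order 6 lies in the normalizer of a Klein four-subgroup. -/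
theorem le_normalizer_klein_of_card_six (h : Nat.card G = 168) (M : Subgroup G)
    (hM : Nat.card ↥M = 6) :
    ∃ U : Subgroup G, IsKleinFour ↥U ∧ M ≤ normalizer (U : Set G) := by
  haveI : Fact (Nat.Prime 3) := ⟨by norm_num⟩
  obtain ⟨P, hPM⟩ := exists_sylow3_le h M (by rw [hM]; norm_num)
  obtain ⟨k, hk1, hk2, hk3⟩ := exists_card_inf_normalizer P M hPM
  rw [hM] at hk2
  rw [card_sylow3 h P] at hk3
  have hc6 : Nat.card ↥(normalizer ((P : Subgroup G) : Set G) ⊓ M : Subgroup G) = 6 := by
    obtain ⟨c, hc⟩ := hk3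
    rw [hc] at hk2 ⊢
    have hck : c * k = 2 := by
      have : 3 * (c * k) = 6 := by rw [← mul_assoc]; exact hk2
      omega
    have hc2 : c ∣ 2 := Dvd.intro _ hck
    have hcle : c ≤ 2 := Nat.le_of_dvd (by norm_num) hc2
    interval_cases c
    · omega
    · have : k = 2 := by omega
      rw [this] at hk1
      norm_num at hk1
    · rfl
  have hMN : M ≤ normalizer ((P : Subgroup G) : Set G) := by
    have : normalizer ((P : Subgroup G) : Set G) ⊓ M = M :=
      Subgroup.eq_of_le_of_card_ge inf_le_right (by rw [hc6, hM])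
    rw [← this]
    exact inf_le_left
  obtain ⟨U, hU, hle⟩ := normalizer_sylow3_le_klein h P
  exact ⟨U, hU, hMN.trans hle⟩

/-- There is no subgroup of order 14. -/
theorem card_ne_fourteen (h : Nat.card G = 168) (M : Subgroup G) : Nat.card ↥M ≠ 14 := by
  intro hM
  haveI : Fact (Nat.Prime 7) := ⟨by norm_num⟩
  obtain ⟨P, hPM⟩ := exists_sylow7_le h M (by rw [hM]; norm_num)
  obtain ⟨k, hk1, hk2, hk3⟩ := exists_card_inf_normalizer P M hPM
  rw [hM] at hk2
  rw [card_sylow7 h P] at hk3
  have hd21 : Nat.card ↥(normalizer ((P : Subgroup G) : Set G) ⊓ M : Subgroup G) ∣ 21 := by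
    rw [← card_normalizer_sylow7 h P]
    exact Subgroup.card_dvd_of_le inf_le_left
  obtain ⟨c, hc⟩ := hk3
  rw [hc] at hk2 hd21
  have hck : c * k = 2 := by
    have : 7 * (c * k) = 14 := by rw [← mul_assoc]; exact hk2
    omega
  have hc3 : c ∣ 3 := Nat.dvd_of_mul_dvd_mul_left (by norm_num : 0 < 7) hd21
  have hc2 : c ∣ 2 := Dvd.intro _ hck
  have hcle : c ≤ 2 := Nat.le_of_dvd (by norm_num) hc2
  interval_cases c
  · omega
  · have : k = 2 := by omega
    rw [this] at hk1
    norm_num at hk1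
  · norm_num at hc3

/-- A subgroup of order 21 is the normalizer of a Sylow 7-subgroup. -/
theorem eq_normalizer_sylow7_of_card (h : Nat.card G = 168) (M : Subgroup G)
    (hM : Nat.card ↥M = 21) :
    ∃ P : Sylow 7 G, M = normalizer ((P : Subgroup G) : Set G) := by
  haveI : Fact (Nat.Prime 7) := ⟨by norm_num⟩
  obtain ⟨P, hPM⟩ := exists_sylow7_le h M (by rw [hM]; norm_num)
  obtain ⟨k, hk1, hk2, hk3⟩ := exists_card_inf_normalizer P M hPM
  rw [hM] at hk2
  rw [card_sylow7 h P] at hk3
  refine ⟨P, ?_⟩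
  have hc21 : Nat.card ↥(normalizer ((P : Subgroup G) : Set G) ⊓ M : Subgroup G) = 21 := by
    obtain ⟨c, hc⟩ := hk3
    rw [hc] at hk2 ⊢
    have hck : c * k = 3 := by
      have : 7 * (c * k) = 21 := by rw [← mul_assoc]; exact hk2
      omega
    have hc3 : c ∣ 3 := Dvd.intro _ hck
    have hcle : c ≤ 3 := Nat.le_of_dvd (by norm_num) hc3
    interval_cases c
    · omega
    · have : k = 3 := by omega
      rw [this] at hk1
      norm_num at hk1
    · omega
    · rfl
  have e1 : normalizer ((P : Subgroup G) : Set G) ⊓ M = M :=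
    Subgroup.eq_of_le_of_card_ge inf_le_right (by rw [hc21, hM])
  have e2 : normalizer ((P : Subgroup G) : Set G) ⊓ M = normalizer ((P : Subgroup G) : Set G) :=
    Subgroup.eq_of_le_of_card_ge inf_le_left (by rw [hc21, card_normalizer_sylow7 h P])
  rw [← e1, e2]

/-- A subgroup of order 21 is not commutative. -/
theorem not_comm_of_card_twentyone (h : Nat.card G = 168) (M : Subgroup G)
    (hM : Nat.card ↥M = 21) : ¬ IsMulCommutative ↥M := by
  intro hc
  haveI : Fact (Nat.Prime 7) := ⟨by norm_num⟩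
  obtain ⟨P, hPM⟩ := exists_sylow7_le h M (by rw [hM]; norm_num)
  have hle : M ≤ centralizer ((P : Subgroup G) : Set G) := by
    intro x hx
    rw [mem_centralizer_iff]
    intro y hy
    have := hc.is_comm.comm ⟨y, hPM hy⟩ ⟨x, hx⟩
    exact congrArg Subtype.val this
  rw [centralizer_sylow7 h P] at hle
  have := Subgroup.card_le_of_le hle
  rw [hM, card_sylow7 h P] at this
  omega

omit [Finite G] [IsSimpleGroup G] in
/-- The image in `G` of a normal subgroup of `M` is normalized by `M`. -/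
theorem le_normalizer_map_subtype_of_normal (M : Subgroup G) (K : Subgroup ↥M) (hKn : K.Normal) :
    M ≤ normalizer ((K.map M.subtype : Subgroup G) : Set G) := by
  intro m hm
  rw [mem_normalizer_iff]
  intro x
  constructor
  · rintro ⟨k, hk, rfl⟩
    exact ⟨⟨m, hm⟩ * k * ⟨m, hm⟩⁻¹, hKn.conj_mem k hk ⟨m, hm⟩, rfl⟩
  · rintro ⟨k, hk, hkx⟩
    refine ⟨⟨m, hm⟩⁻¹ * k * ⟨m, hm⟩, ?_, ?_⟩
    · have := hKn.conj_mem k hk ⟨m, hm⟩⁻¹
      rwa [inv_inv] at this
    · have hkx' : (k : G) = m * x * m⁻¹ := hkx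
      show m⁻¹ * (k : G) * m = x
      rw [hkx']
      group

/-- A subgroup of order 12 lies in the normalizer of a Klein four-subgroup. -/
theorem le_normalizer_klein_of_card_twelve (h : Nat.card G = 168) (M : Subgroup G)
    (hM : Nat.card ↥M = 12) :
    ∃ U : Subgroup G, IsKleinFour ↥U ∧ M ≤ normalizer (U : Set G) := by
  haveI : Fact (Nat.Prime 3) := ⟨by norm_num⟩
  haveI : Fact (Nat.Prime 2) := ⟨by norm_num⟩
  obtain ⟨P, hPM⟩ := exists_sylow3_le h M (by rw [hM]; norm_num)
  obtain ⟨k, hk1, hk2, hk3⟩ := exists_card_inf_normalizer P M hPM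
  rw [hM] at hk2
  have hP3 := card_sylow3 h P
  rw [hP3] at hk3
  have hd6 : Nat.card ↥(normalizer ((P : Subgroup G) : Set G) ⊓ M : Subgroup G) ∣ 6 := by
    rw [← card_normalizer_sylow3 h P]
    exact Subgroup.card_dvd_of_le inf_le_left
  have hc3 : Nat.card ↥(normalizer ((P : Subgroup G) : Set G) ⊓ M : Subgroup G) = 3 := by
    obtain ⟨c, hc⟩ := hk3
    rw [hc] at hk2 hd6 ⊢
    have hck : c * k = 4 := by
      have : 3 * (c * k) = 12 := by rw [← mul_assoc]; exact hk2
      omega
    have hc2 : c ∣ 2 := Nat.dvd_of_mul_dvd_mul_left (by norm_num : 0 < 3) hd6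
    have hcle : c ≤ 2 := Nat.le_of_dvd (by norm_num) hc2
    interval_cases c
    · omega
    · rfl
    · have : k = 2 := by omega
      rw [this] at hk1
      norm_num at hk1
  have hNM : normalizer ((P : Subgroup G) : Set G) ⊓ M = (P : Subgroup G) :=
    (Subgroup.eq_of_le_of_card_ge (le_inf le_normalizer hPM) (by rw [hc3, hP3])).symm
  -- transfer inside M
  set P' : Sylow 3 ↥M := P.subtype hPM with hP'
  have hcomm : ∀ a ∈ (P : Subgroup G), ∀ b ∈ (P : Subgroup G), a * b = b * a := by
    intro a ha b hb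
    have hcyc : IsCyclic ↥(P : Subgroup G) := isCyclic_of_prime_card hP3
    exact congrArg Subtype.val (hcyc.isMulCommutative.is_comm.comm ⟨a, ha⟩ ⟨b, hb⟩)
  have hle : normalizer ((P' : Subgroup ↥M) : Set ↥M) ≤ centralizer ((P' : Subgroup ↥M) : Set ↥M) := by
    intro n hn
    rw [hP', Sylow.coe_subtype, ← subgroupOf_normalizer_eq hPM, mem_subgroupOf] at hn
    have hnP : (n : G) ∈ (P : Subgroup G) := by
      rw [← hNM]
      exact ⟨hn, n.2⟩
    rw [mem_centralizer_iff]
    intro x hx
    rw [SetLike.mem_coe, hP', Sylow.coe_subtype, mem_subgroupOf] at hx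
    apply Subtype.ext
    exact hcomm _ hx _ hnP
  set K : Subgroup ↥M := (MonoidHom.transferSylow P' hle).ker with hK
  have hcomp : IsComplement' K (P' : Subgroup ↥M) := MonoidHom.ker_transferSylow_isComplement' P' hle
  have hKn : K.Normal := MonoidHom.normal_ker _
  have hP'3 : Nat.card ↥(P' : Subgroup ↥M) = 3 := by
    rw [hP', Sylow.coe_subtype, card_subgroupOf_of_le hPM, hP3]
  have hK4 : Nat.card ↥K = 4 := by
    have := hcomp.card_mul_card
    rw [hP'3, hM] at this
    omega
  set U : Subgroup G := K.map M.subtype with hU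
  have hU4 : Nat.card ↥U = 4 := by rw [hU, Subgroup.card_subtype, hK4]
  have hMU : M ≤ normalizer (U : Set G) := le_normalizer_map_subtype_of_normal M K hKn
  by_cases hex : ∃ w ∈ U, orderOf w = 4
  · exfalso
    obtain ⟨w, hwU, hw4⟩ := hex
    have hzU : zpowers w = U := by
      apply Subgroup.eq_of_le_of_card_ge
      · rw [zpowers_le]; exact hwU
      · rw [Nat.card_zpowers, hw4, hU4]
    have hpg : IsPGroup 2 ↥(zpowers w) := by
      apply IsPGroup.of_card (n := 2)
      rw [Nat.card_zpowers, hw4]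
      norm_num
    obtain ⟨T, hT⟩ := hpg.exists_le_sylow
    have hN := normalizer_zpowers_eq h w hw4 T (hT (mem_zpowers w))
    rw [hzU] at hN
    rw [hN] at hMU
    have := Subgroup.card_le_of_le hMU
    rw [hM, card_sylow2 h T] at this
    omega
  · push Not at hex
    refine ⟨U, isKleinFour_of_card_of_sq U hU4 ?_, hMU⟩
    intro x hx
    exact sq_eq_one_of_card_four U hU4 x hx (hex x hx)

end Cfsg.Agent.Lib.Helper17.O168
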