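import Mathlib

/-! # S2314 hive (helper6), leaf UNI-M: Moebius inversion on the powerset. -/

set_option autoImplicit false

namespace Cfsg.Agent.Lib.Helper6.Uni

/-- The alternating sum over the interval `[K, T]` of the Boolean lattice. -/
theorem m_interval_sum {α : Type*} [DecidableEq α] (K T : Finset α) (hKT : K ⊆ T) :
    ∑ J ∈ T.powerset.filter (fun J => K ⊆ J), (-1 : ℂ) ^ J.card =
      if K = T then (-1 : ℂ) ^ T.card else 0 := by
  classical
  have h1 : T.powerset.filter (fun J => K ⊆ J) = (T \ K).powerset.image (fun L => K ∪ L) := by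
    ext J
    simp only [Finset.mem_filter, Finset.mem_powerset, Finset.mem_image]
    constructor
    · rintro ⟨hJT, hKJ⟩
      refine ⟨J \ K, ?_, ?_⟩
      · exact Finset.sdiff_subset_sdiff hJT (le_refl K)
      · exact Finset.union_sdiff_of_subset hKJ
    · rintro ⟨L, hL, rfl⟩
      exact ⟨Finset.union_subset hKT (hL.trans Finset.sdiff_subset), Finset.subset_union_left⟩
  have hdisj : ∀ L ∈ (T \ K).powerset, Disjoint K L := by
    intro L hL
    rw [Finset.mem_powerset] at hL
    refine Finset.disjoint_left.2 (fun x hxK hxL => ?_)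
    exact (Finset.mem_sdiff.1 (hL hxL)).2 hxK
  rw [h1, Finset.sum_image]
  · have h2 : ∀ L ∈ (T \ K).powerset, (-1 : ℂ) ^ (K ∪ L).card = (-1) ^ K.card * (-1) ^ L.card := by
      intro L hL
      rw [Finset.card_union_of_disjoint (hdisj L hL), pow_add]
    rw [Finset.sum_congr rfl h2, ← Finset.mul_sum]
    have h3 : ∑ L ∈ (T \ K).powerset, (-1 : ℂ) ^ L.card = if T \ K = ∅ then 1 else 0 := by
      have h4 := Finset.sum_powerset_neg_one_pow_card (x := T \ K)
      have h5 : ((∑ m ∈ (T \ K).powerset, (-1 : ℤ) ^ m.card : ℤ) : ℂ) =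
          ∑ L ∈ (T \ K).powerset, (-1 : ℂ) ^ L.card := by
        push_cast
        rfl
      rw [← h5, h4]
      split_ifs <;> simp
    rw [h3]
    by_cases hKT' : K = T
    · subst hKT'
      simp
    · have hne : T \ K ≠ ∅ := by
        intro h
        apply hKT'
        exact Finset.Subset.antisymm hKT (Finset.sdiff_eq_empty_iff_subset.1 h)
      simp [hKT', hne]
  · intro L1 hL1 L2 hL2 h
    have d1 := hdisj L1 hL1
    have d2 := hdisj L2 hL2
    simp only at h
    ext x
    constructor
    · intro hx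
      have : x ∈ K ∪ L2 := by rw [← h]; exact Finset.mem_union_right _ hx
      rcases Finset.mem_union.1 this with hxK | hx2
      · exact absurd hx (Finset.disjoint_left.1 d1 hxK)
      · exact hx2
    · intro hx
      have : x ∈ K ∪ L1 := by rw [h]; exact Finset.mem_union_right _ hx
      rcases Finset.mem_union.1 this with hxK | hx1
      · exact absurd hx (Finset.disjoint_left.1 d2 hxK)
      · exact hx1

/-- UNI-M. Solve the triangular system. With `b K := (-1)^|K| a K / c K` the hypothesis reads
`∑_{K ⊆ J} b K = u / c J`; Moebius inversion on the Boolean lattice gives the formula. -/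
theorem mobius_solve {α : Type*} [DecidableEq α] (T : Finset α) (c a : Finset α → ℂ) (u : ℂ)
    (hc : ∀ K ⊆ T, c K ≠ 0)
    (h : ∀ J ⊆ T, ∑ K ∈ J.powerset, (-1 : ℂ) ^ K.card * (c J / c K * a K) = u) :
    a T = u * ∑ K ∈ T.powerset, (-1 : ℂ) ^ K.card * (c T / c K) := by
  classical
  set b : Finset α → ℂ := fun K => (-1 : ℂ) ^ K.card * (a K / c K) with hb
  have hb_sum : ∀ J ⊆ T, ∑ K ∈ J.powerset, b K = u / c J := by
    intro J hJ
    have hcJ := hc J hJ
    rw [eq_div_iff hcJ, Finset.sum_mul, ← h J hJ]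
    refine Finset.sum_congr rfl (fun K hK => ?_)
    have hcK : c K ≠ 0 := hc K ((Finset.mem_powerset.1 hK).trans hJ)
    simp only [hb]
    field_simp
  have key : ∑ J ∈ T.powerset, (-1 : ℂ) ^ J.card * (u / c J) = (-1 : ℂ) ^ T.card * b T := by
    calc ∑ J ∈ T.powerset, (-1 : ℂ) ^ J.card * (u / c J)
        = ∑ J ∈ T.powerset, ∑ K ∈ J.powerset, (-1 : ℂ) ^ J.card * b K := by
          refine Finset.sum_congr rfl (fun J hJ => ?_)
          rw [← hb_sum J (Finset.mem_powerset.1 hJ), Finset.mul_sum]
      _ = ∑ K ∈ T.powerset, ∑ J ∈ T.powerset.filter (fun J => K ⊆ J), (-1 : ℂ) ^ J.card * b K := by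
          refine Finset.sum_comm' ?_
          intro J K
          simp only [Finset.mem_powerset, Finset.mem_filter]
          constructor
          · rintro ⟨hJ, hK⟩
            exact ⟨⟨hJ, hK⟩, hK.trans hJ⟩
          · rintro ⟨⟨hJ, hK⟩, _⟩
            exact ⟨hJ, hK⟩
      _ = ∑ K ∈ T.powerset, (if K = T then (-1 : ℂ) ^ T.card else 0) * b K := by
          refine Finset.sum_congr rfl (fun K hK => ?_)
          rw [← Finset.sum_mul, m_interval_sum K T (Finset.mem_powerset.1 hK)]
      _ = (-1 : ℂ) ^ T.card * b T := by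
          rw [Finset.sum_eq_single T]
          · simp
          · intro K _ hKT
            simp [hKT]
          · intro hT
            exact absurd (Finset.mem_powerset.2 (Finset.Subset.refl T)) hT
  have hcT := hc T (Finset.Subset.refl T)
  have hsq : ((-1 : ℂ) ^ T.card) * ((-1 : ℂ) ^ T.card) = 1 := by
    rw [← mul_pow]
    simp
  have h1 : a T / c T = ∑ J ∈ T.powerset, (-1 : ℂ) ^ J.card * (u / c J) := by
    rw [key]
    simp only [hb]
    rw [← mul_assoc, hsq, one_mul]
  rw [div_eq_iff hcT] at h1
  rw [h1, Finset.sum_mul, Finset.mul_sum]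
  refine Finset.sum_congr rfl (fun J hJ => ?_)
  have hcJ := hc J (Finset.mem_powerset.1 hJ)
  field_simp

end Cfsg.Agent.Lib.Helper6.Uni
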